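import Groth.Agent.AzInvLib.Main

/-!
# Spreading out inner automorphisms
-/

namespace Groth.Agent.AzInvLib.Conj

open TensorProduct AzInv Groth.Agent.HenselLib Groth.Agent.AzInvLib.Units Groth.Agent.AzInvLib.Std
  Groth.Agent.AzInvLib.Spread

universe u v w

variable {S : Type u} {R : Type v} [CommRing S] [CommRing R] [Algebra S R] {lam : R ≃ₐ[S] R}
  {A : Type w} [Ring A] [Algebra S A] [Algebra R A] [IsScalarTower S R A]

/-- `u` conjugates to `ψ`, with inverse `v`. -/
structure IsConj (C : Type u) [CommRing C] [Algebra S C] (ψ : A ≃ₐ[R] A) (u v : C ⊗[S] A) : Prop where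
  uv : u * v = 1
  vu : v * u = 1
  eq : ∀ a : A, ((1 : C) ⊗ₜ[S] ψ a) * u = u * ((1 : C) ⊗ₜ[S] a)

theorem IsConj.tmap {C D : Type u} [CommRing C] [Algebra S C] [CommRing D] [Algebra S D]
    (φ : C →ₐ[S] D) {ψ : A ≃ₐ[R] A} {u v : C ⊗[S] A} (h : IsConj C ψ u v) :
    IsConj D ψ (Spread.tmap φ u) (Spread.tmap φ v) := by
  refine ⟨by rw [← tmap_mul, h.uv, tmap_one], by rw [← tmap_mul, h.vu, tmap_one], fun a => ?_⟩
  have := congrArg (Spread.tmap φ) (h.eq a)
  simpa [tmap_mul] using this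

theorem conj_eq {C : Type u} [CommRing C] [Algebra S C] {ψ : A ≃ₐ[R] A} {u v : C ⊗[S] A}
    (h : IsConj C ψ u v) (x : C ⊗[S] A) :
    Algebra.TensorProduct.congr (AlgEquiv.refl : C ≃ₐ[C] C) (ψ.restrictScalars S) x = u * x * v := by
  induction x using TensorProduct.induction_on with
  | zero => simp
  | add a b ha hb => rw [map_add, ha, hb, mul_add, add_mul]
  | tmul c a =>
    have e1 : Algebra.TensorProduct.congr (AlgEquiv.refl : C ≃ₐ[C] C) (ψ.restrictScalars S)
        (c ⊗ₜ[S] a) = c • (((1 : C) ⊗ₜ[S] ψ a) * u * v) := by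
      rw [mul_assoc, h.uv, mul_one, TensorProduct.smul_tmul', smul_eq_mul, mul_one]
      simp
    rw [e1, h.eq, ← smul_mul_assoc, ← mul_smul_comm, TensorProduct.smul_tmul', smul_eq_mul, mul_one]

/-- Existence of a conjugating element, with a unitary condition when `b` holds. -/
def HasConj (C : Type u) [CommRing C] [Algebra S C] (t : Option (LamInv R A lam)) (ψ : A ≃ₐ[R] A) :
    Prop :=
  ∃ u v : C ⊗[S] A, IsConj C ψ u v ∧ ∀ t' ∈ t, t'.bc S lam C u * u = 1

theorem HasConj.map {C D : Type u} [CommRing C] [Algebra S C] [CommRing D] [Algebra S D]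
    (φ : C →ₐ[S] D) {t : Option (LamInv R A lam)} {ψ : A ≃ₐ[R] A} (h : HasConj C t ψ) :
    HasConj D t ψ := by
  obtain ⟨u, v, huv, ht⟩ := h
  refine ⟨_, _, huv.tmap φ, fun t' ht' => ?_⟩
  rw [← tmap_bc, ← tmap_mul, ht t' ht', tmap_one]

theorem hasConj_nbhd [Module.Finite R A] {K : Type u} [Field K] [Algebra S K] {H : Type u}
    [CommRing H] [Algebra S H] {ρ : H →ₐ[S] K} (h : IsNbhdColim S K H ρ)
    {t : Option (LamInv R A lam)} {ψ : A ≃ₐ[R] A} (he : HasConj H t ψ) :
    ∃ (C : Type u) (_ : CommRing C) (_ : Algebra S C) (_ : Algebra.Etale S C) (_ : C →ₐ[S] H),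
      HasConj C t ψ := by
  obtain ⟨u, v, huv, ht⟩ := he
  obtain ⟨C, _, _, _, τ, y, hy⟩ := exists_rep_family h fun b : Bool => cond b u v
  obtain ⟨m, g, hg⟩ := Module.Finite.exists_fin (R := R) (M := A)
  have hyu : tmap τ (y true) = u := hy true
  have hyv : tmap τ (y false) = v := hy false
  let F : (Bool ⊕ Fin m) ⊕ Unit → C ⊗[S] A := Sum.elim (Sum.elim
      (fun b => if b then y true * y false - 1 else y false * y true - 1)
      (fun k => ((1 : C) ⊗ₜ[S] ψ (g k)) * y true - y true * ((1 : C) ⊗ₜ[S] g k)))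
    (fun _ => t.elim 0 fun t' => t'.bc S lam C (y true) * y true - 1)
  obtain ⟨D, _, _, _, φ, τ', -, hk⟩ := exists_kill_family h C τ F (by
    rintro ((b | k) | _)
    · cases b <;> simp [F, tmap_mul, tmap_one, hyu, hyv, huv.uv, huv.vu]
    · simp [F, tmap_mul, hyu, huv.eq]
    · cases t with
      | none => simp [F]
      | some t' => simp [F, tmap_mul, tmap_one, tmap_bc, hyu, ht t' rfl])
  refine ⟨D, _, _, inferInstance, τ', tmap φ (y true), tmap φ (y false), ⟨?_, ?_, fun a => ?_⟩, ?_⟩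
  · simpa [F, tmap_mul, tmap_one, sub_eq_zero] using hk (.inl (.inl true))
  · simpa [F, tmap_mul, tmap_one, sub_eq_zero] using hk (.inl (.inl false))
  · have ha : a ∈ Submodule.span R (Set.range g) := hg ▸ Submodule.mem_top
    induction ha using Submodule.span_induction with
    | mem x hx =>
      obtain ⟨k, rfl⟩ := hx
      simpa [F, tmap_mul, sub_eq_zero] using hk (.inl (.inr k))
    | zero => simp
    | add a b _ _ ha hb => rw [map_add, TensorProduct.tmul_add, add_mul, ha, hb, TensorProduct.tmul_add, mul_add]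
    | smul r a _ ha =>
      have hr : ∀ z : A, (1 : D) ⊗ₜ[S] (r • z) = jC D A ((1 : D) ⊗ₜ[S] r) * ((1 : D) ⊗ₜ[S] z) :=
        fun z => by simp [Algebra.smul_def]
      rw [map_smul, hr, hr, mul_assoc, ha, ← mul_assoc, jC_comm, mul_assoc]
  · intro t' ht'
    cases ht'
    simpa [F, tmap_mul, tmap_one, tmap_bc, sub_eq_zero] using hk (.inr ())

theorem hasConj_pi {t : Option (LamInv R A lam)} {ψ : A ≃ₐ[R] A} (κ : Type u) [Fintype κ]
    [DecidableEq κ] (C : κ → Type u) [∀ i, CommRing (C i)] [∀ i, Algebra S (C i)]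
    (h : ∀ i, HasConj (C i) t ψ) : HasConj (∀ i, C i) t ψ := by
  choose u v huv ht using h
  obtain ⟨hi, hs⟩ := bijective_proj (M := A) S C
  obtain ⟨U, hU⟩ := hs u
  obtain ⟨V, hV⟩ := hs v
  have hU : ∀ i, tmap (Pi.evalAlgHom S C i) U = u i := congrFun hU
  have hV : ∀ i, tmap (Pi.evalAlgHom S C i) V = v i := congrFun hV
  refine ⟨U, V, ⟨hi (funext fun i => ?_), hi (funext fun i => ?_), fun a => hi (funext fun i => ?_)⟩,
    fun t' ht' => hi (funext fun i => ?_)⟩
  · simp [tmap_mul, tmap_one, hU, hV, (huv i).uv]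
  · simp [tmap_mul, tmap_one, hU, hV, (huv i).vu]
  · simp [tmap_mul, hU, (huv i).eq]
  · simp [tmap_mul, tmap_one, tmap_bc, hU, ht i t' ht']

/-- A conjugating element over an étale covering. -/
theorem exists_global [Module.Finite R A] (t : Option (LamInv R A lam)) (ψ : A ≃ₐ[R] A)
    (hpt : ∀ (K : Type u) [Field K] [Algebra S K] [IsSepClosed K] (H : Type u) [CommRing H]
      [Algebra S H] (ρ : H →ₐ[S] K), IsNbhdColim S K H ρ → HasConj H t ψ) :
    ∃ (S' : Type u) (_ : CommRing S') (_ : Algebra S S') (_ : Algebra.Etale S S')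
      (_ : Module.FaithfullyFlat S S'), HasConj S' t ψ := by
  refine exists_cover S (fun C _ _ => HasConj C t ψ) (fun p => ?_)
    fun κ _ _ C _ _ hC => hasConj_pi κ C hC
  obtain ⟨K, _, _, H, _, _, ρ, hK, hker, h⟩ := Point.exists_point S p.asIdeal
  haveI := hK
  obtain ⟨C, _, _, hC, τ, hP⟩ := hasConj_nbhd h (hpt K H ρ h)
  exact ⟨C, _, _, hC, mem_range h p hker τ, hP⟩

end Groth.Agent.AzInvLib.Conj
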