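import Groth.Agent.AzInvLib.Types

/-!
# Conjugated transposes as models
-/

namespace Groth.Agent.AzInvLib.ConjModel

open TensorProduct AzInv Groth.Agent.AzInvLib.Std

universe u v

variable {S : Type u} {R : Type v} [CommRing S] [CommRing R] [Algebra S R] {lam : R ≃ₐ[S] R}

theorem mul_single_mul_apply {ι : Type} [Fintype ι] [DecidableEq ι] (w w' : Matrix ι ι R)
    (i j k l : ι) : (w * Matrix.single j i (1 : R) * w') k l = w k j * w' i l := by
  simp [Matrix.mul_apply, Matrix.single, ite_and]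

/-- A conjugated transpose has the normal form given by the integral images of the conjugating
matrix and its inverse. -/
theorem hasStd_conj {C : Type u} [CommRing C] [Algebra S C] {n : ℕ}
    (hlam : ∀ r, lam (lam r) = r) (w : (Matrix (Fin n) (Fin n) R)ˣ) (e : R)
    (hw : LamInv.transpose lam (Fin n) hlam (↑w : Matrix (Fin n) (Fin n) R) =
      e • (↑w : Matrix (Fin n) (Fin n) R))
    (he : lam e * e = 1) (W W' : Matrix (Fin n) (Fin n) ℤ)
    (h₁ : ∀ i j, (1 : C) ⊗ₜ[S] (↑w : Matrix (Fin n) (Fin n) R) i j = ((W i j : ℤ) : C ⊗[S] R))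
    (h₂ : ∀ i j, (1 : C) ⊗ₜ[S] (↑w⁻¹ : Matrix (Fin n) (Fin n) R) i j = ((W' i j : ℤ) : C ⊗[S] R)) :
    HasStd C ((LamInv.transpose lam (Fin n) hlam).conj w e hw he) W W' := by
  refine Types.hasStd_model _ W W' fun i j k l => ?_
  rw [LamInv.conj_apply, show LamInv.transpose lam (Fin n) hlam (Matrix.single i j (1 : R)) =
      Matrix.single j i 1 by
    ext a b
    simp only [LamInv.transpose_apply, Matrix.single, Matrix.of_apply]
    split_ifs <;> simp_all,
    mul_single_mul_apply, Int.cast_mul, ← h₁, ← h₂, Algebra.TensorProduct.tmul_mul_tmul, mul_one]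

/-- The symplectic involution of `2 × 2` matrices. -/
theorem hasStd_symp {C : Type u} [CommRing C] [Algebra S C] (hlam : ∀ r, lam (lam r) = r)
    (J : (Matrix (Fin 2) (Fin 2) R)ˣ) (e : R) (hJ : (↑J : Matrix (Fin 2) (Fin 2) R) = Matrix.of ![![0, -1], ![1, 0]])
    (hJt : LamInv.transpose lam (Fin 2) hlam (↑J : Matrix (Fin 2) (Fin 2) R) = e • (↑J : Matrix (Fin 2) (Fin 2) R))
    (he : lam e * e = 1) :
    HasStd C ((LamInv.transpose lam (Fin 2) hlam).conj J e hJt he) (Herm.stdJ ℤ 2) (-Herm.stdJ ℤ 2) := by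
  have hJs : (↑J : Matrix (Fin 2) (Fin 2) R) = -Herm.stdJ R 2 := by
    rw [hJ]; ext a b; fin_cases a <;> fin_cases b <;> simp [Herm.stdJ]
  have hJinv : (↑J⁻¹ : Matrix (Fin 2) (Fin 2) R) = Herm.stdJ R 2 := by
    refine left_inv_eq_right_inv (a := (↑J : Matrix (Fin 2) (Fin 2) R)) J.inv_mul ?_
    rw [hJs, neg_mul, ← mul_neg]
    exact Herm.stdJ_sq 1
  have hc : ∀ a b, ((Herm.stdJ ℤ 2 a b : ℤ) : C ⊗[S] R) = (1 : C) ⊗ₜ[S] (Herm.stdJ R 2 a b) := fun a b => by
    rw [← map_intCast (Algebra.TensorProduct.includeRight (R := S) (A := C) (B := R)),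
      Algebra.TensorProduct.includeRight_apply]
    congr 1
    exact congrFun (congrFun (Herm.stdJ_map (Int.castRingHom R) 2) a) b
  refine Types.hasStd_model _ _ _ fun i j a b => ?_
  rw [LamInv.conj_apply, show LamInv.transpose lam (Fin 2) hlam (Matrix.single i j (1 : R)) =
    Matrix.single j i 1 by
      ext c d
      simp only [LamInv.transpose_apply, Matrix.single, Matrix.of_apply]
      split_ifs <;> simp_all,
    mul_single_mul_apply, hJs, hJinv, Matrix.neg_apply, Matrix.neg_apply, mul_neg, Int.cast_neg,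
    Int.cast_mul, hc, hc, Algebra.TensorProduct.tmul_mul_tmul, mul_one, neg_mul, TensorProduct.tmul_neg]

end Groth.Agent.AzInvLib.ConjModel
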