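import Groth.Prelude.Def_W4c2azumayainvolQEt
import Mathlib.RingTheory.Unramified.Field
import Mathlib.RingTheory.Smooth.Fiber
import Mathlib.RingTheory.Flat.LocallyFree
import Mathlib.RingTheory.Flat.Rank
import Mathlib.RingTheory.Finiteness.ModuleFinitePresentation
import Mathlib.RingTheory.Flat.FaithfullyFlat.Algebra
import Mathlib.FieldTheory.IsAlgClosed.AlgebraicClosure
import Mathlib.RingTheory.TensorProduct.Maps
import Mathlib.RingTheory.LocalRing.ResidueField.Ideal
import Mathlib.LinearAlgebra.Dimension.StrongRankCondition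

/-!
# Quadratic étale algebras with involution
-/

namespace Groth.Agent.AzInvLib.QEt

open TensorProduct Module

universe u v

variable {S : Type u} {R : Type v} [CommRing S] [CommRing R] [Algebra S R]

theorem etale (hq : RInv.IsQuadEtale S R) : Algebra.Etale S R := by
  obtain ⟨h1, h2, h3, -⟩ := hq
  haveI : Module.FinitePresentation S R := Module.finitePresentation_of_projective S R
  exact Algebra.Etale.of_formallyUnramified_of_flat

theorem faithfullyFlat (hq : RInv.IsQuadEtale S R) : Module.FaithfullyFlat S R := by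
  obtain ⟨h1, h2, h3, h4⟩ := hq
  exact Module.FaithfullyFlat.of_comap_surjective
    (PrimeSpectrum.rankAtStalk_pos_iff_comap_surjective.1 fun p => by rw [h4]; norm_num)

variable (lam : R ≃ₐ[S] R)

theorem span_eq_top (hlam : ∀ r, lam (lam r) = r) (hfix : RInv.IsFixedRing S R lam.toRingEquiv)
    (hq : RInv.IsQuadEtale S R) :
    Ideal.span (Set.range fun w : R => w - lam w) = ⊤ := by
  classical
  obtain ⟨h1, h2, h3, h4⟩ := hq
  by_contra hne
  obtain ⟨q, hq, hle⟩ := Ideal.exists_le_maximal _ hne
  let p : Ideal S := q.comap (algebraMap S R)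
  haveI : p.IsPrime := Ideal.IsPrime.comap _
  let K := AlgebraicClosure p.ResidueField
  let L := K ⊗[S] R
  haveI : IsReduced L := Algebra.FormallyUnramified.isReduced_of_field K L
  have hdim : finrank K L = 2 := by
    have := Module.rankAtStalk_eq_finrank_of_free (R := K) (M := L)
    rw [← h4 ⟨p, inferInstance⟩]
    have h := congr_fun this (⟨⊥, Ideal.isPrime_bot⟩ : PrimeSpectrum K)
    rw [Module.rankAtStalk_baseChange, h4] at h
    simpa [h4] using h.symm
  -- some element spans with `1`
  obtain ⟨w, hw⟩ : ∃ w : R, ∀ c : K, (1 : K) ⊗ₜ[S] w ≠ c • (1 : L) := by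
    by_contra! hc
    have : (⊤ : Submodule K L) ≤ Submodule.span K {1} := by
      intro x _
      induction x using TensorProduct.induction_on with
      | zero => exact zero_mem _
      | add a b ha hb => exact add_mem (ha trivial) (hb trivial)
      | tmul k r =>
        obtain ⟨c, hc⟩ := hc r
        rw [show k ⊗ₜ[S] r = k • ((1 : K) ⊗ₜ[S] r) by rw [TensorProduct.smul_tmul', smul_eq_mul, mul_one],
          hc, smul_smul]
        exact Submodule.smul_mem _ _ (Submodule.mem_span_singleton_self 1)
    have h' := Submodule.finrank_mono this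
    rw [finrank_top, hdim] at h'
    have := h'.trans (finrank_span_le_card ({1} : Set L))
    simp at this
  have hfix' : ∀ r : R, lam r = r → ∃ s, algebraMap S R s = r := fun r hr => (hfix.2 r).1 hr
  obtain ⟨a, ha⟩ := hfix' (w + lam w) (by rw [map_add, hlam, add_comm])
  obtain ⟨N, hN⟩ := hfix' (w * lam w) (by rw [map_mul, hlam, mul_comm])
  have hmem : a ^ 2 - 4 * N ∈ p := by
    show algebraMap S R (a ^ 2 - 4 * N) ∈ q
    have h : w - lam w ∈ q := hle (Ideal.subset_span ⟨w, rfl⟩)
    have e : algebraMap S R (a ^ 2 - 4 * N) = (w - lam w) * (w - lam w) := by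
      rw [map_sub, map_pow, map_mul, ha, hN, map_ofNat]; ring
    rw [e]
    exact q.mul_mem_left _ h
  have hK : algebraMap S K (a ^ 2 - 4 * N) = 0 := by
    rw [IsScalarTower.algebraMap_apply S p.ResidueField K,
      Ideal.algebraMap_residueField_eq_zero.2 hmem, map_zero]
  let x : L := (1 : K) ⊗ₜ[S] w
  have hrel : x * x - algebraMap S L a * x + algebraMap S L N = 0 := by
    have e : w * w - algebraMap S R a * w + algebraMap S R N = 0 := by rw [ha, hN]; ring
    have := congr_arg (Algebra.TensorProduct.includeRight (R := S) (A := K) (B := R)) e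
    simp only [map_add, map_sub, map_mul, AlgHom.commutes, map_zero] at this
    exact this
  have hdisc : algebraMap S L (a ^ 2 - 4 * N) = 0 := by
    rw [IsScalarTower.algebraMap_apply S K L, hK, map_zero]
  have hsq : (2 * x - algebraMap S L a) * (2 * x - algebraMap S L a) = 0 := by
    simp only [map_sub, map_pow, map_mul, map_ofNat] at hdisc
    linear_combination 4 * hrel + hdisc
  have h2x : 2 * x = algebraMap S L a :=
    sub_eq_zero.1 (IsNilpotent.eq_zero ⟨2, by rw [pow_two]; exact hsq⟩)
  have h2 : (2 : K) = 0 := by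
    by_contra h2
    apply hw ((2 : K)⁻¹ * algebraMap S K a)
    show x = _
    calc x = (2 : K)⁻¹ • ((2 : K) • x) := by rw [smul_smul, inv_mul_cancel₀ h2, one_smul]
      _ = (2 : K)⁻¹ • algebraMap S L a := by rw [← h2x, Algebra.smul_def (2 : K) x, map_ofNat]
      _ = _ := by
        rw [IsScalarTower.algebraMap_apply S K L, Algebra.algebraMap_eq_smul_one, smul_smul]
  have h2L : (2 : L) = 0 := by rw [← map_ofNat (algebraMap K L) 2, h2, map_zero]
  have ha0 : algebraMap S L a = 0 := by rw [← h2x, h2L, zero_mul]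
  obtain ⟨c, hc⟩ := IsAlgClosed.exists_eq_mul_self (algebraMap S K N)
  have hN' : algebraMap S L N = algebraMap K L c * algebraMap K L c := by
    rw [IsScalarTower.algebraMap_apply S K L, hc, map_mul]
  have hxc : (x - algebraMap K L c) * (x - algebraMap K L c) = 0 := by
    linear_combination hrel + x * ha0 - hN' - (x * algebraMap K L c) * h2L
  apply hw c
  rw [← Algebra.algebraMap_eq_smul_one]
  exact sub_eq_zero.1 (IsNilpotent.eq_zero ⟨2, by rw [pow_two]; exact hxc⟩)

/-- The map `R ⊗ R → R × R`, `r ⊗ x ↦ (r x, r * lam x)`. -/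
noncomputable def splitHom : R ⊗[S] R →ₐ[R] R × R :=
  Algebra.TensorProduct.lift (Algebra.ofId R (R × R))
    ((AlgHom.id S R).prod lam.toAlgHom) fun _ _ => Commute.all _ _

@[simp] theorem splitHom_tmul (r x : R) : splitHom lam (r ⊗ₜ[S] x) = (r * x, r * lam x) := by
  simp [splitHom, Algebra.ofId_apply]

theorem bijective_splitHom (hlam : ∀ r, lam (lam r) = r)
    (hfix : RInv.IsFixedRing S R lam.toRingEquiv) (hq : RInv.IsQuadEtale S R) :
    Function.Bijective (splitHom (S := S) lam) := by
  have htop := span_eq_top lam hlam hfix hq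
  obtain ⟨h1, h2, h3, h4⟩ := hq
  let I : Submodule R R :=
    (LinearMap.range (splitHom (S := S) lam).toLinearMap).comap (LinearMap.inl R R R)
  have hI : I = ⊤ := by
    rw [eq_top_iff, ← htop]
    refine Ideal.span_le.2 ?_
    rintro _ ⟨w, rfl⟩
    exact ⟨(1 : R) ⊗ₜ[S] w - lam w ⊗ₜ[S] 1, by simp⟩
  obtain ⟨E, hE⟩ : (1 : R) ∈ I := by rw [hI]; trivial
  have hE : splitHom lam E = (1, 0) := by simpa using hE
  have hs : Function.Surjective (splitHom (S := S) lam) := fun z =>
    ⟨(z.1 ⊗ₜ[S] (1 : R)) * E + (z.2 ⊗ₜ[S] (1 : R)) * (1 - E), by ext <;> simp [hE]⟩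
  refine Module.bijective_of_surjective_of_rankAtStalk_eq (φ := (splitHom (S := S) lam).toLinearMap)
    hs fun m hm => ?_
  haveI : Nontrivial R := nontrivial_of_ne 0 1 fun h => hm.ne_top
    ((Ideal.eq_top_iff_one m).2 (h ▸ m.zero_mem))
  rw [Module.rankAtStalk_baseChange, h4, Module.rankAtStalk_prod, Pi.add_apply, Module.rankAtStalk_self]
  rfl

/-- Existence of the separability idempotent attached to the involution. -/
theorem exists_idem (hlam : ∀ r, lam (lam r) = r) (hfix : RInv.IsFixedRing S R lam.toRingEquiv)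
    (hq : RInv.IsQuadEtale S R) :
    ∃ E : R ⊗[S] R, splitHom lam E = (1, 0) ∧
      (∀ x : R, ((1 : R) ⊗ₜ[S] x) * E = (x ⊗ₜ[S] 1) * E) ∧
      (∀ x : R, ((1 : R) ⊗ₜ[S] x) * (1 - E) = (lam x ⊗ₜ[S] 1) * (1 - E)) := by
  obtain ⟨hi, hs⟩ := bijective_splitHom lam hlam hfix hq
  obtain ⟨E, hE⟩ := hs (1, 0)
  refine ⟨E, hE, fun x => hi ?_, fun x => hi ?_⟩ <;> ext <;> simp [hE]

end Groth.Agent.AzInvLib.QEt
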