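import Groth.Prelude.Def_AzInv
import Groth.Agent.AzInvLib.QuadEtale
import Mathlib.Algebra.Algebra.Opposite
import Mathlib.Algebra.Algebra.Prod
import Mathlib.RingTheory.TensorProduct.Maps

/-!
# Over a splitting of a quadratic étale extension, a `lam`-involution is an exchange involution
-/

namespace Groth.Agent.AzInvLib.Exchange

open TensorProduct MulOpposite AzInv

universe u v w w'

variable {S : Type u} {R : Type v} [CommRing S] [CommRing R] [Algebra S R] {lam : R ≃ₐ[S] R}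
  {S' : Type u} [CommRing S'] [Algebra S S'] [Algebra R S'] [IsScalarTower S R S'] {n : ℕ}
  {A : Type w} [Ring A] [Algebra S A] [Algebra R A] [IsScalarTower S R A]

local notation "M" => Matrix (Fin n) (Fin n) S'

/-- The map `A → M × Mᵒᵖ` attached to a splitting and an involution. -/
noncomputable def pairHom (φ : S' ⊗[R] A ≃ₐ[S'] M) (t : LamInv R A lam) : A →ₐ[S] M × Mᵐᵒᵖ where
  toFun a := (φ (1 ⊗ₜ a), op (φ (1 ⊗ₜ t a)))
  map_one' := by simp [← Algebra.TensorProduct.one_def]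
  map_mul' a b := by
    ext1
    · simp [← map_mul]
    · simp [← map_mul, ← op_mul, t.map_mul]
  map_zero' := by simp
  map_add' a b := by simp [TensorProduct.tmul_add, t.map_add]
  commutes' s := by
    have key : ∀ r : R, φ ((1 : S') ⊗ₜ algebraMap R A r) = algebraMap R M r := fun r => by
      rw [← Algebra.TensorProduct.includeRight_apply, AlgHom.commutes,
        IsScalarTower.algebraMap_apply R S' (S' ⊗[R] A), AlgEquiv.commutes,
        ← IsScalarTower.algebraMap_apply]
    rw [IsScalarTower.algebraMap_apply S R A, LamInv.map_algebraMap, AlgEquiv.commutes, key,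
      Prod.algebraMap_apply, MulOpposite.algebraMap_apply, ← IsScalarTower.algebraMap_apply]

/-- The map `S' ⊗[S] A → M × Mᵒᵖ`. -/
noncomputable def theta (φ : S' ⊗[R] A ≃ₐ[S'] M) (t : LamInv R A lam) :
    S' ⊗[S] A →ₐ[S'] M × Mᵐᵒᵖ :=
  Algebra.TensorProduct.lift (Algebra.ofId _ _) (pairHom φ t) fun c _ => Algebra.commutes c _

@[simp] theorem theta_tmul (φ : S' ⊗[R] A ≃ₐ[S'] M) (t : LamInv R A lam) (c : S') (a : A) :
    theta φ t (c ⊗ₜ a) = (φ (c ⊗ₜ a), op (φ (c ⊗ₜ t a))) := by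
  have h : ∀ b : A, φ (c ⊗ₜ[R] b) = c • φ (1 ⊗ₜ b) := fun b => by
    rw [← map_smul, TensorProduct.smul_tmul', smul_eq_mul, mul_one]
  simp [theta, Algebra.ofId_apply, ← Algebra.smul_def, pairHom, h, op_smul]
  rw [Algebra.smul_def, MulOpposite.algebraMap_apply]

/-- The exchange involution. -/
def swap (x : M × Mᵐᵒᵖ) : M × Mᵐᵒᵖ := (unop x.2, op x.1)

theorem theta_bc (φ : S' ⊗[R] A ≃ₐ[S'] M) (t : LamInv R A lam) (x : S' ⊗[S] A) :
    theta φ t (t.bc S lam S' x) = swap (theta φ t x) := by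
  induction x using TensorProduct.induction_on with
  | zero => simp [swap, Prod.ext_iff]
  | add a b ha hb =>
    rw [map_add, map_add, ha, hb, map_add]
    simp [swap]
  | tmul c a => simp [swap]

/-- The map `R ⊗ R → S' ⊗[S] A`. -/
noncomputable def iota : R ⊗[S] R →ₐ[S] S' ⊗[S] A :=
  Algebra.TensorProduct.map (IsScalarTower.toAlgHom S R S') (IsScalarTower.toAlgHom S R A)

theorem theta_iota (φ : S' ⊗[R] A ≃ₐ[S'] M) (t : LamInv R A lam) (z : R ⊗[S] R) :
    theta φ t (iota z) =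
      (algebraMap R M (QEt.splitHom lam z).1, op (algebraMap R M (QEt.splitHom lam z).2)) := by
  induction z using TensorProduct.induction_on with
  | zero => simp [Prod.ext_iff]
  | add a b ha hb => simp [map_add, ha, hb]
  | tmul r x =>
    have key : ∀ y : R, φ (algebraMap R S' r ⊗ₜ algebraMap R A y) = algebraMap R M (r * y) := by
      intro y
      rw [Algebra.algebraMap_eq_smul_one y, ← TensorProduct.smul_tmul, Algebra.smul_def, ← map_mul,
        mul_comm y r, ← mul_one (algebraMap R S' (r * y)), ← smul_eq_mul (algebraMap R S' (r * y)) 1,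
        ← TensorProduct.smul_tmul', ← Algebra.TensorProduct.one_def, map_smul, map_one,
        algebraMap_smul, ← Algebra.algebraMap_eq_smul_one]
    simp [iota, LamInv.map_algebraMap, key]

theorem theta_unit (φ : S' ⊗[R] A ≃ₐ[S'] M) (t : LamInv R A lam) (r : R) :
    theta φ t ((1 : S') ⊗ₜ algebraMap R A r) = (algebraMap R M r, op (algebraMap R M (lam r))) := by
  have h := theta_iota φ t ((1 : R) ⊗ₜ[S] r)
  simpa [iota] using h

theorem bijective_theta (φ : S' ⊗[R] A ≃ₐ[S'] M) (t : LamInv R A lam) (E : R ⊗[S] R)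
    (hE : QEt.splitHom lam E = (1, 0))
    (hE1 : ∀ x : R, ((1 : R) ⊗ₜ[S] x) * E = (x ⊗ₜ[S] 1) * E)
    (hE2 : ∀ x : R, ((1 : R) ⊗ₜ[S] x) * (1 - E) = (lam x ⊗ₜ[S] 1) * (1 - E))
    (hlam : ∀ r, lam (lam r) = r) :
    Function.Bijective (theta φ t) := by
  let e : S' ⊗[S] A := iota E
  have hr : ∀ (r : R) (c : S') (a : A), (r • c) ⊗ₜ[S] a = (c ⊗ₜ[S] a) * iota (r ⊗ₜ[S] (1 : R)) := by
    intro r c a
    simp [iota, Algebra.smul_def, mul_comm]
  have hl : ∀ (r : R) (c : S') (a : A), c ⊗ₜ[S] (r • a) = (c ⊗ₜ[S] a) * iota ((1 : R) ⊗ₜ[S] r) := by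
    intro r c a
    simp [iota, Algebra.smul_def, Algebra.commutes r a]
  let f₁ : S' →+ A →+ S' ⊗[S] A := AddMonoidHom.mk'
    (fun c => AddMonoidHom.mk' (fun a => (c ⊗ₜ a) * e) fun a b => by
      simp [TensorProduct.tmul_add, add_mul])
    (fun c d => by ext a; simp [TensorProduct.add_tmul, add_mul])
  let f₂ : S' →+ A →+ S' ⊗[S] A := AddMonoidHom.mk'
    (fun c => AddMonoidHom.mk' (fun a => (c ⊗ₜ t a) * (1 - e)) fun a b => by
      simp [t.map_add, TensorProduct.tmul_add, add_mul])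
    (fun c d => by ext a; simp [TensorProduct.add_tmul, add_mul])
  have h₁ : ∀ (r : R) (c : S') (a : A), f₁ (r • c) a = f₁ c (r • a) := by
    intro r c a
    show ((r • c) ⊗ₜ[S] a) * e = (c ⊗ₜ[S] (r • a)) * e
    rw [hr, hl, mul_assoc, mul_assoc]
    show _ * (_ * iota E) = _ * (_ * iota E)
    rw [← map_mul, ← map_mul, hE1]
  have h₂ : ∀ (r : R) (c : S') (a : A), f₂ (r • c) a = f₂ c (r • a) := by
    intro r c a
    show ((r • c) ⊗ₜ[S] t a) * (1 - e) = (c ⊗ₜ[S] t (r • a)) * (1 - e)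
    rw [t.map_smul, hr, hl, mul_assoc, mul_assoc, ← map_one (iota (S := S) (R := R) (S' := S') (A := A)),
      ← map_sub, ← map_mul, ← map_mul, hE2, hlam]
  let G₁ : S' ⊗[R] A →+ S' ⊗[S] A := TensorProduct.liftAddHom f₁ h₁
  let G₂ : S' ⊗[R] A →+ S' ⊗[S] A := TensorProduct.liftAddHom f₂ h₂
  have he : theta φ t e = (1, 0) := by simp [e, theta_iota, hE]
  have hG₁ : ∀ z, theta φ t (G₁ z) = (φ z, 0) := by
    intro z
    induction z using TensorProduct.induction_on with
    | zero => simp [Prod.ext_iff]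
    | add a b ha hb => simp [map_add, ha, hb]
    | tmul c a =>
      show theta φ t ((c ⊗ₜ a) * e) = _
      rw [map_mul, he, theta_tmul]
      simp
  have hG₂ : ∀ z, theta φ t (G₂ z) = (0, op (φ z)) := by
    intro z
    induction z using TensorProduct.induction_on with
    | zero => simp [Prod.ext_iff]
    | add a b ha hb => simp [map_add, ha, hb]
    | tmul c a =>
      show theta φ t ((c ⊗ₜ t a) * (1 - e)) = _
      rw [map_mul, map_sub, map_one, he, theta_tmul, t.invol]
      ext1 <;> simp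
  refine ⟨Function.LeftInverse.injective (g := fun p => G₁ (φ.symm p.1) + G₂ (φ.symm (unop p.2))) ?_,
    fun p => ⟨G₁ (φ.symm p.1) + G₂ (φ.symm (unop p.2)), by simp [map_add, hG₁, hG₂]⟩⟩
  intro x
  induction x using TensorProduct.induction_on with
  | zero => simp [Prod.ext_iff]
  | add a b ha hb =>
    simp only [map_add, Prod.fst_add, Prod.snd_add, unop_add] at *
    rw [add_add_add_comm, ha, hb]
  | tmul c a =>
    simp only [theta_tmul, unop_op, AlgEquiv.symm_apply_apply]
    show (c ⊗ₜ a) * e + (c ⊗ₜ t (t a)) * (1 - e) = _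
    rw [t.invol, ← mul_add, add_sub_cancel, mul_one]

/-- Two algebras with `lam`-involution split by `S'` become isomorphic over `S'`. -/
theorem exists_iso {A' : Type w'} [Ring A'] [Algebra S A'] [Algebra R A'] [IsScalarTower S R A']
    (φ : S' ⊗[R] A ≃ₐ[S'] M) (t : LamInv R A lam)
    (φ' : S' ⊗[R] A' ≃ₐ[S'] M) (t' : LamInv R A' lam) (hlam : ∀ r, lam (lam r) = r)
    (hfix : RInv.IsFixedRing S R lam.toRingEquiv) (hq : RInv.IsQuadEtale S R) :
    ∃ f : S' ⊗[S] A ≃ₐ[S'] S' ⊗[S] A',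
      (∀ (r : R) (x : S' ⊗[S] A),
        f (((1 : S') ⊗ₜ[S] algebraMap R A r) * x) = ((1 : S') ⊗ₜ[S] algebraMap R A' r) * f x) ∧
      ∀ x : S' ⊗[S] A, f (t.bc S lam S' x) = t'.bc S lam S' (f x) := by
  obtain ⟨E, hE, hE1, hE2⟩ := QEt.exists_idem lam hlam hfix hq
  let Θ := AlgEquiv.ofBijective _ (bijective_theta φ t E hE hE1 hE2 hlam)
  let Θ' := AlgEquiv.ofBijective _ (bijective_theta φ' t' E hE hE1 hE2 hlam)
  refine ⟨Θ.trans Θ'.symm, fun r x => Θ'.injective ?_, fun x => Θ'.injective ?_⟩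
  · rw [map_mul Θ', AlgEquiv.trans_apply, AlgEquiv.trans_apply, Θ'.apply_symm_apply,
      Θ'.apply_symm_apply, map_mul Θ]
    show theta φ t _ * _ = theta φ' t' _ * _
    rw [theta_unit, theta_unit]
  · rw [AlgEquiv.trans_apply, AlgEquiv.trans_apply, Θ'.apply_symm_apply]
    show theta φ t _ = theta φ' t' _
    rw [theta_bc, theta_bc]
    exact congr_arg swap (Θ'.apply_symm_apply _).symm

end Groth.Agent.AzInvLib.Exchange
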