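import Groth.Agent.AzInvLib.Main

/-!
# Global étale coverings carrying matrix units
-/

namespace Groth.Agent.AzInvLib.Global

open TensorProduct AzInv Groth.Agent.HenselLib Groth.Agent.AzInvLib.Units Groth.Agent.AzInvLib.Std
  Groth.Agent.AzInvLib.Spread

universe u v w

variable {S : Type u} {R : Type v} [CommRing S] [CommRing R] [Algebra S R] {lam : R ≃ₐ[S] R}
  {A : Type w} [Ring A] [Algebra S A] [Algebra R A] [IsScalarTower S R A]

theorem hasUnits_pi {ι : Type} [Fintype ι] [DecidableEq ι] (κ : Type u) [Fintype κ] [DecidableEq κ]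
    (C : κ → Type u) [∀ i, CommRing (C i)] [∀ i, Algebra S (C i)]
    (h : ∀ i, HasUnits S A ι (C i)) : HasUnits S A ι (∀ i, C i) := by
  choose e he using h
  obtain ⟨hi, hs⟩ := bijective_proj (M := A) S C
  choose E hE using fun i j => hs fun k => e k i j
  have hE' : ∀ i j k, tmap (Pi.evalAlgHom S C k) (E i j) = e k i j := fun i j => congrFun (hE i j)
  refine ⟨E, fun i j k l => hi (funext fun m => ?_), hi (funext fun m => ?_)⟩
  · simp only [tmap_mul, hE', (he m).mul]
    split_ifs <;> simp [hE']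
  · simp only [map_sum, hE', (he m).sum, tmap_one]

theorem exists_units (hlam : ∀ r, lam (lam r) = r) (hfix : RInv.IsFixedRing S R lam.toRingEquiv)
    {n : ℕ} (hA : IsAzumayaDeg R A n) :
    ∃ (S' : Type u) (_ : CommRing S') (_ : Algebra S S') (_ : Algebra.Etale S S')
      (_ : Module.FaithfullyFlat S S'), HasUnits S A (Fin n) S' := by
  refine exists_cover S (fun C _ _ => HasUnits S A (Fin n) C) (fun p => ?_)
    fun κ _ _ C _ _ hC => hasUnits_pi κ C hC
  obtain ⟨K, _, _, H, _, _, ρ, hK, hker, h⟩ := Point.exists_point S p.asIdeal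
  haveI := hK
  obtain ⟨C, _, _, hC, τ, hP⟩ := hasUnits_nbhd h (Main.hasUnits h hlam hfix hA)
  exact ⟨C, _, _, hC, mem_range h p hker τ, hP⟩

end Groth.Agent.AzInvLib.Global
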