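import Groth.Prelude.Def_AzInv
import Mathlib.RingTheory.Henselian
import Mathlib.Data.Matrix.Block
import Mathlib.Data.Matrix.Basis
import Mathlib.LinearAlgebra.Matrix.NonsingularInverse
import Mathlib.RingTheory.LocalRing.ResidueField.Basic
import Mathlib.Tactic.NoncommRing
import Mathlib.GroupTheory.Perm.Cycle.Type
import Mathlib.LinearAlgebra.Matrix.Determinant.Basic
import Mathlib.Algebra.CharP.Two

/-!
# Hermitian and skew-hermitian matrices over local rings with residually trivial involution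
-/

namespace Groth.Agent.AzInvLib.Herm

open Matrix AzInv IsLocalRing

universe u

variable {R : Type u} [CommRing R] (σ : R →+* R)

variable {ι κ : Type*} [Fintype ι] [DecidableEq ι] [Fintype κ] [DecidableEq κ]

theorem lamTr_mul {α β γ : Type*} [Fintype β] (M : Matrix α β R) (N : Matrix β γ R) :
    (Matrix.map (M * N) σ).transpose = (N.map σ).transpose * (M.map σ).transpose := by
  rw [Matrix.map_mul, Matrix.transpose_mul]

theorem lamTr_mul' (M N : Matrix ι ι R) : lamTr σ (M * N) = lamTr σ N * lamTr σ M := by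
  simp only [AzInv.lamTr, lamTr_mul]

theorem lamTr_one : lamTr σ (1 : Matrix ι ι R) = 1 := by
  simp [AzInv.lamTr]

theorem lamTr_lamTr (hσ : ∀ x, σ (σ x) = x) (M : Matrix ι ι R) : lamTr σ (lamTr σ M) = M := by
  ext i j; simp [hσ]

/-- Congruence of matrices. -/
def Cong (w W : Matrix ι ι R) : Prop :=
  ∃ g g' : Matrix ι ι R, g * g' = 1 ∧ lamTr σ g * w * g = W

variable {σ}

theorem Cong.refl (w : Matrix ι ι R) : Cong σ w w := ⟨1, 1, one_mul 1, by rw [lamTr_one, one_mul, mul_one]⟩

theorem Cong.trans {w W V : Matrix ι ι R} (h₁ : Cong σ w W) (h₂ : Cong σ W V) : Cong σ w V := by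
  obtain ⟨g, g', hg, rfl⟩ := h₁
  obtain ⟨h, h', hh, rfl⟩ := h₂
  refine ⟨g * h, h' * g', by rw [mul_assoc, ← mul_assoc h, hh, one_mul, hg], ?_⟩
  rw [lamTr_mul']
  simp only [mul_assoc]

theorem Cong.isUnit {w W : Matrix ι ι R} (h : Cong σ w W) (hw : IsUnit w) : IsUnit W := by
  obtain ⟨g, g', hg, rfl⟩ := h
  have hg' : g' * g = 1 := mul_eq_one_comm.1 hg
  have h1 : IsUnit g := ⟨⟨g, g', hg, hg'⟩, rfl⟩
  have h2 : IsUnit (lamTr σ g) := ⟨⟨lamTr σ g, lamTr σ g', by rw [← lamTr_mul', hg', lamTr_one],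
    by rw [← lamTr_mul', hg, lamTr_one]⟩, rfl⟩
  exact (h2.mul hw).mul h1

theorem Cong.symm_eq (hσ : ∀ x, σ (σ x) = x) {w W : Matrix ι ι R} (h : Cong σ w W) (s : R)
    (hs : σ s = s) (hw : lamTr σ w = s • w) : lamTr σ W = s • W := by
  obtain ⟨g, g', hg, rfl⟩ := h
  rw [lamTr_mul', lamTr_mul', lamTr_lamTr σ hσ, hw, smul_mul_assoc, mul_smul_comm, ← mul_assoc]

theorem Cong.submatrix {w W : Matrix κ κ R} (h : Cong σ w W) (e : ι ≃ κ) :
    Cong σ (w.submatrix e e) (W.submatrix e e) := by
  obtain ⟨g, g', hg, rfl⟩ := h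
  refine ⟨g.submatrix e e, g'.submatrix e e, by
    rw [Matrix.submatrix_mul_equiv, hg, Matrix.submatrix_one_equiv], ?_⟩
  have : lamTr σ (g.submatrix e e) = (lamTr σ g).submatrix e e := rfl
  rw [this, Matrix.submatrix_mul_equiv, Matrix.submatrix_mul_equiv]

theorem cong_perm (w : Matrix ι ι R) (π : ι ≃ ι) : Cong σ w (w.submatrix π π) := by
  refine ⟨(1 : Matrix ι ι R).submatrix id π, (1 : Matrix ι ι R).submatrix π id, ?_, ?_⟩
  · rw [Matrix.submatrix_mul_equiv, one_mul, Matrix.submatrix_id_id]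
  · have : lamTr σ ((1 : Matrix ι ι R).submatrix id π) = (lamTr σ (1 : Matrix ι ι R)).submatrix π id :=
      rfl
    rw [this, lamTr_one]
    ext i j
    simp [Matrix.mul_apply, Matrix.one_apply]

variable {α β : Type*} [Fintype α] [DecidableEq α] [Fintype β] [DecidableEq β]

theorem Cong.fromBlocks {P P₁ : Matrix α α R} {D D₁ : Matrix β β R} (h₁ : Cong σ P P₁)
    (h₂ : Cong σ D D₁) : Cong σ (Matrix.fromBlocks P 0 0 D) (Matrix.fromBlocks P₁ 0 0 D₁) := by
  obtain ⟨g, g', hg, rfl⟩ := h₁
  obtain ⟨h, h', hh, rfl⟩ := h₂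
  refine ⟨Matrix.fromBlocks g 0 0 h, Matrix.fromBlocks g' 0 0 h', ?_, ?_⟩
  · simp [Matrix.fromBlocks_multiply, hg, hh]
  · have : lamTr σ (Matrix.fromBlocks g 0 0 h) = Matrix.fromBlocks (lamTr σ g) 0 0 (lamTr σ h) := by
      simp [AzInv.lamTr, Matrix.fromBlocks_map, Matrix.fromBlocks_transpose]
    rw [this]
    simp [Matrix.fromBlocks_multiply]

/-- Elimination of the off-diagonal blocks. -/
theorem cong_elim (hσ : ∀ x, σ (σ x) = x) (s : R) (hs : s * s = 1) (hσs : σ s = s)
    (w : Matrix (α ⊕ β) (α ⊕ β) R) (hw : lamTr σ w = s • w) (P' : Matrix α α R)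
    (hP : w.toBlocks₁₁ * P' = 1) :
    Cong σ w (Matrix.fromBlocks w.toBlocks₁₁ 0 0
      (w.toBlocks₂₂ - w.toBlocks₂₁ * (P' * w.toBlocks₁₂))) := by
  obtain ⟨P, B, C, D, rfl⟩ : ∃ P B C D, w = Matrix.fromBlocks P B C D :=
    ⟨_, _, _, _, (Matrix.fromBlocks_toBlocks w).symm⟩
  simp only [Matrix.toBlocks_fromBlocks₁₁, Matrix.toBlocks_fromBlocks₁₂,
    Matrix.toBlocks_fromBlocks₂₁, Matrix.toBlocks_fromBlocks₂₂] at hP ⊢
  rw [show lamTr σ (Matrix.fromBlocks P B C D) = Matrix.fromBlocks (lamTr σ P) ((C.map σ).transpose)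
    ((B.map σ).transpose) (lamTr σ D) by
      simp [AzInv.lamTr, Matrix.fromBlocks_map, Matrix.fromBlocks_transpose], Matrix.fromBlocks_smul,
    Matrix.fromBlocks_inj] at hw
  obtain ⟨hwP, -, hwB, -⟩ := hw
  have hP' : P' * P = 1 := mul_eq_one_comm.1 hP
  have hP'' : lamTr σ P' * P = s • 1 := by
    have h1 : lamTr σ P' * lamTr σ P = 1 := by rw [← lamTr_mul', hP, lamTr_one]
    rw [hwP, mul_smul_comm] at h1
    rw [← h1, smul_smul, hs, one_smul]
  have hC : ((P' * B).map σ).transpose * P = C := by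
    rw [lamTr_mul, hwB, show (P'.map σ).transpose = lamTr σ P' from rfl, Matrix.mul_assoc, hP'',
      Matrix.mul_smul, Matrix.mul_one, smul_smul, hs, one_smul]
  refine ⟨Matrix.fromBlocks 1 (-(P' * B)) 0 1, Matrix.fromBlocks 1 (P' * B) 0 1, ?_, ?_⟩
  · simp [Matrix.fromBlocks_multiply]
  · have e : lamTr σ (Matrix.fromBlocks 1 (-(P' * B)) 0 1) =
        Matrix.fromBlocks 1 0 (-((P' * B).map σ).transpose) 1 := by
      simp [AzInv.lamTr, Matrix.fromBlocks_map, Matrix.fromBlocks_transpose, Matrix.map_neg]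
    rw [e]
    simp only [Matrix.fromBlocks_multiply, Matrix.one_mul, Matrix.mul_one, Matrix.zero_mul,
      Matrix.mul_zero, add_zero, zero_add, Matrix.neg_mul, Matrix.mul_neg, hC]
    rw [Matrix.fromBlocks_inj]
    refine ⟨rfl, ?_, by rw [neg_add_cancel], ?_⟩
    · rw [← Matrix.mul_assoc, hP, Matrix.one_mul, neg_add_cancel]
    · have e' : ((P' * B).map σ).transpose * B = C * (P' * B) := by
        rw [← hC, Matrix.mul_assoc, ← Matrix.mul_assoc P, hP, Matrix.one_mul]
      rw [e', neg_add_cancel, Matrix.zero_mul, neg_zero, zero_add, sub_eq_add_neg, add_comm]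

variable [IsLocalRing R]

theorem exists_unit_row {w : Matrix ι ι R} (hw : IsUnit w) (i : ι) : ∃ j, IsUnit (w i j) := by
  obtain ⟨w', hw'⟩ := hw.exists_right_inv
  by_contra! h
  have h1 : (w * w') i i ∈ maximalIdeal R := by
    rw [Matrix.mul_apply]
    exact Ideal.sum_mem _ fun j _ => Ideal.mul_mem_right _ _ (h j)
  rw [hw', Matrix.one_apply_eq] at h1
  exact (maximalIdeal.isMaximal R).ne_top ((Ideal.eq_top_iff_one _).2 h1)

variable (htriv : ∀ x, σ x - x ∈ maximalIdeal R)

theorem isUnit_of_sub_mem {x y : R} (hx : IsUnit x) (h : y - x ∈ maximalIdeal R) : IsUnit y := by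
  by_contra hy
  exact ((maximalIdeal R).sub_mem (show y ∈ maximalIdeal R from hy) h |>
    fun h' => (show x ∉ maximalIdeal R from fun h'' => h'' hx) (by rwa [sub_sub_cancel] at h'))

variable (hσ : ∀ x, σ (σ x) = x)

include htriv hσ in
/-- Hermitian matrices with a unit diagonal entry are congruent to the identity. -/
theorem cong_one (hsq : ∀ x, σ x = x → IsUnit x → ∃ y, σ y = y ∧ y * y = x) :
    ∀ (m : ℕ) (w : Matrix (Fin m) (Fin m) R), lamTr σ w = w → IsUnit w →
      (m = 0 ∨ ∃ i, IsUnit (w i i)) → Cong σ w 1 := by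
  intro m
  induction m with
  | zero =>
    intro w _ _ _
    exact ⟨1, 1, one_mul 1, Matrix.ext fun i => i.elim0⟩
  | succ m ih =>
    -- reduction of a matrix whose corner entry is a unit
    have key : ∀ w : Matrix (Fin 1 ⊕ Fin m) (Fin 1 ⊕ Fin m) R, lamTr σ w = w → IsUnit w →
        IsUnit (w (.inl 0) (.inl 0)) →
        ∃ (P : Matrix (Fin 1) (Fin 1) R) (D : Matrix (Fin m) (Fin m) R),
          Cong σ w (Matrix.fromBlocks P 0 0 D) ∧ lamTr σ D = D ∧ IsUnit D ∧ Cong σ P 1 ∧
          P 0 0 = w (.inl 0) (.inl 0) ∧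
          ∀ i j, w (.inl 0) (.inr j) = 0 → D i j = w (.inr i) (.inr j) := by
      intro w hw hu hc
      obtain ⟨c, hcc⟩ := hc.exists_right_inv
      have hP : w.toBlocks₁₁ * Matrix.of (fun _ _ => c) = 1 := by
        ext i j
        rw [Subsingleton.elim i 0, Subsingleton.elim j 0]
        simp [Matrix.mul_apply, Matrix.toBlocks₁₁, hcc]
      have hcong := cong_elim hσ 1 (one_mul 1) (map_one σ) w (by rw [hw, one_smul]) _ hP
      have hsymm := hcong.symm_eq hσ 1 (map_one σ) (by rw [hw, one_smul])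
      rw [one_smul] at hsymm
      refine ⟨_, _, hcong, ?_, ?_, ?_, rfl, fun i j h0 => ?_⟩
      · ext i j
        exact congrFun (congrFun hsymm (.inr i)) (.inr j)
      · have := hcong.isUnit hu
        rw [Matrix.isUnit_iff_isUnit_det, Matrix.det_fromBlocks_zero₂₁] at this
        exact (Matrix.isUnit_iff_isUnit_det _).2 (isUnit_of_mul_isUnit_right this)
      · obtain ⟨y, hy, hyy⟩ := hsq (w (.inl 0) (.inl 0))
          (congrFun (congrFun hw (.inl 0)) (.inl 0)) hc
        have hyu : IsUnit y := isUnit_of_mul_isUnit_left (hyy ▸ hc)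
        obtain ⟨y', hy'⟩ := hyu.exists_right_inv
        have hy'' : σ y' = y' := by
          calc σ y' = σ y' * (y * y') := by rw [hy', mul_one]
            _ = σ (y' * y) * y' := by rw [map_mul, hy, mul_assoc]
            _ = y' := by rw [mul_comm y' y, hy', map_one, one_mul]
        refine ⟨Matrix.of fun _ _ => y', Matrix.of fun _ _ => y, ?_, ?_⟩
        · ext i j
          rw [Subsingleton.elim i 0, Subsingleton.elim j 0]
          simp [Matrix.mul_apply, mul_comm y' y, hy']
        · ext i j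
          rw [Subsingleton.elim i 0, Subsingleton.elim j 0]
          simp [Matrix.mul_apply, Matrix.toBlocks₁₁, hy'', ← hyy]
          linear_combination (y * y' + 1) * hy'
      · simp [Matrix.sub_apply, Matrix.mul_apply, Matrix.toBlocks₁₂, Matrix.toBlocks₂₂, h0]
    have finish : ∀ w : Matrix (Fin 1 ⊕ Fin m) (Fin 1 ⊕ Fin m) R, lamTr σ w = w → IsUnit w →
        IsUnit (w (.inl 0) (.inl 0)) → Cong σ w 1 := by
      intro w hw hu hc
      obtain ⟨P, D, hPD, hD, hDu, hP1, hP0, -⟩ := key w hw hu hc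
      by_cases hD0 : m = 0 ∨ ∃ i, IsUnit (D i i)
      · refine hPD.trans ?_
        rw [← Matrix.fromBlocks_one]
        exact hP1.fromBlocks (ih D hD hDu hD0)
      simp only [not_or, not_exists] at hD0
      obtain ⟨hm, hd⟩ := hD0
      let i₀ : Fin m := ⟨0, Nat.pos_of_ne_zero hm⟩
      obtain ⟨j₀, hj⟩ := exists_unit_row hDu i₀
      have hij : i₀ ≠ j₀ := fun h => hd i₀ (by rw [← h] at hj; exact hj)
      have hPu : IsUnit (P 0 0) := hP0 ▸ hc
      obtain ⟨a', ha'⟩ := hPu.exists_right_inv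
      let c : R := -(D i₀ j₀ * a')
      have hcu : IsUnit c := (hj.mul ⟨⟨a', P 0 0, by rw [mul_comm, ha'], ha'⟩, rfl⟩).neg
      let V := Matrix.fromBlocks P 0 0 D
      let A : Matrix (Fin 1 ⊕ Fin m) (Fin 1 ⊕ Fin m) R :=
        Matrix.single (.inr i₀) (.inl 0) 1 + Matrix.single (.inl 0) (.inr j₀) c
      have hne : (Sum.inr j₀ : Fin 1 ⊕ Fin m) ≠ Sum.inr i₀ := by simp [Ne.symm hij]
      have hA3 : A * A * A = 0 := by
        simp [A, Matrix.add_mul, Matrix.mul_add, Matrix.single_mul_single_of_ne, hne]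
      let V' := lamTr σ (1 + A) * V * (1 + A)
      have hA4 : (1 + A) * (1 - A + A * A) = 1 := by
        calc (1 + A) * (1 - A + A * A) = 1 + A * A * A := by noncomm_ring
          _ = 1 := by rw [hA3, add_zero]
      have hV' : Cong σ V V' := ⟨1 + A, 1 - A + A * A, hA4, rfl⟩
      have hV : lamTr σ V = (1 : R) • V :=
        hPD.symm_eq hσ 1 (map_one σ) (by rw [hw, one_smul])
      have hV's := hV'.symm_eq hσ 1 (map_one σ) hV
      rw [one_smul] at hV's
      have hAt : lamTr σ (1 + A) = 1 + Matrix.single (.inl 0) (.inr i₀) 1 +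
          Matrix.single (.inr j₀) (.inl 0) (σ c) := by
        simp only [AzInv.lamTr, A, Matrix.map_add σ (map_add σ), Matrix.transpose_add,
          Matrix.map_one σ (map_zero σ) (map_one σ), Matrix.transpose_one, Matrix.map_single,
          Matrix.transpose_single, map_one, add_assoc]
      have e00 : V' (.inl 0) (.inl 0) = P 0 0 + D i₀ i₀ := by
        simp [V', V, hAt, A, Matrix.add_mul, Matrix.mul_add, hne]
      have e0j : V' (.inl 0) (.inr j₀) = 0 := by
        simp [V', V, hAt, A, Matrix.add_mul, Matrix.mul_add, hne, hne.symm]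
        simp only [c]
        linear_combination -(D i₀ j₀) * ha'
      have ejj : V' (.inr j₀) (.inr j₀) = D j₀ j₀ + σ c * P 0 0 * c := by
        simp [V', V, hAt, A, Matrix.add_mul, Matrix.mul_add, hne, hne.symm]
      have hu00 : IsUnit (V' (.inl 0) (.inl 0)) := by
        rw [e00]; exact isUnit_of_sub_mem hPu (by rw [add_sub_cancel_left]; exact hd i₀)
      obtain ⟨P₂, D₂, hPD₂, hD₂, hD₂u, hP₂, -, hentry⟩ :=
        key V' hV's (hV'.isUnit (hPD.isUnit hu)) hu00
      refine hPD.trans (hV'.trans (hPD₂.trans ?_))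
      rw [← Matrix.fromBlocks_one]
      refine hP₂.fromBlocks (ih D₂ hD₂ hD₂u (Or.inr ⟨j₀, ?_⟩))
      rw [hentry j₀ j₀ e0j, ejj]
      refine isUnit_of_sub_mem (((hcu.map σ).mul hPu).mul hcu) ?_
      rw [add_sub_cancel_right]
      exact hd j₀
    intro w hw hu hdiag
    obtain ⟨i, hi⟩ := hdiag.resolve_left (Nat.succ_ne_zero m)
    let e : Fin (m + 1) ≃ Fin 1 ⊕ Fin m :=
      (finCongr (Nat.add_comm m 1)).trans finSumFinEquiv.symm
    let π : Fin (m + 1) ≃ Fin (m + 1) := Equiv.swap (e.symm (.inl 0)) i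
    refine (cong_perm (σ := σ) w π).trans ?_
    let w₁ := (w.submatrix π π).submatrix e.symm e.symm
    have hw₁ : lamTr σ w₁ = w₁ := by
      show (lamTr σ w).submatrix (π ∘ e.symm) (π ∘ e.symm) = _
      rw [hw]; rfl
    have hu₁ : IsUnit w₁ := by
      rw [Matrix.isUnit_iff_isUnit_det, Matrix.det_submatrix_equiv_self, Matrix.det_submatrix_equiv_self,
        ← Matrix.isUnit_iff_isUnit_det]
      exact hu
    have hc₁ : IsUnit (w₁ (.inl 0) (.inl 0)) := by simpa [w₁, π] using hi
    have h := (finish w₁ hw₁ hu₁ hc₁).submatrix e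
    rw [Matrix.submatrix_one_equiv] at h
    simpa [w₁, Matrix.submatrix_submatrix, Function.comp_assoc] using h

include htriv in
/-- A hermitian unimodular matrix has, up to congruence, a unit diagonal entry when `2` is a unit. -/
theorem exists_cong_diag (h2 : IsUnit (2 : R)) (w : Matrix ι ι R) (hw : lamTr σ w = w)
    (hu : IsUnit w) (i : ι) : ∃ w₁, Cong σ w w₁ ∧ ∃ k, IsUnit (w₁ k k) := by
  by_cases h : ∃ k, IsUnit (w k k)
  · exact ⟨w, Cong.refl w, h⟩
  simp only [not_exists] at h
  obtain ⟨j, hj⟩ := exists_unit_row hu i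
  have hij : i ≠ j := fun e => h i (by rw [← e] at hj; exact hj)
  let g : Matrix ι ι R := 1 + Matrix.single j i 1
  have hgt : lamTr σ g = 1 + Matrix.single i j 1 := by
    simp only [g, AzInv.lamTr, Matrix.map_add σ (map_add σ), Matrix.transpose_add,
      Matrix.map_one σ (map_zero σ) (map_one σ), Matrix.transpose_one, Matrix.map_single,
      Matrix.transpose_single, map_one]
  have hg : g * (1 - Matrix.single j i 1) = 1 := by
    simp [g, Matrix.mul_sub, Matrix.add_mul, hij]
  refine ⟨_, ⟨g, _, hg, rfl⟩, i, ?_⟩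
  have e : (lamTr σ g * w * g) i i = w i i + w i j + w j i + w j j := by
    rw [hgt]
    simp [g, Matrix.add_mul, Matrix.mul_add, hij, hij.symm]
    try ring
  rw [e]
  have hji : σ (w i j) = w j i := congrFun (congrFun hw j) i
  refine isUnit_of_sub_mem (h2.mul hj) ?_
  rw [show w i i + w i j + w j i + w j j - 2 * w i j = w i i + w j j + (σ (w i j) - w i j) by
    rw [hji]; ring]
  exact add_mem (add_mem (h i) (h j)) (htriv _)

include htriv in
/-- In odd size a hermitian unimodular matrix has a unit diagonal entry when `2` is not a unit;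
in any case a symmetric matrix of odd size with zero diagonal in characteristic two is singular. -/
theorem exists_diag_of_odd (h2 : ¬ IsUnit (2 : R)) (w : Matrix ι ι R) (hw : lamTr σ w = w)
    (hu : IsUnit w) (hodd : Odd (Fintype.card ι)) : ∃ k, IsUnit (w k k) := by
  by_contra h
  simp only [not_exists] at h
  let k := ResidueField R
  have hk2 : (2 : k) = 0 := by rw [← map_ofNat (residue R) 2]; exact (residue_eq_zero_iff _).2 h2
  haveI : CharP k 2 := CharTwo.of_one_ne_zero_of_two_eq_zero one_ne_zero hk2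
  let M : Matrix ι ι k := w.map (residue R)
  have hdiag : ∀ i, M i i = 0 := fun i => (residue_eq_zero_iff _).2 (h i)
  have hsym : ∀ i j, M i j = M j i := fun i j => by
    show residue R (w i j) = residue R (w j i)
    rw [← sub_eq_zero, ← map_sub, residue_eq_zero_iff]
    have hji : σ (w j i) = w i j := congrFun (congrFun hw i) j
    rw [← hji]
    exact htriv _
  have hMu : M.det ≠ 0 := by
    have := ((Matrix.isUnit_iff_isUnit_det w).1 hu).map (residue R)
    rw [RingHom.map_det] at this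
    exact this.ne_zero
  apply hMu
  rw [Matrix.det_apply']
  refine Finset.sum_involution (fun π _ => π⁻¹) (fun π _ => ?_) (fun π _ hne => ?_)
    (fun _ _ => Finset.mem_univ _) (fun π _ => inv_inv π)
  · have e : ∏ i, M (π⁻¹ i) i = ∏ i, M (π i) i := by
      rw [← Equiv.prod_comp π (fun i => M (π⁻¹ i) i)]
      exact Finset.prod_congr rfl fun i _ => by rw [show π⁻¹ (π i) = i from π.symm_apply_apply i, hsym]
    rw [e, Equiv.Perm.sign_inv, ← two_mul, hk2, zero_mul]
  · intro hπ
    apply hne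
    by_cases hfix : ∃ i, π i = i
    · obtain ⟨i, hi⟩ := hfix
      rw [Finset.prod_eq_zero (Finset.mem_univ i) (by rw [hi, hdiag]), mul_zero]
    · exfalso
      haveI : Fact (Nat.Prime 2) := ⟨Nat.prime_two⟩
      have hdvd : ¬ (2 : ℕ) ∣ Fintype.card ι := by
        obtain ⟨r, hr⟩ := hodd
        omega
      have hπ2 : π ^ 2 ^ 1 = 1 := by
        rw [pow_one, pow_two]
        calc π * π = π * π⁻¹ := by rw [hπ]
          _ = 1 := mul_inv_cancel π
      obtain ⟨i, hi⟩ := Equiv.Perm.exists_fixed_point_of_prime hdvd hπ2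
      exact hfix ⟨i, hi⟩

variable (R) in
/-- The standard alternating matrix. -/
def stdJ (m : ℕ) : Matrix (Fin m) (Fin m) R :=
  Matrix.of fun i j => if i.val + 1 = j.val ∧ i.val % 2 = 0 then 1
    else if j.val + 1 = i.val ∧ j.val % 2 = 0 then -1 else 0

omit [IsLocalRing R] in
theorem stdJ_blocks (m : ℕ) :
    (stdJ R (2 + m)).submatrix (finSumFinEquiv (m := 2) (n := m)) (finSumFinEquiv (m := 2) (n := m)) =
      Matrix.fromBlocks (stdJ R 2) 0 0 (stdJ R m) := by
  ext (i | i) (j | j)
  · simp [stdJ]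
  · have := i.isLt
    simp only [stdJ, Matrix.submatrix_apply, Matrix.of_apply, finSumFinEquiv_apply_left,
      finSumFinEquiv_apply_right, Fin.val_castAdd, Fin.val_natAdd, Matrix.fromBlocks_apply₁₂,
      Matrix.zero_apply]
    rw [if_neg (by omega), if_neg (by omega)]
  · have := j.isLt
    simp only [stdJ, Matrix.submatrix_apply, Matrix.of_apply, finSumFinEquiv_apply_left,
      finSumFinEquiv_apply_right, Fin.val_castAdd, Fin.val_natAdd, Matrix.fromBlocks_apply₂₁,
      Matrix.zero_apply]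
    rw [if_neg (by omega), if_neg (by omega)]
  · simp [stdJ]
    split_ifs <;> first | rfl | omega

omit [IsLocalRing R] in
theorem stdJ_sq : ∀ (k : ℕ), stdJ R (2 * k) * -stdJ R (2 * k) = 1 := by
  intro k
  induction k with
  | zero => exact Matrix.ext fun i => i.elim0
  | succ k ih =>
    rw [show 2 * (k + 1) = 2 + 2 * k by ring]
    let e := finSumFinEquiv (m := 2) (n := 2 * k)
    have h2 : stdJ R 2 * -stdJ R 2 = 1 := by
      ext i j
      fin_cases i <;> fin_cases j <;> simp [stdJ, Matrix.mul_apply]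
    have h : (stdJ R (2 + 2 * k) * -stdJ R (2 + 2 * k)).submatrix e e = 1 := by
      rw [← Matrix.submatrix_mul_equiv (e₂ := e)]
      show (stdJ R (2 + 2 * k)).submatrix e e * -((stdJ R (2 + 2 * k)).submatrix e e) = 1
      rw [stdJ_blocks, Matrix.fromBlocks_neg, Matrix.fromBlocks_multiply]
      simp only [neg_zero, Matrix.mul_zero, Matrix.zero_mul, add_zero, zero_add, h2, ih,
        Matrix.fromBlocks_one]
    have h' := congrArg (fun M => M.submatrix e.symm e.symm) h
    simpa [Matrix.submatrix_submatrix, Equiv.self_comp_symm] using h'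

omit [IsLocalRing R] in
theorem cong_two_of {P P₁ : Matrix (Fin 2) (Fin 2) R} (g g' : Matrix (Fin 2) (Fin 2) R)
    (h : g * g' = 1) (e : lamTr σ g * P * g = P₁) : Cong σ P P₁ := ⟨g, g', h, e⟩

include hσ in
theorem cong_stdJ_two [HenselianLocalRing R] (hr : IsUnit (2 : R))
    (htriv : ∀ x, σ x - x ∈ maximalIdeal R) (P : Matrix (Fin 2) (Fin 2) R)
    (hP : lamTr σ P = (-1 : R) • P) (hb : IsUnit (P 0 1)) : Cong σ P (stdJ R 2) := by
  have hdm : ∀ x, σ x = -x → x ∈ maximalIdeal R := fun x hx => by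
    have h := htriv x
    rw [hx, show -x - x = -(2 * x) by ring, Ideal.neg_mem_iff] at h
    exact (Ideal.unit_mul_mem_iff_mem _ hr).1 h
  obtain ⟨h, hh⟩ := hr.exists_right_inv
  have hsh : σ h = h := by
    calc σ h = σ h * (2 * h) := by rw [hh, mul_one]
      _ = σ (2 * h) * h := by rw [map_mul, map_ofNat]; ring
      _ = h := by rw [hh, map_one, one_mul]
  -- normalise the off-diagonal entry
  have norm : ∀ Q : Matrix (Fin 2) (Fin 2) R, lamTr σ Q = (-1 : R) • Q → IsUnit (Q 0 1) →
      ∃ d, Cong σ Q !![Q 0 0, 1; -1, d] := by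
    intro Q hQ hq
    obtain ⟨c, hc⟩ := hq.exists_right_inv
    have h10 : Q 1 0 = -σ (Q 0 1) := by
      have := congrFun (congrFun hQ 1) 0
      simp at this
      rw [this, neg_neg]
    refine ⟨σ c * Q 1 1 * c, cong_two_of !![1, 0; 0, c] !![1, 0; 0, Q 0 1] ?_ ?_⟩
    · ext i j
      fin_cases i <;> fin_cases j <;> simp [Matrix.mul_apply, mul_comm c (Q 0 1), hc]
    · ext i j
      fin_cases i <;> fin_cases j <;> simp [Matrix.mul_apply, h10, hc]
      rw [← map_mul, mul_comm, hc, map_one]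
  obtain ⟨d, hd⟩ := norm P hP hb
  have hneg1 : σ (-1 : R) = -1 := by rw [map_neg, map_one]
  have hskew := hd.symm_eq hσ (-1) hneg1 hP
  have ha : σ (P 0 0) = -(P 0 0) := by
    have := congrFun (congrFun hskew 0) 0
    simpa using this
  have hd' : σ d = -d := by
    have := congrFun (congrFun hskew 1) 1
    simpa using this
  let a := P 0 0
  -- isotropic vector
  obtain ⟨z, hz, hz2⟩ := HenselianLocalRing.is_henselian
    (Polynomial.X ^ 2 + Polynomial.C 2 * Polynomial.X - Polynomial.C (a * d))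
    (by monicity!) (-2) (by
      simp only [Polynomial.eval_sub, Polynomial.eval_add, Polynomial.eval_pow, Polynomial.eval_mul,
        Polynomial.eval_X, Polynomial.eval_C]
      rw [show (-2 : R) ^ 2 + 2 * -2 - a * d = -(a * d) by ring, Ideal.neg_mem_iff]
      exact Ideal.mul_mem_right _ _ (hdm _ ha))
    (by
      simp only [Polynomial.derivative_sub, Polynomial.derivative_add, Polynomial.derivative_X_pow,
        Polynomial.derivative_C_mul, Polynomial.derivative_X, Polynomial.derivative_C, sub_zero,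
        mul_one, Polynomial.eval_add, Polynomial.eval_mul, Polynomial.eval_pow, Polynomial.eval_X,
        Polynomial.eval_C, Nat.cast_ofNat, Nat.add_one_sub_one, pow_one]
      rw [show (2 : R) * -2 + 2 = -2 by ring]
      exact hr.neg)
  have hz' : z ^ 2 + 2 * z - a * d = 0 := by simpa [Polynomial.IsRoot] using hz
  have hzu : IsUnit z := isUnit_of_sub_mem hr.neg hz2
  have hσz : σ z = z := by
    have h1 := congrArg σ hz'
    rw [map_sub, map_add, map_pow, map_mul, map_mul, map_ofNat, map_zero, ha, hd'] at h1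
    have h2 : (σ z - z) * (σ z + z + 2) = 0 := by linear_combination h1 - hz'
    have h3 : IsUnit (σ z + z + 2) := by
      refine isUnit_of_sub_mem hr.neg ?_
      rw [show σ z + z + 2 - -2 = (σ z - z) + 2 * (z - -2) by ring]
      exact add_mem (htriv z) (Ideal.mul_mem_left _ _ hz2)
    exact sub_eq_zero.1 ((h3.mul_left_eq_zero).1 h2)
  obtain ⟨y, hy⟩ := hzu.exists_right_inv
  have hσy : σ y = y := by
    calc σ y = σ y * (z * y) := by rw [hy, mul_one]
      _ = σ (z * y) * y := by rw [map_mul, hσz]; ring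
      _ = y := by rw [hy, map_one, one_mul]
  let x := a * y
  have hσx : σ x = -x := by simp only [x, map_mul, hσy, ha, a]; ring
  have hiso : a + 2 * x - x * x * d = 0 := by
    simp only [x]
    linear_combination (a * y * y) * hz' + (-2 * a * y - a * (z * y + 1)) * hy
  let P₂ := lamTr σ !![1, 0; x, 1] * !![a, 1; -1, d] * !![1, 0; x, 1]
  have hP₂ : Cong σ !![a, 1; -1, d] P₂ := cong_two_of !![1, 0; x, 1] !![1, 0; -x, 1] (by
      ext i j
      fin_cases i <;> fin_cases j <;> simp [Matrix.mul_apply]) rfl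
  have e00 : P₂ 0 0 = 0 := by
    simp [P₂, AzInv.lamTr, Matrix.mul_apply, hσx]
    linear_combination hiso
  have hu01 : IsUnit (P₂ 0 1) := by
    have e01 : P₂ 0 1 = 1 + σ x * d := by simp [P₂, AzInv.lamTr, Matrix.mul_apply]
    rw [e01]
    exact isUnit_of_sub_mem isUnit_one (by
      rw [add_sub_cancel_left]; exact Ideal.mul_mem_left _ _ (hdm _ hd'))
  obtain ⟨d₂, hd₂⟩ := norm P₂ (hP₂.symm_eq hσ (-1) hneg1 hskew) hu01
  have hsk₂ := (hP₂.trans hd₂).symm_eq hσ (-1) hneg1 hskew
  have hd₂' : σ d₂ = -d₂ := by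
    have := congrFun (congrFun hsk₂ 1) 1
    simpa using this
  rw [e00] at hd₂
  refine (hd.trans hP₂).trans (hd₂.trans (cong_two_of !![1, d₂ * h; 0, 1] !![1, -(d₂ * h); 0, 1] ?_ ?_))
  · ext i j
    fin_cases i <;> fin_cases j <;> simp [Matrix.mul_apply]
  · ext i j
    fin_cases i <;> fin_cases j <;> simp [Matrix.mul_apply, stdJ, hd₂', hsh]
    linear_combination (-d₂) * hh

include htriv hσ in
/-- Skew-hermitian unimodular matrices are congruent to the standard alternating matrix. -/
theorem cong_stdJ [HenselianLocalRing R] (h2 : IsUnit (2 : R)) :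
    ∀ (m : ℕ) (w : Matrix (Fin m) (Fin m) R), lamTr σ w = (-1 : R) • w → IsUnit w →
      Even m ∧ Cong σ w (stdJ R m) := by
  have hdm : ∀ x, σ x = -x → x ∈ maximalIdeal R := fun x hx => by
    have h := htriv x
    rw [hx, show -x - x = -(2 * x) by ring, Ideal.neg_mem_iff] at h
    exact (Ideal.unit_mul_mem_iff_mem _ h2).1 h
  intro m
  induction m using Nat.strong_induction_on with
  | _ m ih =>
    intro w hw hu
    match m, ih, w, hw, hu with
    | 0, _, w, _, _ => exact ⟨⟨0, rfl⟩, 1, 1, one_mul 1, Matrix.ext fun i => i.elim0⟩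
    | 1, _, w, hw, hu =>
      exfalso
      obtain ⟨j, hj⟩ := exists_unit_row hu 0
      rw [Subsingleton.elim j 0] at hj
      exact hdm (w 0 0) (by simpa using congrFun (congrFun hw 0) 0) hj
    | m + 2, ih, w, hw, hu =>
      obtain ⟨j, hj⟩ := exists_unit_row hu 0
      have hj0 : j ≠ 0 := fun e => by
        rw [e] at hj
        exact hdm (w 0 0) (by simpa using congrFun (congrFun hw 0) 0) hj
      let π : Fin (m + 2) ≃ Fin (m + 2) := Equiv.swap 1 j
      let e : Fin 2 ⊕ Fin m ≃ Fin (m + 2) := finSumFinEquiv.trans (finCongr (Nat.add_comm 2 m))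
      let w₁ := (w.submatrix π π).submatrix e e
      have hw₁ : lamTr σ w₁ = (-1 : R) • w₁ := by
        show (lamTr σ w).submatrix (π ∘ e) (π ∘ e) = _
        rw [hw]; rfl
      have hu₁ : IsUnit w₁ := by
        rw [Matrix.isUnit_iff_isUnit_det, Matrix.det_submatrix_equiv_self,
          Matrix.det_submatrix_equiv_self, ← Matrix.isUnit_iff_isUnit_det]
        exact hu
      have h01 : IsUnit (w₁.toBlocks₁₁ 0 1) := by
        have e0 : π (e (.inl 0)) = 0 := by
          have : e (.inl 0) = 0 := rfl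
          rw [this]
          exact Equiv.swap_apply_of_ne_of_ne (by simp) (Ne.symm hj0)
        have e1 : π (e (.inl 1)) = j := by
          have : e (.inl 1) = 1 := rfl
          rw [this]
          exact Equiv.swap_apply_left 1 j
        simpa [w₁, Matrix.toBlocks₁₁, e0, e1] using hj
      have hP₁ : lamTr σ w₁.toBlocks₁₁ = (-1 : R) • w₁.toBlocks₁₁ :=
        Matrix.ext fun a b => congrFun (congrFun hw₁ (.inl a)) (.inl b)
      have hdet : IsUnit w₁.toBlocks₁₁.det := by
        rw [Matrix.det_fin_two]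
        have h00 : w₁.toBlocks₁₁ 0 0 ∈ maximalIdeal R :=
          hdm _ (by simpa using congrFun (congrFun hP₁ 0) 0)
        have h10 : w₁.toBlocks₁₁ 1 0 = -σ (w₁.toBlocks₁₁ 0 1) := by
          have := congrFun (congrFun hP₁ 1) 0
          simp at this
          rw [this, neg_neg]
        refine isUnit_of_sub_mem (h01.mul (h01.map σ)) ?_
        rw [h10]
        ring_nf
        exact Ideal.mul_mem_right _ _ h00
      have hcong := cong_elim hσ (-1) (by ring) (by rw [map_neg, map_one]) w₁ hw₁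
        (w₁.toBlocks₁₁)⁻¹ (Matrix.mul_nonsing_inv _ hdet)
      have hsymm := hcong.symm_eq hσ (-1) (by rw [map_neg, map_one]) hw₁
      have hD : IsUnit (w₁.toBlocks₂₂ - w₁.toBlocks₂₁ * ((w₁.toBlocks₁₁)⁻¹ * w₁.toBlocks₁₂)) := by
        have := hcong.isUnit hu₁
        rw [Matrix.isUnit_iff_isUnit_det, Matrix.det_fromBlocks_zero₂₁] at this
        exact (Matrix.isUnit_iff_isUnit_det _).2 (isUnit_of_mul_isUnit_right this)
      obtain ⟨hev, hDJ⟩ := ih m (by omega) _
        (Matrix.ext fun a b => congrFun (congrFun hsymm (.inr a)) (.inr b)) hD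
      refine ⟨hev.add even_two, (cong_perm (σ := σ) w π).trans ?_⟩
      have h := (hcong.trans ((cong_stdJ_two hσ h2 htriv _ hP₁ h01).fromBlocks hDJ)).submatrix e.symm
      rw [← stdJ_blocks] at h
      have hJ : (stdJ R (2 + m)).submatrix (finCongr (Nat.add_comm 2 m)).symm
          (finCongr (Nat.add_comm 2 m)).symm = stdJ R (m + 2) := by
        ext a b; simp [stdJ]
      simp [w₁, e, Matrix.submatrix_submatrix, Function.comp_assoc, Function.comp_def] at h
      rw [← hJ]
      exact h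

omit [IsLocalRing R] in
theorem stdJ_map {R' : Type*} [CommRing R'] (f : R →+* R') (m : ℕ) :
    (stdJ R m).map f = stdJ R' m := by
  ext i j
  simp only [stdJ, Matrix.map_apply, Matrix.of_apply]
  split_ifs <;> simp

omit [IsLocalRing R] in
theorem lamTr_stdJ (σ : R →+* R) (m : ℕ) : lamTr σ (stdJ R m) = -stdJ R m := by
  ext i j
  simp only [stdJ, lamTr_apply, Matrix.neg_apply, Matrix.of_apply]
  split_ifs <;> first | (exfalso; omega) | simp

end Groth.Agent.AzInvLib.Herm
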