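import Groth.Agent.AzInvLib.RamPoint

/-!
# Azumaya algebras with involution at ramified points
-/

namespace Groth.Agent.AzInvLib.RamPoint

open TensorProduct Polynomial IsLocalRing AzInv Groth.Agent.HenselLib Groth.Agent.AzInvLib.Units
  Groth.Agent.AzInvLib.Std

universe u v w

attribute [local instance] Algebra.TensorProduct.rightAlgebra

variable {S : Type u} {R : Type v} [CommRing S] [CommRing R] [Algebra S R] {lam : R ≃ₐ[S] R}
  {H : Type u} [CommRing H] [Algebra S H] {A : Type w} [Ring A] [Algebra S A] [Algebra R A]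
  [IsScalarTower S R A] [HenselianLocalRing (H ⊗[S] R)] {n : ℕ}

/-- Splitting at a ramified point. -/
theorem hasUnits [IsSepClosed (ResidueField (H ⊗[S] R))] (hA : IsAzumayaDeg R A n) :
    HasUnits S A (Fin n) H := by
  obtain ⟨κ, hκ, hκ'⟩ := exists_kappa (S := S) (R := R) H A
  haveI := hA.1
  haveI := Groth.Agent.CSA.Azu.isAzumaya_baseChange (R := R) (H ⊗[S] R) A
  obtain ⟨ψ⟩ := StrictSplit.exists_split (H ⊗[S] R) ((H ⊗[S] R) ⊗[R] A) n fun P => by
    rw [Module.rankAtStalk_baseChange, hA.2]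
  exact ⟨fun i j => κ (ψ.symm (Matrix.single i j 1)),
    ((isUnits_single (ι := Fin n) (H ⊗[S] R)).map ψ.symm).map κ⟩

/-- At a ramified point automorphisms are inner. -/
theorem exists_inner (hA : IsAzumayaDeg R A n) (ψ : A ≃ₐ[R] A) :
    ∃ u : (H ⊗[S] A)ˣ, ∀ x : H ⊗[S] A,
      Algebra.TensorProduct.congr (AlgEquiv.refl : H ≃ₐ[H] H) (ψ.restrictScalars S) x =
        ↑u * x * ↑u⁻¹ := by
  obtain ⟨κ, hκ, hκ'⟩ := exists_kappa (S := S) (R := R) H A
  haveI := hA.1
  haveI := Groth.Agent.CSA.Azu.isAzumaya_baseChange (R := R) (H ⊗[S] R) A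
  obtain ⟨w, hw⟩ := Groth.Agent.CSA.Azu.exists_conj_of_isLocalRing (H ⊗[S] R) ((H ⊗[S] R) ⊗[R] A)
    (Algebra.TensorProduct.congr (AlgEquiv.refl : (H ⊗[S] R) ≃ₐ[H ⊗[S] R] (H ⊗[S] R)) ψ)
  refine ⟨Units.map κ.toMonoidHom w, fun x => ?_⟩
  obtain ⟨y, rfl⟩ := κ.surjective x
  have h1 : Algebra.TensorProduct.congr (AlgEquiv.refl : H ≃ₐ[H] H) (ψ.restrictScalars S) (κ y) =
      κ (Algebra.TensorProduct.congr (AlgEquiv.refl : (H ⊗[S] R) ≃ₐ[H ⊗[S] R] (H ⊗[S] R)) ψ y) := by
    induction y using TensorProduct.induction_on with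
    | zero => simp
    | add a b ha hb => simp only [map_add, ha, hb]
    | tmul z a =>
      rw [Algebra.TensorProduct.congr_apply (AlgEquiv.refl : (H ⊗[S] R) ≃ₐ[H ⊗[S] R] (H ⊗[S] R)),
        Algebra.TensorProduct.map_tmul, hκ, hκ, map_mul]
      congr 1
      induction z using TensorProduct.induction_on with
      | zero => simp
      | add a b ha hb => simp only [map_add, ha, hb] at *
      | tmul c r => simp
  rw [h1, hw, map_mul, map_mul]
  rfl

section Model

theorem exists_model [IsSepClosed (ResidueField (H ⊗[S] R))] (hlam : ∀ r, lam (lam r) = r)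
    (hn : 0 < n) (hA : IsAzumayaDeg R A n) (t : LamInv R A lam) :
    ∃ (G : Matrix (Fin n) (Fin n) (H ⊗[S] R) ≃ₐ[H] H ⊗[S] A)
      (w w' : Matrix (Fin n) (Fin n) (H ⊗[S] R)) (e : H ⊗[S] R),
      w * w' = 1 ∧ lamTr (lamC H lam) w = e • w ∧ lamC H lam e * e = 1 ∧
      (∀ z, G (Matrix.scalar (Fin n) z) = jC H A z) ∧
      ∀ X, t.bc S lam H (G X) = G (w * lamTr (lamC H lam) X * w') := by
  obtain ⟨f, hf⟩ := hasUnits (S := S) (H := H) hA
  haveI : Nonempty (Fin n) := ⟨⟨0, hn⟩⟩
  obtain ⟨G, hG⟩ := exists_equiv (C := H) (show IsAzumayaDeg R A (Fintype.card (Fin n)) by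
    rwa [Fintype.card_fin]) f hf
  have hscal : ∀ z, G (Matrix.scalar (Fin n) z) = jC H A z := fun z => by
    rw [hG]
    simp [Matrix.scalar_apply, Matrix.diagonal, apply_ite, ite_mul, ← Finset.mul_sum, hf.sum]
  let σ : (H ⊗[S] R) →+* (H ⊗[S] R) := (lamC H lam).toRingHom
  have hσ : ∀ z, σ (σ z) = z := Std.lamC_lamC H hlam
  let T : Matrix (Fin n) (Fin n) (H ⊗[S] R) → Matrix (Fin n) (Fin n) (H ⊗[S] R) :=
    fun X => G.symm (t.bc S lam H (G X))
  have hTT : ∀ X, T (T X) = X := fun X => by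
    simp only [T, AlgEquiv.apply_symm_apply, bc_bc, AlgEquiv.symm_apply_apply]
  have hTmul : ∀ X Y, T (X * Y) = T Y * T X := fun X Y => by
    simp only [T, map_mul, bc_mul]
  have hTscal : ∀ z, T (Matrix.scalar (Fin n) z) = Matrix.scalar (Fin n) (σ z) := fun z => by
    simp only [T, hscal, bc_jC]
    rw [← hscal, AlgEquiv.symm_apply_apply]
    rfl
  have hlam_scal : ∀ z, lamTr σ (Matrix.scalar (Fin n) z) = Matrix.scalar (Fin n) (σ z) := fun z => by
    simp [AzInv.lamTr, Matrix.scalar_apply, Matrix.diagonal_map]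
  let Ψ₀ : Matrix (Fin n) (Fin n) (H ⊗[S] R) →ₐ[H ⊗[S] R] Matrix (Fin n) (Fin n) (H ⊗[S] R) :=
    { toFun := fun X => T (lamTr σ X)
      map_one' := by
        simp only [T, Herm.lamTr_one, map_one, bc_one]
      map_mul' := fun X Y => by rw [Herm.lamTr_mul', hTmul]
      map_zero' := by simp [T, AzInv.lamTr]
      map_add' := fun X Y => by
        simp [T, AzInv.lamTr, Matrix.map_add σ (map_add σ), Matrix.transpose_add, map_add]
      commutes' := fun z => by
        show T (lamTr σ (Matrix.scalar (Fin n) z)) = Matrix.scalar (Fin n) z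
        rw [hlam_scal, hTscal, hσ] }
  have hΨb : Function.Bijective Ψ₀ := by
    refine Function.bijective_iff_has_inverse.2 ⟨fun X => lamTr σ (T X), fun X => ?_, fun X => ?_⟩
    · show lamTr σ (T (T (lamTr σ X))) = X
      rw [hTT, Herm.lamTr_lamTr σ hσ]
    · show T (lamTr σ (lamTr σ (T X))) = X
      rw [Herm.lamTr_lamTr σ hσ, hTT]
  haveI : IsAzumaya (H ⊗[S] R) (Matrix (Fin n) (Fin n) (H ⊗[S] R)) :=
    IsAzumaya.matrix (H ⊗[S] R) (Fin n)
  obtain ⟨w, hw⟩ := Groth.Agent.CSA.Azu.exists_conj_of_isLocalRing (H ⊗[S] R)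
    (Matrix (Fin n) (Fin n) (H ⊗[S] R)) (AlgEquiv.ofBijective Ψ₀ hΨb)
  let W : Matrix (Fin n) (Fin n) (H ⊗[S] R) := w
  let W' : Matrix (Fin n) (Fin n) (H ⊗[S] R) := ↑w⁻¹
  have hT : ∀ X, T X = W * lamTr σ X * W' := fun X => by
    rw [← hw]
    show T X = T (lamTr σ (lamTr σ X))
    rw [Herm.lamTr_lamTr σ hσ]
  have hWW : W * W' = 1 := w.mul_inv
  have hW'W : W' * W = 1 := w.inv_mul
  have hy : ∀ X, (W * lamTr σ W') * X * (lamTr σ W * W') = X := fun X => by
    conv_rhs => rw [← hTT X]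
    rw [hT (T X), hT X]
    simp only [Herm.lamTr_mul', Herm.lamTr_lamTr σ hσ, mul_assoc]
  have hzy : (lamTr σ W * W') * (W * lamTr σ W') = 1 := by
    rw [mul_assoc, ← mul_assoc W', hW'W, one_mul, ← Herm.lamTr_mul', hW'W, Herm.lamTr_one]
  have hcen : ∀ X, X * (lamTr σ W * W') = (lamTr σ W * W') * X := fun X => by
    calc X * (lamTr σ W * W') =
        ((lamTr σ W * W') * (W * lamTr σ W')) * (X * (lamTr σ W * W')) := by rw [hzy, one_mul]
      _ = (lamTr σ W * W') * ((W * lamTr σ W') * X * (lamTr σ W * W')) := by simp only [mul_assoc]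
      _ = _ := by rw [hy]
  obtain ⟨e, he⟩ := Groth.Agent.CSA.Azu.exists_algebraMap_eq_of_central (H ⊗[S] R)
    (Matrix (Fin n) (Fin n) (H ⊗[S] R)) hcen
  have hsym : lamTr σ W = e • W := by
    rw [Algebra.smul_def, he, mul_assoc, hW'W, mul_one]
  have he1 : σ e * e = 1 := by
    have h1 : lamTr σ (lamTr σ W) = (σ e * e) • W := by
      rw [hsym]
      conv_lhs => rw [show lamTr σ (e • W) = σ e • lamTr σ W by
        ext i j; simp [AzInv.lamTr, Matrix.smul_apply]]
      rw [hsym, smul_smul]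
    rw [Herm.lamTr_lamTr σ hσ] at h1
    have h2 := congrArg (fun M => (M * W') (⟨0, hn⟩ : Fin n) ⟨0, hn⟩) h1
    simp [hWW, Matrix.smul_apply] at h2
    exact h2.symm
  refine ⟨G, W, W', e, hWW, hsym, he1, hscal, fun X => ?_⟩
  show t.bc S lam H (G X) = G (W * lamTr σ X * W')
  rw [← hT, show G (T X) = t.bc S lam H (G X) from G.apply_symm_apply _]

/-- Normalised signs. -/
theorem exists_sign [IsSepClosed (ResidueField (H ⊗[S] R))] (hlam : ∀ r, lam (lam r) = r)
    (htriv : ∀ z, lamC H lam z - z ∈ maximalIdeal (H ⊗[S] R))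
    (hn : 0 < n) (hA : IsAzumayaDeg R A n) (t : LamInv R A lam)
    (hc : IsUnit (2 : H ⊗[S] R) ∨ Odd n) :
    ∃ (G : Matrix (Fin n) (Fin n) (H ⊗[S] R) ≃ₐ[H] H ⊗[S] A)
      (w w' : Matrix (Fin n) (Fin n) (H ⊗[S] R)),
      w * w' = 1 ∧ (lamTr (lamC H lam) w = w ∨
        (IsUnit (2 : H ⊗[S] R) ∧ lamTr (lamC H lam) w = (-1 : H ⊗[S] R) • w)) ∧
      ∀ X, t.bc S lam H (G X) = G (w * lamTr (lamC H lam) X * w') := by
  obtain ⟨G, w, w', e, hww, hwe, he, -, hT⟩ := exists_model (H := H) hlam hn hA t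
  let σ : (H ⊗[S] R) →+* (H ⊗[S] R) := (lamC H lam).toRingHom
  have hwe : lamTr σ w = e • w := hwe
  have he : σ e * e = 1 := he
  have scale : ∀ (c s : H ⊗[S] R), IsUnit c → σ c * e = s * c →
      ∃ v v', v * v' = 1 ∧ lamTr σ v = s • v ∧
        ∀ X, t.bc S lam H (G X) = G (v * lamTr σ X * v') := by
    intro c s hcu hcs
    obtain ⟨c', hc'⟩ := hcu.exists_right_inv
    refine ⟨c • w, c' • w', ?_, ?_, fun X => ?_⟩
    · rw [smul_mul_smul_comm, hc', hww, one_smul]
    · rw [show lamTr σ (c • w) = σ c • lamTr σ w by ext i j; simp [AzInv.lamTr, Matrix.smul_apply],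
        hwe, smul_smul, smul_smul, hcs]
    · rw [hT]
      congr 1
      rw [smul_mul_assoc, smul_mul_assoc, mul_smul_comm, smul_smul, hc', one_smul]
      rfl
  rcases Nat.even_or_odd n with heven | hodd
  · have h2 : IsUnit (2 : H ⊗[S] R) := hc.resolve_right (Nat.not_odd_iff_even.2 heven)
    have hm : (e - 1) * (e + 1) ∈ maximalIdeal (H ⊗[S] R) := by
      have : (e - 1) * (e + 1) = -((σ e - e) * e) := by linear_combination he
      rw [this]
      exact neg_mem (Ideal.mul_mem_right _ _ (htriv e))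
    rcases (maximalIdeal.isMaximal (H ⊗[S] R)).isPrime.mem_or_mem hm with h | h
    · obtain ⟨v, v', h1, h2', h3⟩ := scale (1 + e) 1 (Herm.isUnit_of_sub_mem h2 (by
        rwa [show (1 : H ⊗[S] R) + e - 2 = e - 1 by ring]))
        (by rw [map_add, map_one, add_mul, one_mul, one_mul, he, add_comm])
      exact ⟨G, v, v', h1, Or.inl (h2'.trans (one_smul _ v)), h3⟩
    · obtain ⟨v, v', h1, h2', h3⟩ := scale (1 - e) (-1) (Herm.isUnit_of_sub_mem h2 (by
        rw [show (1 : H ⊗[S] R) - e - 2 = -(e + 1) by ring]; exact neg_mem h))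
        (by rw [map_sub, map_one, sub_mul, one_mul, he]; ring)
      exact ⟨G, v, v', h1, Or.inr ⟨h2, h2'⟩, h3⟩
  · obtain ⟨k, hk⟩ := hodd
    have hdu : IsUnit w.det :=
      (Matrix.isUnit_iff_isUnit_det w).1 ⟨⟨w, w', hww, mul_eq_one_comm.1 hww⟩, rfl⟩
    have hd : σ w.det = e ^ n * w.det := by
      have := congrArg Matrix.det hwe
      rw [show (lamTr σ w).det = σ w.det by
        rw [AzInv.lamTr, Matrix.det_transpose, RingHom.map_det]; rfl, Matrix.det_smul,
        Fintype.card_fin] at this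
      exact this
    have heu : IsUnit e := ⟨⟨e, σ e, by rw [mul_comm, he], he⟩, rfl⟩
    have hpow : σ e ^ (k + 1) * e ^ (k + 1) = 1 := by rw [← mul_pow, he, one_pow]
    obtain ⟨v, v', h1, h2', h3⟩ := scale (w.det * e ^ (k + 1)) 1 (hdu.mul (heu.pow _)) (by
      rw [map_mul, map_pow, hd, one_mul, show e ^ n = e ^ (2 * k + 1) from congrArg (e ^ ·) hk]
      have : e ^ (2 * k + 1) * e = e ^ (k + 1) * e ^ (k + 1) := by ring
      calc e ^ (2 * k + 1) * w.det * σ e ^ (k + 1) * e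
          = (e ^ (2 * k + 1) * e) * (w.det * σ e ^ (k + 1)) := by ring
        _ = w.det * e ^ (k + 1) * (σ e ^ (k + 1) * e ^ (k + 1)) := by rw [this]; ring
        _ = _ := by rw [hpow, mul_one])
    exact ⟨G, v, v', h1, Or.inl (h2'.trans (one_smul _ v)), h3⟩

/-- Standard units from a congruence. -/
theorem hasStd_of_cong (t : LamInv R A lam)
    (G : Matrix (Fin n) (Fin n) (H ⊗[S] R) ≃ₐ[H] H ⊗[S] A)
    (hlam : ∀ r, lam (lam r) = r)
    (w w' : Matrix (Fin n) (Fin n) (H ⊗[S] R)) (hww : w * w' = 1)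
    (hT : ∀ X, t.bc S lam H (G X) = G (w * lamTr (lamC H lam) X * w'))
    (W W' : Matrix (Fin n) (Fin n) ℤ)
    (hWW : W.map (Int.castRingHom (H ⊗[S] R)) * W'.map (Int.castRingHom (H ⊗[S] R)) = 1)
    (hcong : Herm.Cong (lamC H lam).toRingHom w (W.map (Int.castRingHom (H ⊗[S] R)))) :
    HasStd H t W W' := by
  let σ : (H ⊗[S] R) →+* (H ⊗[S] R) := (lamC H lam).toRingHom
  have hσ : ∀ z, σ (σ z) = z := Std.lamC_lamC H hlam
  obtain ⟨g, g', hg, hgw⟩ := hcong
  have hg' : g' * g = 1 := mul_eq_one_comm.1 hg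
  let Wr : Matrix (Fin n) (Fin n) (H ⊗[S] R) := W.map (Int.castRingHom (H ⊗[S] R))
  let Wr' : Matrix (Fin n) (Fin n) (H ⊗[S] R) := W'.map (Int.castRingHom (H ⊗[S] R))
  let a := lamTr σ g'
  let b := lamTr σ g
  have hab : a * b = 1 := by rw [← Herm.lamTr_mul', hg, Herm.lamTr_one]
  have hba : b * a = 1 := mul_eq_one_comm.1 hab
  have hwg : w * g = a * Wr := by
    rw [show Wr = b * w * g from hgw.symm, ← mul_assoc, ← mul_assoc, hab, one_mul]
  have hgw' : g' * w' = Wr' * b := by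
    refine left_inv_eq_right_inv (a := w * g) ?_ ?_
    · rw [mul_assoc, ← mul_assoc w', mul_eq_one_comm.1 hww, one_mul, hg']
    · rw [hwg, mul_assoc, ← mul_assoc Wr, hWW, one_mul, hab]
  let e : Fin n → Fin n → H ⊗[S] A := fun i j => G (a * Matrix.single i j 1 * b)
  have hmul : ∀ X Y : Matrix (Fin n) (Fin n) (H ⊗[S] R), (a * X * b) * (a * Y * b) = a * (X * Y) * b := by
    intro X Y
    simp only [mul_assoc]
    rw [← mul_assoc b, hba, one_mul]
  refine ⟨e, ⟨fun i j k l => ?_, ?_⟩, fun i j => ?_⟩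
  · rw [show e i j * e k l = G ((a * Matrix.single i j 1 * b) * (a * Matrix.single k l 1 * b)) from
      (map_mul G _ _).symm, hmul, (isUnits_single (ι := Fin n) (H ⊗[S] R)).mul]
    split_ifs <;> simp [e]
  · show ∑ i, G (a * Matrix.single i i 1 * b) = 1
    rw [← map_sum, ← Finset.sum_mul, ← Finset.mul_sum,
      (isUnits_single (ι := Fin n) (H ⊗[S] R)).sum, mul_one, hab, map_one]
  · rw [hT]
    have h1 : lamTr σ (a * Matrix.single i j 1 * b) = g * Matrix.single j i 1 * g' := by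
      show lamTr σ (lamTr σ g' * Matrix.single i j 1 * lamTr σ g) = _
      rw [Herm.lamTr_mul', Herm.lamTr_mul', Herm.lamTr_lamTr σ hσ g, Herm.lamTr_lamTr σ hσ g',
        ← mul_assoc, show lamTr σ (Matrix.single i j (1 : H ⊗[S] R)) = Matrix.single j i 1 by
          simp [AzInv.lamTr, Matrix.map_single, Matrix.transpose_single]]
    show G (w * lamTr σ (a * Matrix.single i j 1 * b) * w') = _
    rw [h1, show w * (g * Matrix.single j i 1 * g') * w' =
      (w * g) * Matrix.single j i 1 * (g' * w') by simp only [mul_assoc], hwg, hgw',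
      show a * Wr * Matrix.single j i 1 * (Wr' * b) = a * (Wr * Matrix.single j i 1 * Wr') * b by
        simp only [mul_assoc]]
    have h2 : Wr * Matrix.single j i 1 * Wr' =
        ∑ k, ∑ l, (W k j * W' i l) • Matrix.single k l (1 : H ⊗[S] R) := by
      ext k l
      simp [Wr, Wr', Matrix.sum_apply, Matrix.smul_apply, Matrix.mul_apply, Matrix.single,
        Finset.sum_ite_eq', ite_and]
    rw [h2]
    simp only [Finset.mul_sum, Finset.sum_mul, map_sum, mul_smul_comm, smul_mul_assoc, map_zsmul, e]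

/-- The normal forms at a ramified point. -/
theorem hasStd [IsSepClosed (ResidueField (H ⊗[S] R))] (hlam : ∀ r, lam (lam r) = r)
    (htriv : ∀ z, lamC H lam z - z ∈ maximalIdeal (H ⊗[S] R))
    (hsq : ∀ z : H ⊗[S] R, lamC H lam z = z → IsUnit z → ∃ y, lamC H lam y = y ∧ y * y = z)
    (hn : 0 < n) (hA : IsAzumayaDeg R A n) (t : LamInv R A lam)
    (hc : IsUnit (2 : H ⊗[S] R) ∨ Odd n) :
    HasStd H t (1 : Matrix (Fin n) (Fin n) ℤ) 1 ∨
      (Even n ∧ IsUnit (2 : H ⊗[S] R) ∧ HasStd H t (Herm.stdJ ℤ n) (-Herm.stdJ ℤ n)) := by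
  obtain ⟨G, w, w', hww, hsign, hT⟩ := exists_sign hlam htriv hn hA t hc
  let σ : (H ⊗[S] R) →+* (H ⊗[S] R) := (lamC H lam).toRingHom
  have hσ : ∀ z, σ (σ z) = z := Std.lamC_lamC H hlam
  have hwu : IsUnit w := ⟨⟨w, w', hww, mul_eq_one_comm.1 hww⟩, rfl⟩
  rcases hsign with hs | ⟨h2, hs⟩
  · left
    obtain ⟨w₁, hw₁, hdiag⟩ : ∃ w₁, Herm.Cong σ w w₁ ∧ ∃ k, IsUnit (w₁ k k) := by
      by_cases h2 : IsUnit (2 : H ⊗[S] R)
      · exact Herm.exists_cong_diag (σ := σ) htriv h2 w hs hwu ⟨0, hn⟩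
      · exact ⟨w, Herm.Cong.refl w, Herm.exists_diag_of_odd (σ := σ) htriv h2 w hs hwu
          (by rw [Fintype.card_fin]; exact hc.resolve_left h2)⟩
    have hw₁s : lamTr σ w₁ = w₁ := by
      have := hw₁.symm_eq hσ 1 (map_one σ) (by rw [one_smul]; exact hs)
      rwa [one_smul] at this
    have hcong := hw₁.trans (Herm.cong_one (σ := σ) htriv hσ hsq n w₁ hw₁s (hw₁.isUnit hwu)
      (Or.inr hdiag))
    refine hasStd_of_cong t G hlam w w' hww hT 1 1 ?_ ?_
    · simp
    · simpa [σ] using hcong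
  · right
    obtain ⟨hev, hcong⟩ := Herm.cong_stdJ (σ := σ) htriv hσ h2 n w hs hwu
    refine ⟨hev, h2, hasStd_of_cong t G hlam w w' hww hT _ _ ?_ ?_⟩
    · obtain ⟨k, rfl⟩ := hev
      rw [← Matrix.map_mul, show k + k = 2 * k by ring, Herm.stdJ_sq]
      simp
    · rw [Herm.stdJ_map]
      exact hcong

/-- The two normal forms exclude each other. -/
theorem not_both (hlam : ∀ r, lam (lam r) = r)
    (htriv : ∀ z, lamC H lam z - z ∈ maximalIdeal (H ⊗[S] R)) (h2 : IsUnit (2 : H ⊗[S] R))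
    (hn : 0 < n) (heven : Even n) (hA : IsAzumayaDeg R A n) (t : LamInv R A lam)
    (h₁ : HasStd H t (1 : Matrix (Fin n) (Fin n) ℤ) 1)
    (h₂ : HasStd H t (Herm.stdJ ℤ n) (-Herm.stdJ ℤ n)) : False := by
  obtain ⟨e, he⟩ := h₁
  obtain ⟨f, hf⟩ := h₂
  haveI : Nonempty (Fin n) := ⟨⟨0, hn⟩⟩
  have hA' : IsAzumayaDeg R A (Fintype.card (Fin n)) := by rwa [Fintype.card_fin]
  obtain ⟨E, hE⟩ := exists_equiv (C := H) hA' e he.units
  obtain ⟨F, hF⟩ := exists_equiv (C := H) hA' f hf.units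
  let σ : (H ⊗[S] R) →+* (H ⊗[S] R) := (lamC H lam).toRingHom
  have hσ : ∀ z, σ (σ z) = z := Std.lamC_lamC H hlam
  let o : Fin n := ⟨0, hn⟩
  let q := e o o
  let M : Matrix (Fin n) (Fin n) (H ⊗[S] R) := F.symm q
  let J : Matrix (Fin n) (Fin n) (H ⊗[S] R) := Herm.stdJ (H ⊗[S] R) n
  have hqt : t.bc S lam H q = q := by
    rw [he.inv, Fintype.sum_eq_single o, Fintype.sum_eq_single o]
    · simp [q]
    · intro l hl; simp [Matrix.one_apply_ne (Ne.symm hl)]
    · intro k hk; simp [Matrix.one_apply_ne hk]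
  have hJJ : J * -J = 1 := by
    obtain ⟨k, hk⟩ := heven
    obtain rfl : n = 2 * k := by omega
    exact Herm.stdJ_sq (R := H ⊗[S] R) k
  have hJt : lamTr σ J = -J := Herm.lamTr_stdJ σ n
  have hJc : ∀ i j, J i j = ((Herm.stdJ ℤ n i j : ℤ) : H ⊗[S] R) := fun i j =>
    (congrFun (congrFun (Herm.stdJ_map (Int.castRingHom (H ⊗[S] R)) n) i) j).symm
  have hFt : ∀ X, t.bc S lam H (F X) = F (J * lamTr σ X * -J) := fun X => by
    rw [hF, exists_bc_formula hf, hF]
    refine Finset.sum_congr rfl fun k _ => Finset.sum_congr rfl fun l _ => ?_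
    congr 2
    rw [Matrix.mul_apply]
    simp only [Matrix.mul_apply, Finset.sum_mul]
    refine Finset.sum_congr rfl fun i _ => Finset.sum_congr rfl fun j _ => ?_
    simp [AzInv.lamTr, σ, hJc, zsmul_eq_mul]
    try ring
  have hM : M = J * lamTr σ M * -J := F.injective (by
    rw [← hFt, show F M = q from F.apply_symm_apply q, hqt])
  have hFscal : ∀ z, F (Matrix.scalar (Fin n) z) = jC H A z := fun z => by
    rw [hF]
    simp [Matrix.scalar_apply, Matrix.diagonal, apply_ite, ite_mul, ← Finset.mul_sum, hf.units.sum]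
  have hMXM : ∀ X, ∃ z, M * X * M = z • M := fun X => by
    obtain ⟨Y, hY⟩ := E.surjective (F X)
    refine ⟨Y o o, F.injective ?_⟩
    rw [map_mul, map_mul, show F M = q from F.apply_symm_apply q, Algebra.smul_def, map_mul,
      show F M = q from F.apply_symm_apply q, show algebraMap _ _ (Y o o) =
        Matrix.scalar (Fin n) (Y o o) from rfl, hFscal, ← hY, hE, Finset.mul_sum, Finset.sum_mul,
      Fintype.sum_eq_single o, Finset.mul_sum, Finset.sum_mul, Fintype.sum_eq_single o]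
    · rw [← mul_assoc q, ← jC_comm, mul_assoc, mul_assoc, he.units.mul, if_pos rfl, he.units.mul, if_pos rfl]
    · intro l hl
      rw [← mul_assoc q, ← jC_comm, mul_assoc, mul_assoc, he.units.mul, if_neg hl, mul_zero, mul_zero]
    · intro k hk
      rw [Finset.mul_sum, Finset.sum_mul]
      refine Finset.sum_eq_zero fun l _ => ?_
      rw [← mul_assoc q, ← jC_comm, mul_assoc (jC H A (Y k l)) q, he.units.mul, if_neg (Ne.symm hk),
        mul_zero, zero_mul]
  -- pass to the residue field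
  let Q := ResidueField (H ⊗[S] R)
  let N : Matrix (Fin n) (Fin n) Q := (M * J).map (residue (H ⊗[S] R))
  have hres : ∀ z, residue (H ⊗[S] R) (σ z) = residue _ z := fun z => by
    rw [← sub_eq_zero, ← map_sub, residue_eq_zero_iff]; exact htriv z
  have hskew : ∀ i j, N i j = -N j i := fun i j => by
    have h3 : M * J = J * lamTr σ M := by
      conv_lhs => rw [hM, mul_assoc (J * lamTr σ M), show -J * J = 1 by rw [neg_mul, ← mul_neg, hJJ], mul_one]
    have h4 : lamTr σ (M * J) = -(M * J) := by rw [Herm.lamTr_mul', hJt, h3, neg_mul]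
    have h5 := congrArg (residue (H ⊗[S] R)) (congrFun (congrFun h4 i) j)
    simp only [AzInv.lamTr, Matrix.transpose_apply, Matrix.map_apply, Matrix.neg_apply, map_neg, hres] at h5
    show residue _ ((M * J) i j) = -residue _ ((M * J) j i)
    rw [h5, neg_neg]
  have hN2 : (2 : Q) ≠ 0 := by
    show (2 : Q) ≠ 0
    rw [← map_ofNat (residue (H ⊗[S] R)) 2, ne_eq, residue_eq_zero_iff]
    exact fun h => h h2
  have hdiag : ∀ i, N i i = 0 := fun i => by
    have h := hskew i i
    have : (2 : Q) * N i i = 0 := by linear_combination h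
    exact (mul_eq_zero.1 this).resolve_left hN2
  have hNXN : ∀ X : Matrix (Fin n) (Fin n) (H ⊗[S] R), ∃ z : Q,
      N * X.map (residue (H ⊗[S] R)) * N = z • N := fun X => by
    obtain ⟨z, hz⟩ := hMXM (J * X)
    refine ⟨residue _ z, ?_⟩
    simp only [N]
    rw [← Matrix.map_mul, ← Matrix.map_mul,
      show M * J * X * (M * J) = (M * (J * X) * M) * J by simp only [mul_assoc], hz, smul_mul_assoc]
    ext i j
    simp only [Matrix.smul_apply, Matrix.map_apply, smul_eq_mul, map_mul]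
  obtain ⟨i, j, hij⟩ : ∃ i j, N i j ≠ 0 := by
    by_contra! hN
    have hMm : M.map (residue (H ⊗[S] R)) = 0 := by
      rw [show M = (M * J) * -J by rw [mul_assoc, hJJ, mul_one], Matrix.map_mul,
        show (M * J).map (residue (H ⊗[S] R)) = 0 from Matrix.ext hN, zero_mul]
    have hidem : M * M = M := F.injective (by
      rw [map_mul, show F M = q from F.apply_symm_apply q, he.units.mul, if_pos rfl])
    have hu : IsUnit (1 - M) := by
      rw [Matrix.isUnit_iff_isUnit_det]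
      refine IsUnit.of_map (residue (H ⊗[S] R)) _ ?_
      rw [RingHom.map_det, RingHom.mapMatrix_apply, Matrix.map_sub (residue _) (map_sub _), hMm,
        sub_zero, Matrix.map_one _ (map_zero _) (map_one _), Matrix.det_one]
      exact isUnit_one
    have hM0 : M = 0 := by
      have h1 : M * (1 - M) = 0 := by rw [mul_sub, mul_one, hidem, sub_self]
      exact (hu.mul_left_eq_zero).1 h1
    have hq0 : q = 0 := by rw [← F.apply_symm_apply q]; simp [show F.symm q = M from rfl, hM0]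
    have h10 : (1 : H ⊗[S] A) = 0 := by
      rw [← he.units.sum]
      refine Finset.sum_eq_zero fun i _ => ?_
      have : e i o * q * e o i = e i i := by
        rw [he.units.mul, if_pos rfl, he.units.mul, if_pos rfl]
      rw [← this, hq0, mul_zero, zero_mul]
    have := congrFun (congrFun (congrArg F.symm h10) o) o
    simp at this
  obtain ⟨z, hz⟩ := hNXN (Matrix.single j i 1)
  have key : ∀ a b, (N * (Matrix.single j i (1 : H ⊗[S] R)).map (residue (H ⊗[S] R)) * N) a b =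
      N a j * N i b := fun a b => by
    simp [Matrix.mul_apply, Matrix.single, ite_and, apply_ite]
  have e1 := congrFun (congrFun hz i) j
  have e2 := congrFun (congrFun hz j) i
  rw [key, Matrix.smul_apply, smul_eq_mul] at e1 e2
  rw [hdiag, hdiag, mul_zero, hskew j i] at e2
  have hz' : z = N i j := (mul_right_cancel₀ hij e1).symm
  rw [hz'] at e2
  exact hij (mul_self_eq_zero.1 (by linear_combination e2))

end Model

end Groth.Agent.AzInvLib.RamPoint
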