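import Groth.Agent.AzInvLib.SplitPoint
import Groth.Agent.AzInvLib.RamAlg
import Groth.Agent.AzInvLib.QuadEtale
import Groth.Agent.CSA.Azumaya

/-!
# The local structure of Azumaya algebras with involution at strictly henselian points
-/

namespace Groth.Agent.AzInvLib.Main

open TensorProduct AzInv Groth.Agent.HenselLib Groth.Agent.AzInvLib.Units Groth.Agent.AzInvLib.Std

universe u v w

variable {S : Type u} {R : Type v} [CommRing S] [CommRing R] [Algebra S R] {lam : R ≃ₐ[S] R}
  {A : Type w} [Ring A] [Algebra S A] [Algebra R A] [IsScalarTower S R A] {n : ℕ}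
  {K : Type u} [Field K] [Algebra S K] [IsSepClosed K] {H : Type u} [CommRing H] [Algebra S H]
  {ρ : H →ₐ[S] K}

/-- Either split or ramified. -/
theorem split_or_ram (h : IsNbhdColim S K H ρ) (hlam : ∀ r, lam (lam r) = r)
    (hfix : RInv.IsFixedRing S R lam.toRingEquiv) :
    (∃ φ ε, SplitPoint.IsSplit (H := H) lam φ ε) ∨ RamPoint.IsRamified lam K := by
  by_cases hc : RamPoint.IsRamified lam K
  · exact Or.inr hc
  · simp only [RamPoint.IsRamified, not_forall] at hc
    obtain ⟨r, δ, hδ, hδK⟩ := hc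
    exact Or.inl (SplitPoint.exists_isSplit h hlam hfix r δ hδ hδK)

variable (h : IsNbhdColim S K H ρ) (hlam : ∀ r, lam (lam r) = r)
  (hfix : RInv.IsFixedRing S R lam.toRingEquiv)
include h hlam hfix

theorem hasUnits (hA : IsAzumayaDeg R A n) : HasUnits S A (Fin n) H := by
  haveI := h.henselian
  haveI := PointFacts.isSepClosed_residue h
  rcases split_or_ram h hlam hfix with ⟨φ, ε, hs⟩ | hr
  · exact SplitPoint.hasUnits hs hA
  · obtain ⟨_, _, -⟩ := RamPoint.exists_local hlam hfix h hr
    exact RamPoint.hasUnits hA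

theorem exists_inner (hA : IsAzumayaDeg R A n) (ψ : A ≃ₐ[R] A) :
    ∃ u : (H ⊗[S] A)ˣ, ∀ x : H ⊗[S] A,
      Algebra.TensorProduct.congr (AlgEquiv.refl : H ≃ₐ[H] H) (ψ.restrictScalars S) x =
        ↑u * x * ↑u⁻¹ := by
  haveI := h.henselian
  haveI := PointFacts.isSepClosed_residue h
  rcases split_or_ram h hlam hfix with ⟨φ, ε, hs⟩ | hr
  · exact SplitPoint.exists_inner hs hA ψ
  · obtain ⟨_, -, -⟩ := RamPoint.exists_local hlam hfix h hr
    exact RamPoint.exists_inner hA ψ

omit hlam in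
/-- Square roots of fixed units. -/
theorem exists_fixed_sq (hsq : ∀ x : H, IsUnit x → ∃ y, y * y = x) (z : H ⊗[S] R)
    (hz : lamC H lam z = z) (hzu : IsUnit z) : ∃ y, lamC H lam y = y ∧ y * y = z := by
  obtain ⟨z', hz'⟩ := hzu.exists_right_inv
  have hz'f : lamC H lam z' = z' := by
    calc lamC H lam z' = lamC H lam z' * (z * z') := by rw [hz', mul_one]
      _ = lamC H lam (z * z') * z' := by rw [map_mul, hz]; ring
      _ = z' := by rw [hz', map_one, one_mul]
  obtain ⟨c, hc⟩ := RamPoint.exists_of_fixed hfix h z hz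
  obtain ⟨c', hc'⟩ := RamPoint.exists_of_fixed hfix h z' hz'f
  have hcc : c * c' = 1 := sub_eq_zero.1 (RamPoint.includeLeft_injective hfix h (by
    rw [TensorProduct.sub_tmul, ← mul_one (1 : R), ← Algebra.TensorProduct.tmul_mul_tmul, mul_one, hc,
      hc', hz', ← Algebra.TensorProduct.one_def, sub_self]))
  obtain ⟨y, rfl⟩ := hsq c ⟨⟨c, c', hcc, by rw [mul_comm, hcc]⟩, rfl⟩
  refine ⟨y ⊗ₜ[S] (1 : R), by simp [lamC_tmul], ?_⟩
  rw [Algebra.TensorProduct.tmul_mul_tmul, mul_one, hc]

/-- The normal forms. -/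
theorem hasStd (hsq : ∀ x : H, IsUnit x → ∃ y, y * y = x) (hn : 0 < n) (hA : IsAzumayaDeg R A n)
    (t : LamInv R A lam) (hc : IsUnit (2 : H) ∨ Odd n ∨ ¬ RamPoint.IsRamified lam K) :
    HasStd H t (1 : Matrix (Fin n) (Fin n) ℤ) 1 ∨
      (Even n ∧ IsUnit (2 : H) ∧ RamPoint.IsRamified lam K ∧
        HasStd H t (Herm.stdJ ℤ n) (-Herm.stdJ ℤ n)) := by
  haveI := h.henselian
  haveI := PointFacts.isSepClosed_residue h
  by_cases hr : RamPoint.IsRamified lam K
  · obtain ⟨_, _, htriv⟩ := RamPoint.exists_local hlam hfix h hr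
    have hc' : IsUnit (2 : H ⊗[S] R) ∨ Odd n := by
      rcases hc with h2 | hodd | hnr
      · left; rw [← map_ofNat (algebraMap H (H ⊗[S] R)) 2]; exact h2.map _
      · exact Or.inr hodd
      · exact absurd hr hnr
    rcases RamPoint.hasStd hlam htriv (exists_fixed_sq h hfix hsq) hn hA t hc' with h1 | ⟨he, h2, hJ⟩
    · exact Or.inl h1
    · refine Or.inr ⟨he, ?_, hr, hJ⟩
      rcases hc with h2' | hodd | hnr
      · exact h2'
      · exact absurd hodd (Nat.not_odd_iff_even.2 he)
      · exact absurd hr hnr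
  · rcases split_or_ram h hlam hfix with ⟨φ, ε, hs⟩ | hr'
    · exact Or.inl (SplitPoint.hasStd hs hA t)
    · exact absurd hr' hr

theorem not_both (hr : RamPoint.IsRamified lam K) (h2 : IsUnit (2 : H)) (hn : 0 < n) (he : Even n)
    (hA : IsAzumayaDeg R A n) (t : LamInv R A lam)
    (h₁ : HasStd H t (1 : Matrix (Fin n) (Fin n) ℤ) 1)
    (h₂ : HasStd H t (Herm.stdJ ℤ n) (-Herm.stdJ ℤ n)) : False := by
  haveI := h.henselian
  haveI := PointFacts.isSepClosed_residue h
  obtain ⟨_, -, htriv⟩ := RamPoint.exists_local hlam hfix h hr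
  refine RamPoint.not_both hlam htriv ?_ hn he hA t h₁ h₂
  rw [← map_ofNat (algebraMap H (H ⊗[S] R)) 2]
  exact h2.map _

/-- A quadratic étale extension is nowhere ramified. -/
theorem not_ramified (hq : RInv.IsQuadEtale S R) : ¬ RamPoint.IsRamified lam K := fun hr => by
  haveI := h.henselian
  haveI := PointFacts.isSepClosed_residue h
  obtain ⟨_, -, htriv⟩ := RamPoint.exists_local hlam hfix h hr
  have h1 : (1 : H ⊗[S] R) ∈ IsLocalRing.maximalIdeal (H ⊗[S] R) := by
    have htop := QEt.span_eq_top lam hlam hfix hq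
    let i : R →+* H ⊗[S] R :=
      (Algebra.TensorProduct.includeRight (R := S) (A := H) (B := R)).toRingHom
    have hle : Ideal.span (Set.range fun w : R => w - lam w) ≤
        (IsLocalRing.maximalIdeal (H ⊗[S] R)).comap i := by
      refine Ideal.span_le.2 ?_
      rintro _ ⟨r, rfl⟩
      show i (r - lam r) ∈ IsLocalRing.maximalIdeal (H ⊗[S] R)
      have := htriv ((1 : H) ⊗ₜ[S] r)
      rw [lamC_tmul, ← TensorProduct.tmul_sub, ← neg_sub r (lam r), TensorProduct.tmul_neg,
        Ideal.neg_mem_iff] at this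
      exact this
    rw [htop] at hle
    have := hle (Submodule.mem_top : (1 : R) ∈ ⊤)
    rw [Ideal.mem_comap, map_one] at this
    exact this
  exact (IsLocalRing.maximalIdeal.isMaximal (H ⊗[S] R)).ne_top ((Ideal.eq_top_iff_one _).2 h1)

omit hlam hfix in
/-- Points over a prime. -/
theorem exists_hom_of_mem_range (p : PrimeSpectrum S)
    (hker : RingHom.ker (algebraMap S K) = p.asIdeal) {C : Type u} [CommRing C] [Algebra S C]
    [Algebra.Etale S C] (hp : p ∈ Set.range (PrimeSpectrum.comap (algebraMap S C))) :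
    Nonempty (C →ₐ[S] H) := by
  obtain ⟨q, hq⟩ := hp
  let k := p.asIdeal.ResidueField
  let L := q.asIdeal.ResidueField
  let fK : k →+* K := Ideal.ResidueField.lift p.asIdeal (algebraMap S K) (by rw [hker]) (by
    intro x hx
    exact isUnit_iff_ne_zero.2 fun h0 => hx (by rw [← hker]; exact h0))
  let fL : k →+* L := Ideal.ResidueField.map p.asIdeal q.asIdeal (algebraMap S C)
    (by rw [← hq]; rfl)
  letI : Algebra k K := fK.toAlgebra
  letI : Algebra k L := fL.toAlgebra
  have hK : ∀ s, algebraMap k K (algebraMap S k s) = algebraMap S K s := fun s =>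
    Ideal.ResidueField.lift_algebraMap _ _ _ _ s
  haveI : IsScalarTower S k K := IsScalarTower.of_algebraMap_eq fun s => (hK s).symm
  have hL : ∀ s, algebraMap k L (algebraMap S k s) = algebraMap S L s := fun s =>
    (Ideal.ResidueField.map_algebraMap _ _ _ _ _).trans (IsScalarTower.algebraMap_apply S C L s).symm
  haveI : IsScalarTower S k L := IsScalarTower.of_algebraMap_eq fun s => (hL s).symm
  haveI : Nontrivial (K ⊗[k] L) :=
    (Algebra.TensorProduct.includeLeft_injective (S := k) (A := K) (B := L) (algebraMap k L).injective).nontrivial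
  let g : K ⊗[S] C →ₐ[K] K ⊗[k] L :=
    Algebra.TensorProduct.lift (Algebra.ofId K _)
      ((Algebra.TensorProduct.includeRight (R := k) (A := K) (B := L)).restrictScalars S |>.comp
        (IsScalarTower.toAlgHom S C L)) fun _ _ => Commute.all _ _
  haveI : Nontrivial (K ⊗[S] C) := g.toRingHom.domain_nontrivial
  obtain ⟨m, hm⟩ := Ideal.exists_maximal (K ⊗[S] C)
  letI := Ideal.Quotient.field m
  obtain ⟨σ₀, -⟩ := Groth.Agent.HenselLib.exists_point_of_isSepClosed (Ideal.Quotient.mkₐ K m)
  obtain ⟨τ, -, -⟩ := h.existsUnique_lift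
    ((σ₀.restrictScalars S).comp Algebra.TensorProduct.includeRight)
  exact ⟨τ⟩

end Groth.Agent.AzInvLib.Main
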