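import Groth.Agent.AzInvLib.Main
import Mathlib.LinearAlgebra.Dimension.StrongRankCondition
import Mathlib.RingTheory.MatrixAlgebra
import Mathlib.Logic.Equiv.Fin.Basic

/-!
# Matrices over algebras with involution, models, and base change of local isomorphisms
-/

namespace Groth.Agent.AzInvLib.Models

open TensorProduct AzInv Groth.Agent.HenselLib Groth.Agent.AzInvLib.Units Groth.Agent.AzInvLib.Std
  Groth.Agent.AzInvLib.Spread

universe u v w w'

variable {S : Type u} {R : Type v} [CommRing S] [CommRing R] [Algebra S R] {lam : R ≃ₐ[S] R}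
  {A : Type w} [Ring A] [Algebra S A] [Algebra R A] [IsScalarTower S R A]
  {A' : Type w'} [Ring A'] [Algebra S A'] [Algebra R A'] [IsScalarTower S R A']
  {C : Type u} [CommRing C] [Algebra S C] {ι ι' : Type} [Fintype ι] [DecidableEq ι] [Fintype ι']
  [DecidableEq ι']

theorem hasStd_reindex {t : LamInv R A lam} {W W' : Matrix ι ι ℤ} (σ : ι' ≃ ι)
    (h : HasStd C t W W') : HasStd C t (W.submatrix σ σ) (W'.submatrix σ σ) := by
  obtain ⟨e, he⟩ := h
  refine ⟨fun i j => e (σ i) (σ j), ⟨fun i j k l => ?_, ?_⟩, fun i j => ?_⟩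
  · rw [he.units.mul]; simp [σ.apply_eq_iff_eq]
  · rw [Equiv.sum_comp σ (fun i => e i i), he.units.sum]
  · rw [he.inv, ← Equiv.sum_comp σ]
    refine Finset.sum_congr rfl fun k _ => ?_
    rw [← Equiv.sum_comp σ]
    rfl

/-- The blocks of a Kronecker product with the identity. -/
def oneTensor (m : ℕ) (W : Matrix ι ι ℤ) : Matrix (Fin m × ι) (Fin m × ι) ℤ :=
  Matrix.of fun p q => if p.1 = q.1 then W p.2 q.2 else 0

theorem hasStd_matrix {t : LamInv R A lam} {W W' : Matrix ι ι ℤ} (m : ℕ) (h : HasStd C t W W') :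
    HasStd C (t.matrix (Fin m)) (oneTensor m W) (oneTensor m W') := by
  obtain ⟨e, he⟩ := h
  let L : Fin m → Fin m → C ⊗[S] A →ₗ[S] C ⊗[S] Matrix (Fin m) (Fin m) A := fun a b =>
    (Matrix.singleLinearMap S a b).lTensor C
  have hL : ∀ a b (c : C) (x : A), L a b (c ⊗ₜ[S] x) = c ⊗ₜ[S] Matrix.single a b x := fun _ _ _ _ => rfl
  have hmul : ∀ a b c d x y, L a b x * L c d y = if b = c then L a d (x * y) else 0 := by
    intro a b c d x y
    induction x using TensorProduct.induction_on with
    | zero => simp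
    | add x x' hx hx' => rw [map_add, add_mul, hx, hx', add_mul, map_add]; split_ifs <;> simp
    | tmul p x =>
      induction y using TensorProduct.induction_on with
      | zero => simp
      | add y y' hy hy' => rw [map_add, mul_add, hy, hy', mul_add, map_add]; split_ifs <;> simp
      | tmul q y =>
        rw [hL, hL, Algebra.TensorProduct.tmul_mul_tmul, Algebra.TensorProduct.tmul_mul_tmul, hL]
        split_ifs with hbc
        · subst hbc; simp
        · simp [Matrix.single_mul_single_of_ne, hbc]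
  have hbc : ∀ a b x, (t.matrix (Fin m)).bc S lam C (L a b x) = L b a (t.bc S lam C x) := by
    intro a b x
    induction x using TensorProduct.induction_on with
    | zero => simp
    | add x x' hx hx' => simp only [map_add, hx, hx']
    | tmul p x =>
      rw [hL, LamInv.bc_tmul, LamInv.bc_tmul, hL]
      congr 1
      ext i j
      simp only [LamInv.matrix_apply, Matrix.single, Matrix.of_apply]
      split_ifs <;> simp_all
  refine ⟨fun p q => L p.1 q.1 (e p.2 q.2), ⟨fun p q r s => ?_, ?_⟩, fun p q => ?_⟩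
  · obtain ⟨pa, pi⟩ := p
    obtain ⟨qa, qi⟩ := q
    obtain ⟨ra, ri⟩ := r
    obtain ⟨sa, si⟩ := s
    rw [hmul, he.units.mul]
    simp only [Prod.mk.injEq]
    split_ifs <;> simp_all
  · rw [Fintype.sum_prod_type]
    simp only [← map_sum, he.units.sum, Algebra.TensorProduct.one_def, hL]
    rw [← TensorProduct.tmul_sum]
    congr 1
    ext i j
    simp [Matrix.sum_apply, Matrix.single, Matrix.one_apply, Finset.sum_ite, Finset.filter_and,
      Finset.filter_eq']
    split_ifs <;> simp_all
  · rw [hbc, he.inv, map_sum, Fintype.sum_prod_type, Fintype.sum_eq_single q.1]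
    · refine Finset.sum_congr rfl fun k _ => ?_
      rw [map_sum, Fintype.sum_prod_type, Fintype.sum_eq_single p.1]
      · exact Finset.sum_congr rfl fun l _ => by
          simp only [oneTensor, Matrix.of_apply, if_true, map_zsmul]
      · intro d hd; simp [oneTensor, Ne.symm hd]
    · intro c hc; simp [oneTensor, hc]

theorem oneTensor_one (m : ℕ) : oneTensor m (1 : Matrix ι ι ℤ) = 1 := by
  ext ⟨a, i⟩ ⟨b, j⟩
  simp [oneTensor, Matrix.one_apply]
  split_ifs <;> simp_all

theorem oneTensor_stdJ (m n : ℕ) (hn : Even n) :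
    (oneTensor m (Herm.stdJ ℤ n)).submatrix finProdFinEquiv.symm finProdFinEquiv.symm =
      Herm.stdJ ℤ (m * n) := by
  ext x y
  obtain ⟨⟨a, i⟩, rfl⟩ := finProdFinEquiv.surjective x
  obtain ⟨⟨b, j⟩, rfl⟩ := finProdFinEquiv.surjective y
  rw [Matrix.submatrix_apply, Equiv.symm_apply_apply, Equiv.symm_apply_apply]
  simp only [oneTensor, Herm.stdJ, Matrix.of_apply, finProdFinEquiv_apply_val]
  obtain ⟨k, hk⟩ := hn
  have hi := i.isLt
  have hj := j.isLt
  have e1 : n * a.val = 2 * (k * a.val) := by rw [hk]; ring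
  have e2 : n * b.val = 2 * (k * b.val) := by rw [hk]; ring
  by_cases hab : a = b
  · subst hab
    rw [if_pos rfl]
    split_ifs <;> first | rfl | omega
  · rw [if_neg hab]
    have hne : a.val ≠ b.val := fun h => hab (Fin.ext h)
    have : a.val + 1 ≤ b.val ∨ b.val + 1 ≤ a.val := by omega
    rcases this with h | h
    · have h' : n * (a.val + 1) ≤ n * b.val := Nat.mul_le_mul_left n h
      rw [Nat.mul_add, mul_one] at h'
      split_ifs <;> first | rfl | omega
    · have h' : n * (b.val + 1) ≤ n * a.val := Nat.mul_le_mul_left n h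
      rw [Nat.mul_add, mul_one] at h'
      split_ifs <;> first | rfl | omega

theorem hasStd_matrix_one {n : ℕ} {t : LamInv R A lam} (m : ℕ)
    (h : HasStd C t (1 : Matrix (Fin n) (Fin n) ℤ) 1) :
    HasStd C (t.matrix (Fin m)) (1 : Matrix (Fin (m * n)) (Fin (m * n)) ℤ) 1 := by
  have := hasStd_reindex finProdFinEquiv.symm (hasStd_matrix m h)
  rwa [oneTensor_one, Matrix.submatrix_one_equiv] at this

theorem hasStd_matrix_stdJ {n : ℕ} {t : LamInv R A lam} (m : ℕ) (hn : Even n)
    (h : HasStd C t (Herm.stdJ ℤ n) (-Herm.stdJ ℤ n)) :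
    HasStd C (t.matrix (Fin m)) (Herm.stdJ ℤ (m * n)) (-Herm.stdJ ℤ (m * n)) := by
  have := hasStd_reindex finProdFinEquiv.symm (hasStd_matrix m h)
  have e : oneTensor m (-Herm.stdJ ℤ n) = -oneTensor m (Herm.stdJ ℤ n) := by
    ext p q; simp [oneTensor]; split_ifs <;> simp
  rw [e, Matrix.submatrix_neg] at this
  simp only [Pi.neg_apply] at this
  rwa [oneTensor_stdJ m n hn] at this

theorem hasStd_self (hlam : ∀ r, lam (lam r) = r) :
    HasStd C (LamInv.self lam hlam) (1 : Matrix (Fin 1) (Fin 1) ℤ) 1 := by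
  refine ⟨fun _ _ => 1, ⟨fun i j k l => ?_, by simp⟩, fun i j => ?_⟩
  · simp [Subsingleton.elim j k]
  · rw [bc_one, Subsingleton.elim i 0, Subsingleton.elim j 0]
    simp

omit [DecidableEq ι'] [Fintype ι'] in
/-- A model on the matrix algebra. -/
theorem hasStd_of_formula (t : LamInv R (Matrix ι ι R) lam) (W W' : Matrix ι ι ℤ)
    (h : ∀ i j, t.bc S lam C ((1 : C) ⊗ₜ[S] Matrix.single i j (1 : R)) =
      ∑ k, ∑ l, (W k j * W' i l) • ((1 : C) ⊗ₜ[S] Matrix.single k l (1 : R))) :
    HasStd C t W W' :=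
  ⟨fun i j => Algebra.TensorProduct.includeRight (R := S) (A := C) (Matrix.single i j (1 : R)),
    (isUnits_single (ι := ι) R).map _, h⟩

theorem isAzumayaDeg_self : IsAzumayaDeg R R 1 :=
  ⟨inferInstance, fun p => by
    haveI : Nontrivial R := p.nontrivial
    simp [Module.rankAtStalk_self]⟩

theorem isAzumayaDeg_matrix {n : ℕ} (m : ℕ) (hm : 0 < m) (hA : IsAzumayaDeg R A n) :
    IsAzumayaDeg R (Matrix (Fin m) (Fin m) A) (m * n) := by
  haveI := hA.1
  haveI : Nonempty (Fin m) := ⟨⟨0, hm⟩⟩
  haveI : IsAzumaya R (Matrix (Fin m) (Fin m) R) := IsAzumaya.matrix R (Fin m)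
  haveI := Groth.Agent.CSA.Azu.isAzumaya_tensor (R := R) A (Matrix (Fin m) (Fin m) R)
  refine ⟨IsAzumaya.of_AlgEquiv R _ _ (matrixEquivTensor (Fin m) R A).symm, fun p => ?_⟩
  haveI : Nontrivial R := p.nontrivial
  haveI : Module.Free R (Matrix (Fin m) (Fin m) R) := inferInstance
  rw [Module.rankAtStalk_eq_of_equiv (matrixEquivTensor (Fin m) R A).toLinearEquiv,
    Module.rankAtStalk_tensorProduct, Pi.mul_apply, hA.2, Module.rankAtStalk_eq_finrank_of_free]
  simp [Module.finrank_matrix]
  ring

theorem IsoAt.symm {t : LamInv R A lam} {t' : LamInv R A' lam} (h : IsoAt t t' C) : IsoAt t' t C := by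
  obtain ⟨f, h₁, h₂⟩ := h
  refine ⟨f.symm, fun r x => f.injective ?_, fun x => f.injective ?_⟩
  · rw [f.apply_symm_apply, h₁, f.apply_symm_apply]
  · rw [f.apply_symm_apply, h₂, f.apply_symm_apply]

theorem HasStd.transfer {t : LamInv R A lam} {t' : LamInv R A' lam} {W W' : Matrix ι ι ℤ}
    (h : IsoAt t t' C) (hs : HasStd C t W W') : HasStd C t' W W' := by
  obtain ⟨f, h₁, h₂⟩ := h
  obtain ⟨e, he⟩ := hs
  exact ⟨fun i j => f (e i j), he.units.map f, fun i j => by rw [← h₂, he.inv]; simp only [map_sum, map_zsmul]⟩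

theorem iso_jC {t : LamInv R A lam} {t' : LamInv R A' lam} (f : C ⊗[S] A ≃ₐ[C] C ⊗[S] A')
    (h₁ : ∀ (r : R) (x : C ⊗[S] A),
      f (((1 : C) ⊗ₜ[S] algebraMap R A r) * x) = ((1 : C) ⊗ₜ[S] algebraMap R A' r) * f x)
    (z : C ⊗[S] R) (x : C ⊗[S] A) : f (jC C A z * x) = jC C A' z * f x := by
  induction z using TensorProduct.induction_on with
  | zero => simp
  | add a b ha hb => simp only [map_add, add_mul, ha, hb]
  | tmul c r =>
    have e : ∀ b : A, c ⊗ₜ[S] b = c • ((1 : C) ⊗ₜ[S] b) := fun b => by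
      rw [TensorProduct.smul_tmul', smul_eq_mul, mul_one]
    have e' : ∀ b : A', c ⊗ₜ[S] b = c • ((1 : C) ⊗ₜ[S] b) := fun b => by
      rw [TensorProduct.smul_tmul', smul_eq_mul, mul_one]
    rw [jC_tmul, jC_tmul, e, e', smul_mul_assoc, smul_mul_assoc, map_smul, h₁]

theorem card_eq_of_isoAt [Nonempty ι] [Nonempty ι'] [Nontrivial (C ⊗[S] R)]
    {t : LamInv R A lam} {t' : LamInv R A' lam} (h : IsoAt t t' C)
    (hA : IsAzumayaDeg R A (Fintype.card ι)) (hA' : IsAzumayaDeg R A' (Fintype.card ι'))
    (hu : HasUnits S A ι C) (hu' : HasUnits S A' ι' C) : Fintype.card ι = Fintype.card ι' := by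
  obtain ⟨f, h₁, -⟩ := h
  obtain ⟨e, he⟩ := hu
  obtain ⟨e', he'⟩ := hu'
  obtain ⟨G, hG⟩ := exists_equiv (C := C) hA e he
  obtain ⟨G', hG'⟩ := exists_equiv (C := C) hA' e' he'
  have hsc : ∀ z, G (Matrix.scalar ι z) = jC C A z ∧ G' (Matrix.scalar ι' z) = jC C A' z := fun z => by
    constructor
    · rw [hG]
      simp [Matrix.scalar_apply, Matrix.diagonal, apply_ite, ite_mul, ← Finset.mul_sum, he.sum]
    · rw [hG']
      simp [Matrix.scalar_apply, Matrix.diagonal, apply_ite, ite_mul, ← Finset.mul_sum, he'.sum]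
  let L : Matrix ι ι (C ⊗[S] R) ≃ₗ[C ⊗[S] R] Matrix ι' ι' (C ⊗[S] R) :=
    { ((G.trans f).trans G'.symm).toRingEquiv.toAddEquiv with
      map_smul' := fun z X => by
        show G'.symm (f (G (z • X))) = z • G'.symm (f (G X))
        rw [Algebra.smul_def, Algebra.smul_def,
          show algebraMap _ (Matrix ι ι (C ⊗[S] R)) z = Matrix.scalar ι z from rfl,
          show algebraMap _ (Matrix ι' ι' (C ⊗[S] R)) z = Matrix.scalar ι' z from rfl,
          AlgEquiv.symm_apply_eq, map_mul G, (hsc z).1, iso_jC (t := t) (t' := t') f h₁, map_mul G',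
          (hsc z).2, AlgEquiv.apply_symm_apply] }
  have h := L.finrank_eq
  simp [Module.finrank_matrix] at h
  exact Nat.mul_self_inj.1 h

theorem IsoAt.map {t : LamInv R A lam} {t' : LamInv R A' lam} {D : Type u} [CommRing D] [Algebra S D]
    (φ : C →ₐ[S] D) (h : IsoAt t t' C) : IsoAt t t' D := by
  obtain ⟨f, h₁, h₂⟩ := h
  let g : A →ₐ[S] D ⊗[S] A' :=
    (Algebra.TensorProduct.map φ (AlgHom.id S A')).comp
      ((f.toAlgHom.restrictScalars S).comp Algebra.TensorProduct.includeRight)
  let g' : A' →ₐ[S] D ⊗[S] A :=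
    (Algebra.TensorProduct.map φ (AlgHom.id S A)).comp
      ((f.symm.toAlgHom.restrictScalars S).comp Algebra.TensorProduct.includeRight)
  let F : D ⊗[S] A →ₐ[D] D ⊗[S] A' :=
    Algebra.TensorProduct.lift (Algebra.ofId _ _) g fun d a => Algebra.commutes d (g a)
  let F' : D ⊗[S] A' →ₐ[D] D ⊗[S] A :=
    Algebra.TensorProduct.lift (Algebra.ofId _ _) g' fun d a => Algebra.commutes d (g' a)
  have hF : ∀ d a, F (d ⊗ₜ[S] a) = d • tmap φ (f ((1 : C) ⊗ₜ[S] a)) := fun d a => by
    rw [Algebra.smul_def, tmap_eq]; rfl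
  have hF' : ∀ d a, F' (d ⊗ₜ[S] a) = d • tmap φ (f.symm ((1 : C) ⊗ₜ[S] a)) := fun d a => by
    rw [Algebra.smul_def, tmap_eq]; rfl
  have hsmul : ∀ (c : C) (y : C ⊗[S] A'), tmap φ (c • y) = φ c • tmap φ y := by
    intro c y
    induction y using TensorProduct.induction_on with
    | zero => simp
    | add a b ha hb => simp only [smul_add, map_add, ha, hb]
    | tmul c' b => simp [TensorProduct.smul_tmul']
  have hsmul' : ∀ (c : C) (y : C ⊗[S] A), tmap φ (c • y) = φ c • tmap φ y := by
    intro c y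
    induction y using TensorProduct.induction_on with
    | zero => simp
    | add a b ha hb => simp only [smul_add, map_add, ha, hb]
    | tmul c' b => simp [TensorProduct.smul_tmul']
  have key : ∀ y, F (tmap φ y) = tmap φ (f y) := fun y => by
    induction y using TensorProduct.induction_on with
    | zero => simp
    | add a b ha hb => simp only [map_add, ha, hb]
    | tmul c a =>
      rw [tmap_tmul, hF, ← hsmul, ← map_smul, TensorProduct.smul_tmul', smul_eq_mul, mul_one]
  have key' : ∀ y, F' (tmap φ y) = tmap φ (f.symm y) := fun y => by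
    induction y using TensorProduct.induction_on with
    | zero => simp
    | add a b ha hb => simp only [map_add, ha, hb]
    | tmul c a =>
      rw [tmap_tmul, hF', ← hsmul', ← map_smul, TensorProduct.smul_tmul', smul_eq_mul, mul_one]
  have hFF' : ∀ y, F (F' y) = y := fun y => by
    induction y using TensorProduct.induction_on with
    | zero => simp
    | add a b ha hb => simp only [map_add, ha, hb]
    | tmul d a =>
      rw [hF', map_smul, key, f.apply_symm_apply, tmap_tmul, map_one, TensorProduct.smul_tmul',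
        smul_eq_mul, mul_one]
  have hF'F : ∀ y, F' (F y) = y := fun y => by
    induction y using TensorProduct.induction_on with
    | zero => simp
    | add a b ha hb => simp only [map_add, ha, hb]
    | tmul d a =>
      rw [hF, map_smul, key', f.symm_apply_apply, tmap_tmul, map_one, TensorProduct.smul_tmul',
        smul_eq_mul, mul_one]
  refine ⟨AlgEquiv.ofBijective F ⟨Function.LeftInverse.injective hF'F,
    Function.RightInverse.surjective hFF'⟩, fun r x => ?_, fun x => ?_⟩
  · show F (_ * x) = _ * F x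
    rw [map_mul]
    congr 1
    rw [hF, one_smul]
    have h := congrArg (tmap φ) (h₁ r 1)
    rw [mul_one, map_one, mul_one, tmap_tmul, map_one] at h
    exact h
  · show F (t.bc S lam D x) = t'.bc S lam D (F x)
    induction x using TensorProduct.induction_on with
    | zero => simp
    | add a b ha hb => simp only [map_add, ha, hb]
    | tmul d a =>
      rw [LamInv.bc_tmul, hF, hF, map_smul, ← tmap_bc, ← h₂, LamInv.bc_tmul]

/-- A local isomorphism for the étale topology gives one at every strictly henselian point. -/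
theorem isoAt_of_locIsoEt {t : LamInv R A lam} {t' : LamInv R A' lam} (h : LocIsoEt S lam t t')
    {K : Type u} [Field K] [Algebra S K] [IsSepClosed K] {H : Type u} [CommRing H] [Algebra S H]
    {ρ : H →ₐ[S] K} (hH : IsNbhdColim S K H ρ) : IsoAt t t' H := by
  obtain ⟨S', _, _, _, _, f, h₁, h₂⟩ := h
  obtain ⟨τ⟩ := Spread.exists_algHom_of_faithfullyFlat hH S'
  exact IsoAt.map τ ⟨f, h₁, h₂⟩

end Groth.Agent.AzInvLib.Models
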