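import Groth.Agent.AzInvLib.SymDim

/-!
# Orthogonality at ramified primes via dimensions of spaces of symmetric elements
-/

namespace Groth.Agent.AzInvLib.Orth

open TensorProduct AzInv Module Groth.Agent.HenselLib Groth.Agent.AzInvLib.Units Groth.Agent.AzInvLib.Std

attribute [local instance] Algebra.TensorProduct.rightAlgebra

universe u v w

variable {S : Type u} {R : Type v} [CommRing S] [CommRing R] [Algebra S R] {lam : R ≃ₐ[S] R}
  {A : Type w} [Ring A] [Algebra S A] [Algebra R A] [IsScalarTower S R A]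

/-- The matrix model of `id + involution`. -/
noncomputable def model (k : Type*) [Field k] {n : ℕ} (W W' : Matrix (Fin n) (Fin n) ℤ) :
    Matrix (Fin n) (Fin n) k →ₗ[k] Matrix (Fin n) (Fin n) k where
  toFun X := X + W.map (Int.cast : ℤ → k) * X.transpose * W'.map (Int.cast : ℤ → k)
  map_add' X Y := by
    rw [Matrix.transpose_add, mul_add, add_mul]
    abel
  map_smul' c X := by
    simp only [Matrix.transpose_smul, Matrix.mul_smul, Matrix.smul_mul, smul_add, RingHom.id_apply]

theorem model_one (k : Type*) [Field k] (n : ℕ) :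
    model k (1 : Matrix (Fin n) (Fin n) ℤ) 1 = SymDim.symm k n := by
  refine LinearMap.ext fun X => ?_
  show X + _ = X + X.transpose
  rw [Matrix.map_one _ Int.cast_zero Int.cast_one, one_mul, mul_one]

theorem transpose_stdJ (k : Type*) [CommRing k] (n : ℕ) :
    (Herm.stdJ k n).transpose = -Herm.stdJ k n := by
  ext i j
  simp only [Herm.stdJ, Matrix.transpose_apply, Matrix.of_apply, Matrix.neg_apply]
  split_ifs <;> first | omega | simp

theorem finrank_model_stdJ (k : Type*) [Field k] {n : ℕ} (he : Even n) :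
    finrank k (LinearMap.range (model k (Herm.stdJ ℤ n) (-Herm.stdJ ℤ n))) =
      finrank k (LinearMap.range (SymDim.alt k n)) := by
  obtain ⟨l, rfl⟩ := he
  rw [← two_mul]
  have hJ : Herm.stdJ k (2 * l) * -Herm.stdJ k (2 * l) = 1 := Herm.stdJ_sq (R := k) l
  let J := Herm.stdJ k (2 * l)
  have hJ' : -J * J = 1 := by rw [neg_mul, ← mul_neg]; exact hJ
  let Φ : Matrix (Fin (2 * l)) (Fin (2 * l)) k ≃ₗ[k] Matrix (Fin (2 * l)) (Fin (2 * l)) k :=
    { toFun := fun X => X * J
      invFun := fun X => X * -J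
      map_add' := fun _ _ => add_mul _ _ _
      map_smul' := fun _ _ => Matrix.smul_mul _ _ _
      left_inv := fun X => by show X * J * -J = X; rw [mul_assoc, hJ, mul_one]
      right_inv := fun X => by show X * -J * J = X; rw [mul_assoc, hJ', mul_one] }
  have key : Φ.toLinearMap.comp (model k (Herm.stdJ ℤ (2 * l)) (-Herm.stdJ ℤ (2 * l))) =
      (SymDim.alt k (2 * l)).comp Φ.toLinearMap := by
    refine LinearMap.ext fun X => ?_
    show (X + (Herm.stdJ ℤ (2 * l)).map (Int.cast : ℤ → k) * X.transpose *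
        (-Herm.stdJ ℤ (2 * l)).map (Int.cast : ℤ → k)) * J = X * J - (X * J).transpose
    rw [show (Herm.stdJ ℤ (2 * l)).map (Int.cast : ℤ → k) = J from Herm.stdJ_map (Int.castRingHom k) _,
      show (-Herm.stdJ ℤ (2 * l)).map (Int.cast : ℤ → k) = -J from by
        rw [Matrix.map_neg _ Int.cast_neg]; exact congrArg _ (Herm.stdJ_map (Int.castRingHom k) _),
      add_mul, mul_assoc (J * X.transpose), hJ', mul_one, Matrix.transpose_mul, transpose_stdJ,
      sub_eq_add_neg, neg_mul, neg_neg]
  have h2 := congrArg LinearMap.range key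
  rw [LinearMap.range_comp, LinearMap.range_comp, LinearEquiv.range, Submodule.map_top] at h2
  rw [← h2]
  exact (Φ.finrank_map_eq _).symm

variable {K : Type u} [Field K] [Algebra S K] [IsSepClosed K] {H : Type u} [CommRing H] [Algebra S H]
  {ρ : H →ₐ[S] K} (h : IsNbhdColim S K H ρ) (hlam : ∀ r, lam (lam r) = r)
  (hfix : RInv.IsFixedRing S R lam.toRingEquiv) (q : Ideal R) [q.IsPrime]
  (hq : ∀ r, lam r - r ∈ q) (hp : ∀ s : S, algebraMap S K s = 0 ↔ algebraMap S R s ∈ q)

include hq hp in
omit [IsSepClosed K] in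
theorem ramified : RamPoint.IsRamified lam K := fun r δ hδ => by
  rw [hp, hδ]
  exact q.mul_mem_left _ (by rw [← neg_sub]; exact neg_mem (hq r))

include h hlam hfix hq hp in
/-- Computation of the space of symmetric elements on matrix units. -/
theorem finrank_span (h2 : IsUnit (2 : R)) {n : ℕ} (hn : 0 < n) (hA : IsAzumayaDeg R A n)
    (t : LamInv R A lam) {W W' : Matrix (Fin n) (Fin n) ℤ} (hs : HasStd H t W W') :
    ∃ (Ω : Type (max u v)) (_ : Field Ω), (2 : Ω) ≠ 0 ∧
      finrank q.ResidueField (Submodule.span q.ResidueField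
        (Set.range fun a : {a : A // t a = a} => (1 : q.ResidueField) ⊗ₜ[R] (a : A))) =
        finrank Ω (LinearMap.range (model Ω W W')) := by
  obtain ⟨_, -, htriv⟩ := RamPoint.exists_local hlam hfix h (ramified q hq hp)
  haveI := h.henselian
  let Ω := IsLocalRing.ResidueField (H ⊗[S] R)
  have hθ : ∀ r : R, algebraMap R Ω r = IsLocalRing.residue _ ((1 : H) ⊗ₜ[S] r) := fun _ => rfl
  have hkΩ : ∀ r : R, algebraMap R Ω (lam r) = algebraMap R Ω r := fun r => by
    rw [hθ, hθ]
    exact Ideal.Quotient.eq.2 (htriv ((1 : H) ⊗ₜ[S] r))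
  have hkκ : ∀ r : R, algebraMap R q.ResidueField (lam r) = algebraMap R q.ResidueField r := fun r => by
    rw [← sub_eq_zero, ← map_sub, Ideal.algebraMap_residueField_eq_zero]
    exact hq r
  have hker : ∀ x : R, x ∈ q ↔ algebraMap R Ω x = 0 := by
    intro x
    obtain ⟨N, hN⟩ := (hfix.2 (x * lam x)).1
      (show lam (x * lam x) = _ by rw [map_mul, hlam, mul_comm])
    have h₁ : x ∈ q ↔ algebraMap S K N = 0 := by
      rw [hp, hN]
      refine ⟨fun hx => q.mul_mem_right _ hx, fun hx => ?_⟩
      rcases (Ideal.IsPrime.mem_or_mem inferInstance hx) with hx | hx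
      · exact hx
      · simpa using sub_mem hx (hq x)
    have h₂ : algebraMap R Ω (algebraMap S R N) = 0 ↔ algebraMap S K N = 0 := by
      rw [hθ, IsLocalRing.residue_eq_zero_iff, ← ρ.commutes, ← h.mem_maximal_iff,
        show (1 : H) ⊗ₜ[S] algebraMap S R N = algebraMap S H N ⊗ₜ[S] (1 : R) by
          rw [Algebra.algebraMap_eq_smul_one, ← TensorProduct.smul_tmul,
            ← Algebra.algebraMap_eq_smul_one],
        IsLocalRing.mem_maximalIdeal, IsLocalRing.mem_maximalIdeal, mem_nonunits_iff,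
        mem_nonunits_iff, not_iff_not]
      refine ⟨fun hu => ?_, fun hu => hu.map (Algebra.TensorProduct.includeLeftRingHom (R := S) (B := R))⟩
      obtain ⟨z, hz⟩ := hu.exists_right_inv
      have hc : lamC H lam (algebraMap S H N ⊗ₜ[S] (1 : R)) = algebraMap S H N ⊗ₜ[S] (1 : R) := by
        rw [lamC_tmul, map_one]
      have hz' : lamC H lam z = z := by
        calc lamC H lam z = lamC H lam z * (algebraMap S H N ⊗ₜ[S] (1 : R) * z) := by rw [hz, mul_one]
          _ = lamC H lam (algebraMap S H N ⊗ₜ[S] (1 : R) * z) * z := by rw [map_mul, hc]; ring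
          _ = z := by rw [hz, map_one, one_mul]
      obtain ⟨d, rfl⟩ := RamPoint.exists_of_fixed hfix h z hz'
      refine IsUnit.of_mul_eq_one d (sub_eq_zero.1 (RamPoint.includeLeft_injective hfix h ?_))
      rw [TensorProduct.sub_tmul, sub_eq_zero, ← Algebra.TensorProduct.one_def, ← hz,
        Algebra.TensorProduct.tmul_mul_tmul, one_mul]
    rw [h₁, ← h₂, hN, map_mul, hkΩ, mul_self_eq_zero]
  letI : Algebra q.ResidueField Ω := (Ideal.ResidueField.lift q (algebraMap R Ω)
    (fun x hx => (hker x).1 hx)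
    (fun x hx => isUnit_iff_ne_zero.2 fun h0 => hx ((hker x).2 h0))).toAlgebra
  haveI : IsScalarTower R q.ResidueField Ω :=
    IsScalarTower.of_algebraMap_eq fun r => by simp [RingHom.algebraMap_toAlgebra]
  have h2κ : (2 : q.ResidueField) ≠ 0 := by
    rw [← map_ofNat (algebraMap R q.ResidueField) 2]; exact (h2.map _).ne_zero
  refine ⟨Ω, inferInstance, by rw [← map_ofNat (algebraMap R Ω) 2]; exact (h2.map _).ne_zero, ?_⟩
  rw [SymDim.span_sym_eq q.ResidueField t hkκ h2κ h2, ← SymDim.finrank_range_baseChange (L := Ω)]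
  -- to the residue field of `H ⊗ R`
  let E := TensorProduct.AlgebraTensorModule.cancelBaseChange R q.ResidueField Ω Ω A
  let fΩ : Ω ⊗[R] A →ₗ[Ω] Ω ⊗[R] A := LinearMap.id + SymDim.tau Ω t hkΩ
  have hE : E.toLinearMap.comp ((LinearMap.id + SymDim.tau q.ResidueField t hkκ :
      q.ResidueField ⊗[R] A →ₗ[q.ResidueField] q.ResidueField ⊗[R] A).baseChange Ω) =
      fΩ.comp E.toLinearMap := by
    refine LinearMap.ext fun z => ?_
    induction z using TensorProduct.induction_on with
    | zero => simp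
    | add a b ha hb => rw [map_add, map_add, ha, hb]
    | tmul ω z =>
      induction z using TensorProduct.induction_on with
      | zero => simp
      | add a b ha hb => rw [TensorProduct.tmul_add, map_add, map_add, ha, hb]
      | tmul c a =>
        simp [fΩ, E]
  have hr := congrArg LinearMap.range hE
  rw [LinearMap.range_comp, LinearMap.range_comp, LinearEquiv.range, Submodule.map_top] at hr
  rw [← E.finrank_map_eq, hr]
  -- matrix units over the residue field
  obtain ⟨κ', hκ, -⟩ := exists_kappa (S := S) (R := R) H A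
  let res : H ⊗[S] R →ₐ[R] Ω := IsScalarTower.toAlgHom R (H ⊗[S] R) Ω
  let Φ : (H ⊗[S] R) ⊗[R] A →ₐ[R] Ω ⊗[R] A := Algebra.TensorProduct.map res (AlgHom.id R A)
  let π : H ⊗[S] A →+* Ω ⊗[R] A := Φ.toRingHom.comp κ'.symm.toRingHom
  have hπ : ∀ y, π (t.bc S lam H y) = SymDim.tau Ω t hkΩ (π y) := by
    intro y
    obtain ⟨w, rfl⟩ := κ'.surjective y
    induction w using TensorProduct.induction_on with
    | zero => simp
    | add a b ha hb => simp only [map_add, ha, hb]
    | tmul z a =>
      have e : t.bc S lam H (κ' (z ⊗ₜ[R] a)) = κ' (lamC H lam z ⊗ₜ[R] t a) := by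
        rw [hκ, hκ, bc_mul, bc_jC, LamInv.bc_tmul, jC_comm]
      show Φ (κ'.symm (t.bc S lam H (κ' (z ⊗ₜ[R] a)))) = SymDim.tau Ω t hkΩ (Φ (κ'.symm (κ' (z ⊗ₜ[R] a))))
      rw [e, RingEquiv.symm_apply_apply, RingEquiv.symm_apply_apply]
      show res (lamC H lam z) ⊗ₜ[R] t a = res z ⊗ₜ[R] t a
      exact congrArg (fun ω => ω ⊗ₜ[R] t a) (Ideal.Quotient.eq.2 (htriv z))
  obtain ⟨e, he⟩ := hs
  haveI : Nonempty (Fin n) := ⟨⟨0, hn⟩⟩
  haveI := hA.1
  haveI := Groth.Agent.CSA.Azu.isAzumaya_baseChange (R := R) Ω A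
  have hb := bijective_hom (Z := Ω) (fun P => by
    rw [Module.rankAtStalk_baseChange, hA.2, Fintype.card_fin]) _ (he.units.map π)
  let G := LinearEquiv.ofBijective (hom (Z := Ω) _ (he.units.map π)).toLinearMap hb
  have hG : G.toLinearMap.comp (model Ω W W') = fΩ.comp G.toLinearMap := by
    refine LinearMap.ext fun X => ?_
    show hom (Z := Ω) _ (he.units.map π) (X + W.map (Int.cast : ℤ → Ω) * X.transpose *
        W'.map (Int.cast : ℤ → Ω)) = hom (Z := Ω) _ (he.units.map π) X +
      SymDim.tau Ω t hkΩ (hom (Z := Ω) _ (he.units.map π) X)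
    rw [map_add]
    congr 1
    have e1 : ∀ i j, SymDim.tau Ω t hkΩ (X i j • π (e i j)) =
        ∑ k, ∑ l, (((W k j : ℤ) : Ω) * X i j * ((W' i l : ℤ) : Ω)) • π (e k l) := fun i j => by
      rw [map_smul, ← hπ, he.inv, map_sum, Finset.smul_sum]
      refine Finset.sum_congr rfl fun k _ => ?_
      rw [map_sum, Finset.smul_sum]
      refine Finset.sum_congr rfl fun l _ => ?_
      rw [map_zsmul, ← Int.cast_smul_eq_zsmul Ω, smul_smul, Int.cast_mul]
      congr 1
      ring
    have e2 : ∀ k l, (W.map (Int.cast : ℤ → Ω) * X.transpose * W'.map (Int.cast : ℤ → Ω)) k l =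
        ∑ i, ∑ j, ((W k j : ℤ) : Ω) * X i j * ((W' i l : ℤ) : Ω) := fun k l => by
      simp only [Matrix.mul_apply, Matrix.map_apply, Matrix.transpose_apply]
      exact Finset.sum_congr rfl fun x _ => Finset.sum_mul _ _ _
    simp only [hom_apply, map_sum, e1, e2, Finset.sum_smul]
    rw [Finset.sum_comm_cycle]
    refine Finset.sum_congr rfl fun k _ => ?_
    rw [Finset.sum_comm_cycle]
  have hr' := congrArg LinearMap.range hG
  rw [LinearMap.range_comp, LinearMap.range_comp, LinearEquiv.range, Submodule.map_top] at hr'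
  rw [← hr', G.finrank_map_eq]

include h hlam hfix hq hp in
/-- The dimension criterion for orthogonality. -/
theorem orth_iff (h2 : IsUnit (2 : S)) {n : ℕ} (hn : 0 < n) (hA : IsAzumayaDeg R A n)
    (t : LamInv R A lam) :
    finrank q.ResidueField (Submodule.span q.ResidueField
        (Set.range fun a : {a : A // t a = a} => (1 : q.ResidueField) ⊗ₜ[R] (a : A))) =
        Nat.choose (n + 1) 2 ↔ HasStd H t (1 : Matrix (Fin n) (Fin n) ℤ) 1 := by
  have h2R : IsUnit (2 : R) := by rw [← map_ofNat (algebraMap S R) 2]; exact h2.map _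
  have h1 : HasStd H t (1 : Matrix (Fin n) (Fin n) ℤ) 1 → finrank q.ResidueField
      (Submodule.span q.ResidueField
        (Set.range fun a : {a : A // t a = a} => (1 : q.ResidueField) ⊗ₜ[R] (a : A))) =
        Nat.choose (n + 1) 2 := fun hs => by
    obtain ⟨Ω, _, h2Ω, e⟩ := finrank_span h hlam hfix q hq hp h2R hn hA t hs
    rw [e, model_one, SymDim.finrank_symm h2Ω]
  refine ⟨fun hf => ?_, h1⟩
  rcases Main.hasStd h hlam hfix (Types.exists_sq_of_two h h2) hn hA t
    (Or.inl (Types.isUnit_two h2)) with hs | ⟨he, -, -, hs⟩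
  · exact hs
  · obtain ⟨Ω, _, h2Ω, e⟩ := finrank_span h hlam hfix q hq hp h2R hn hA t hs
    rw [e, finrank_model_stdJ Ω he] at hf
    exact absurd hf (SymDim.finrank_alt h2Ω n hn)

end Groth.Agent.AzInvLib.Orth
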