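import Groth.Agent.HenselLib.HenselizationProps
import Mathlib.FieldTheory.IsSepClosed
import Mathlib.FieldTheory.Minpoly.IsIntegrallyClosed
import Mathlib.RingTheory.Polynomial.ScaleRoots
import Mathlib.RingTheory.LocalRing.ResidueField.Ideal

/-!
# Strictly henselian points of a ring
-/

namespace Groth.Agent.AzInvLib.Point

open Polynomial Groth.Agent.HenselLib

universe u

variable (S : Type u) [CommRing S] (p : Ideal S) [p.IsPrime]

/-- Elements of the residue field are fractions. -/
theorem exists_frac (a : p.ResidueField) : ∃ r s : S, algebraMap S p.ResidueField s ≠ 0 ∧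
    algebraMap S p.ResidueField s * a = algebraMap S p.ResidueField r := by
  obtain ⟨x, rfl⟩ := IsLocalRing.residue_surjective a
  obtain ⟨⟨r, s⟩, hrs⟩ := IsLocalization.surj p.primeCompl x
  refine ⟨r, s, fun h0 => s.2 (Ideal.algebraMap_residueField_eq_zero.mp h0), ?_⟩
  rw [IsScalarTower.algebraMap_apply S (Localization.AtPrime p) p.ResidueField,
    IsScalarTower.algebraMap_apply S (Localization.AtPrime p) p.ResidueField,
    IsLocalRing.ResidueField.algebraMap_eq, ← map_mul, mul_comm, hrs]

/-- A common denominator. -/
theorem exists_common_denom (s : Finset p.ResidueField) : ∃ c : S,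
    algebraMap S p.ResidueField c ≠ 0 ∧
      ∀ a ∈ s, algebraMap S p.ResidueField c * a ∈ (algebraMap S p.ResidueField).range := by
  classical
  induction s using Finset.induction_on with
  | empty => exact ⟨1, by simp, by simp⟩
  | @insert a t _ ih =>
    obtain ⟨c, hc, ht⟩ := ih
    obtain ⟨r, d, hd, hr⟩ := exists_frac S p a
    refine ⟨c * d, by rw [map_mul]; exact mul_ne_zero hc hd, fun b hb => ?_⟩
    rcases Finset.mem_insert.1 hb with rfl | hb
    · exact ⟨c * r, by rw [map_mul, map_mul, mul_assoc, hr]⟩
    · obtain ⟨x, hx⟩ := ht b hb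
      exact ⟨d * x, by rw [map_mul, map_mul, hx]; ring⟩

theorem generated : GeneratedBySimpleRoots S (SeparableClosure p.ResidueField) := by
  intro a
  classical
  let k := p.ResidueField
  have hint : IsIntegral k a := Algebra.IsSeparable.isIntegral k a
  obtain ⟨c, hc, hcoef⟩ := exists_common_denom S p
    ((Finset.range (minpoly k a).natDegree).image fun i => (minpoly k a).coeff i)
  let q := minpoly k (algebraMap S k c • a)
  have hq : q = (minpoly k a).scaleRoots (algebraMap S k c) :=
    IsIntegrallyClosed.minpoly_smul hc hint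
  have hmon : q.Monic := minpoly.monic (hint.smul _)
  have hlift : q ∈ lifts (algebraMap S k) := by
    rw [lifts_iff_coeff_lifts]
    intro i
    rw [hq, coeff_scaleRoots]
    rcases lt_trichotomy i (minpoly k a).natDegree with hi | rfl | hi
    · obtain ⟨x, hx⟩ := hcoef _ (Finset.mem_image_of_mem _ (Finset.mem_range.2 hi))
      refine ⟨x * c ^ ((minpoly k a).natDegree - i - 1), ?_⟩
      rw [map_mul, map_pow, hx, mul_comm (algebraMap S k c) ((minpoly k a).coeff i), mul_assoc,
        ← pow_succ', show (minpoly k a).natDegree - i - 1 + 1 = (minpoly k a).natDegree - i by omega]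
    · exact ⟨1, by rw [map_one, coeff_natDegree, (minpoly.monic hint).leadingCoeff]; simp⟩
    · exact ⟨0, by rw [map_zero, coeff_eq_zero_of_natDegree_lt hi, zero_mul]⟩
  obtain ⟨F, hF, -, hFm⟩ := lifts_and_natDegree_eq_and_monic hlift hmon
  have hsmul : algebraMap S (SeparableClosure k) c * a = algebraMap S k c • a := by
    rw [Algebra.smul_def, ← IsScalarTower.algebraMap_apply]
  refine ⟨c, F, ?_, hFm, ?_, ?_⟩
  · rw [IsScalarTower.algebraMap_apply S k (SeparableClosure k)]
    exact fun h => hc ((map_eq_zero _).1 h)
  · rw [← aeval_map_algebraMap k, hF, hsmul]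
    exact minpoly.aeval _ _
  · rw [← aeval_map_algebraMap k, ← derivative_map, hF, hsmul]
    exact (Algebra.IsSeparable.isSeparable k _).aeval_derivative_ne_zero (minpoly.aeval _ _)

/-- A strictly henselian local algebra over a prime. -/
theorem exists_point : ∃ (K : Type u) (_ : Field K) (_ : Algebra S K) (H : Type u) (_ : CommRing H)
    (_ : Algebra S H) (ρ : H →ₐ[S] K),
    IsSepClosed K ∧ RingHom.ker (algebraMap S K) = p ∧ IsNbhdColim S K H ρ := by
  obtain ⟨H, _, _, ρ, h⟩ := exists_isNbhdColim S (SeparableClosure p.ResidueField) (generated S p)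
  refine ⟨SeparableClosure p.ResidueField, inferInstance, inferInstance, H, inferInstance,
    inferInstance, ρ, inferInstance, ?_, h⟩
  rw [IsScalarTower.algebraMap_eq S p.ResidueField (SeparableClosure p.ResidueField),
    RingHom.ker_comp_of_injective _ (algebraMap p.ResidueField _).injective]
  ext x
  exact Ideal.algebraMap_residueField_eq_zero

end Groth.Agent.AzInvLib.Point
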