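import Groth.Agent.AzInvLib.Point
import Groth.Agent.HenselLib.Strict
import Mathlib.RingTheory.Etale.Pi
import Mathlib.RingTheory.Spectrum.Prime.Chevalley
import Mathlib.RingTheory.Flat.FaithfullyFlat.Algebra
import Mathlib.RingTheory.TensorProduct.Pi
import Mathlib.LinearAlgebra.DirectSum.Finsupp
import Mathlib.LinearAlgebra.TensorProduct.Finiteness
import Mathlib.LinearAlgebra.TensorProduct.RightExactness

/-!
# Spreading out finite systems of equations from strictly henselian points
-/

namespace Groth.Agent.AzInvLib.Spread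

open TensorProduct Groth.Agent.HenselLib

universe u w

variable {S : Type u} [CommRing S] {M : Type w} [AddCommGroup M] [Module S M]

/-- Base change of elements of `C ⊗ M`. -/
noncomputable def tmap {C D : Type u} [CommRing C] [Algebra S C] [CommRing D] [Algebra S D]
    (φ : C →ₐ[S] D) : C ⊗[S] M →ₗ[S] D ⊗[S] M :=
  φ.toLinearMap.rTensor M

@[simp] theorem tmap_tmul {C D : Type u} [CommRing C] [Algebra S C] [CommRing D] [Algebra S D]
    (φ : C →ₐ[S] D) (c : C) (m : M) : tmap φ (c ⊗ₜ m) = φ c ⊗ₜ m := rfl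

theorem tmap_comp {C D E : Type u} [CommRing C] [Algebra S C] [CommRing D] [Algebra S D]
    [CommRing E] [Algebra S E] (ψ : D →ₐ[S] E) (φ : C →ₐ[S] D) (x : C ⊗[S] M) :
    tmap (ψ.comp φ) x = tmap ψ (tmap φ x) := by
  induction x using TensorProduct.induction_on with
  | zero => simp
  | tmul c m => simp
  | add a b ha hb => simp [map_add, ha, hb]

theorem rl_comm {B B' N N' : Type*} [AddCommMonoid B] [Module S B] [AddCommMonoid B'] [Module S B']
    [AddCommMonoid N] [Module S N] [AddCommMonoid N'] [Module S N'] (g : B →ₗ[S] B') (f : N →ₗ[S] N')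
    (v : B ⊗[S] N) : f.lTensor B' (g.rTensor N v) = g.rTensor N' (f.lTensor B v) := by
  rw [← LinearMap.comp_apply, LinearMap.lTensor_comp_rTensor, ← LinearMap.rTensor_comp_lTensor,
    LinearMap.comp_apply]

section Point

variable {K : Type u} [Field K] [Algebra S K] {H : Type u} [CommRing H] [Algebra S H]
  {ρ : H →ₐ[S] K} (h : IsNbhdColim S K H ρ)
include h

theorem exists_kill_finset (C : Type u) [CommRing C] [Algebra S C] [Algebra.Etale S C]
    (τ : C →ₐ[S] H) (s : Finset C) (hs : ∀ c ∈ s, τ c = 0) :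
    ∃ (D : Type u) (_ : CommRing D) (_ : Algebra S D) (_ : Algebra.Etale S D) (φ : C →ₐ[S] D)
      (τ' : D →ₐ[S] H), τ'.comp φ = τ ∧ ∀ c ∈ s, φ c = 0 := by
  classical
  induction s using Finset.induction_on with
  | empty => exact ⟨C, _, _, inferInstance, AlgHom.id S C, τ, AlgHom.comp_id _, by simp⟩
  | @insert a t _ ih =>
    obtain ⟨D, _, _, _, φ, τ', hτ', ht⟩ := ih fun c hc => hs c (Finset.mem_insert_of_mem hc)
    obtain ⟨E, _, _, _, ψ, τ'', hτ'', hψ⟩ := h.exists_kill D τ' (φ a) (by
      rw [← AlgHom.comp_apply, hτ']; exact hs a (Finset.mem_insert_self _ _))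
    refine ⟨E, _, _, inferInstance, ψ.comp φ, τ'', by rw [← AlgHom.comp_assoc, hτ'', hτ'],
      fun c hc => ?_⟩
    rcases Finset.mem_insert.1 hc with rfl | hc
    · exact hψ
    · rw [AlgHom.comp_apply, ht c hc, map_zero]

/-- An element of `H ⊗ M` comes from an étale algebra with a point. -/
theorem exists_rep_tmul {N : Type*} [AddCommMonoid N] [Module S N] (x : H ⊗[S] N) :
    ∃ (C : Type u) (_ : CommRing C) (_ : Algebra S C) (_ : Algebra.Etale S C) (τ : C →ₐ[S] H)
      (y : C ⊗[S] N), τ.toLinearMap.rTensor N y = x := by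
  classical
  obtain ⟨T, rfl⟩ := TensorProduct.exists_finset x
  obtain ⟨C, _, _, _, τ, hτ⟩ := h.common_rep (T.image Prod.fst)
  choose c hc using fun i : T => hτ _ (Finset.mem_image_of_mem Prod.fst i.2)
  refine ⟨C, _, _, inferInstance, τ, ∑ i : T, c i ⊗ₜ i.1.2, ?_⟩
  rw [map_sum, ← Finset.sum_coe_sort T]
  exact Finset.sum_congr rfl fun i _ => by
    rw [LinearMap.rTensor_tmul]; exact congrArg (· ⊗ₜ[S] i.1.2) (hc i)

/-- A finite family of elements of `H ⊗ M` comes from an étale algebra with a point. -/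
theorem exists_rep_family {ι : Type*} [Finite ι] (x : ι → H ⊗[S] M) :
    ∃ (C : Type u) (_ : CommRing C) (_ : Algebra S C) (_ : Algebra.Etale S C) (τ : C →ₐ[S] H)
      (y : ι → C ⊗[S] M), ∀ i, tmap τ (y i) = x i := by
  classical
  cases nonempty_fintype ι
  choose T hT using fun i => TensorProduct.exists_finset (x i)
  obtain ⟨C, _, _, _, τ, hτ⟩ := h.common_rep (Finset.univ.biUnion fun i => (T i).image Prod.fst)
  choose c hc using fun i : Σ i, ↥(T i) => hτ _ (Finset.mem_biUnion.2
    ⟨i.1, Finset.mem_univ _, Finset.mem_image_of_mem Prod.fst i.2.2⟩)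
  refine ⟨C, _, _, inferInstance, τ, fun i => ∑ j : T i, c ⟨i, j⟩ ⊗ₜ j.1.2, fun i => ?_⟩
  rw [map_sum, hT i, ← Finset.sum_coe_sort (T i)]
  exact Finset.sum_congr rfl fun j _ => by
    rw [tmap_tmul]; exact congrArg (· ⊗ₜ[S] j.1.2) (hc ⟨i, j⟩)

/-- An element killed in `H ⊗ M` is killed at a finite stage. -/
theorem exists_kill_tmul (C : Type u) [CommRing C] [Algebra S C] [Algebra.Etale S C]
    (τ : C →ₐ[S] H) (x : C ⊗[S] M) (hx : tmap τ x = 0) :
    ∃ (D : Type u) (_ : CommRing D) (_ : Algebra S D) (_ : Algebra.Etale S D) (φ : C →ₐ[S] D)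
      (τ' : D →ₐ[S] H), τ'.comp φ = τ ∧ tmap φ x = 0 := by
  classical
  let π : (M →₀ S) →ₗ[S] M := Finsupp.linearCombination S id
  have hπ : Function.Surjective π := fun m => ⟨Finsupp.single m 1, by simp [π]⟩
  let ι₀ : LinearMap.ker π →ₗ[S] (M →₀ S) := (LinearMap.ker π).subtype
  obtain ⟨y, hy⟩ := LinearMap.lTensor_surjective C hπ x
  have hyx : π.lTensor H (τ.toLinearMap.rTensor _ y) = 0 := by
    rw [rl_comm, hy]
    exact hx
  have hex : Function.Exact ι₀ π := LinearMap.exact_subtype_ker_map π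
  obtain ⟨z, hz⟩ := (lTensor_exact (M := LinearMap.ker π) (N := M →₀ S) (f := ι₀) (g := π) H hex hπ _).1 hyx
  obtain ⟨D, _, _, _, τD, w, rfl⟩ := exists_rep_tmul h z
  haveI : Algebra.Etale S (C ⊗[S] D) := Algebra.Etale.comp S C (C ⊗[S] D)
  let iC : C →ₐ[S] C ⊗[S] D := Algebra.TensorProduct.includeLeft
  let iD : D →ₐ[S] C ⊗[S] D := Algebra.TensorProduct.includeRight
  let τE : C ⊗[S] D →ₐ[S] H := Algebra.TensorProduct.productMap τ τD
  have hiC : τE.comp iC = τ := Algebra.TensorProduct.productMap_left _ _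
  have hiD : τE.comp iD = τD := Algebra.TensorProduct.productMap_right _ _
  let d : (C ⊗[S] D) ⊗[S] (M →₀ S) :=
    iC.toLinearMap.rTensor _ y - ι₀.lTensor _ (iD.toLinearMap.rTensor _ w)
  let cf := fun (B : Type u) [CommRing B] [Algebra S B] =>
    TensorProduct.finsuppScalarRight S S B M
  have hd : τE.toLinearMap.rTensor _ d = 0 := by
    rw [map_sub, sub_eq_zero, ← LinearMap.comp_apply, ← LinearMap.rTensor_comp,
      ← AlgHom.comp_toLinearMap, hiC]
    conv_rhs => rw [← rl_comm τE.toLinearMap ι₀]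
    rw [← LinearMap.comp_apply (LinearMap.rTensor _ τE.toLinearMap), ← LinearMap.rTensor_comp,
      ← AlgHom.comp_toLinearMap, hiD]
    exact hz.symm
  have hnat : ∀ {B B' : Type u} [CommRing B] [Algebra S B] [CommRing B'] [Algebra S B']
      (g : B →ₐ[S] B') (v : B ⊗[S] (M →₀ S)) (m : M),
      cf B' (g.toLinearMap.rTensor _ v) m = g (cf B v m) := by
    intro B B' _ _ _ _ g v m
    induction v using TensorProduct.induction_on with
    | zero => simp
    | tmul b f => simp [cf]
    | add a b ha hb => simp [map_add, ha, hb]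
  obtain ⟨E, _, _, _, φ, τ', hτ', hφ⟩ := exists_kill_finset h (C ⊗[S] D) τE
    ((cf (C ⊗[S] D) d).support.image (cf (C ⊗[S] D) d)) (by
      intro c hc
      obtain ⟨m, -, rfl⟩ := Finset.mem_image.1 hc
      rw [← hnat, hd, map_zero, Finsupp.zero_apply])
  have hφd : φ.toLinearMap.rTensor _ d = 0 := by
    refine (cf E).injective (Finsupp.ext fun m => ?_)
    rw [hnat, map_zero, Finsupp.zero_apply]
    by_cases hm : cf (C ⊗[S] D) d m = 0
    · rw [hm, map_zero]
    · exact hφ _ (Finset.mem_image_of_mem _ (Finsupp.mem_support_iff.2 hm))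
  refine ⟨E, _, _, inferInstance, φ.comp iC, τ', by rw [← AlgHom.comp_assoc, hτ', hiC], ?_⟩
  have h1 := congrArg (π.lTensor E) hφd
  have h0 : π.lTensor (C ⊗[S] D) (ι₀.lTensor _ (iD.toLinearMap.rTensor _ w)) = 0 := by
    rw [← LinearMap.comp_apply, ← LinearMap.lTensor_comp, show π.comp ι₀ = 0 from
      LinearMap.comp_ker_subtype _, LinearMap.lTensor_zero, LinearMap.zero_apply]
  rw [rl_comm, map_zero] at h1
  rw [map_sub, h0, sub_zero, rl_comm, hy] at h1
  rw [tmap_comp]
  exact h1

/-- A finite family killed in `H ⊗ M` is killed at a finite stage. -/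
theorem exists_kill_family {ι : Type*} [Finite ι] (C : Type u) [CommRing C] [Algebra S C]
    [Algebra.Etale S C] (τ : C →ₐ[S] H) (x : ι → C ⊗[S] M) (hx : ∀ i, tmap τ (x i) = 0) :
    ∃ (D : Type u) (_ : CommRing D) (_ : Algebra S D) (_ : Algebra.Etale S D) (φ : C →ₐ[S] D)
      (τ' : D →ₐ[S] H), τ'.comp φ = τ ∧ ∀ i, tmap φ (x i) = 0 := by
  classical
  cases nonempty_fintype ι
  suffices ∀ s : Finset ι, ∃ (D : Type u) (_ : CommRing D) (_ : Algebra S D) (_ : Algebra.Etale S D)
      (φ : C →ₐ[S] D) (τ' : D →ₐ[S] H), τ'.comp φ = τ ∧ ∀ i ∈ s, tmap φ (x i) = 0 by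
    obtain ⟨D, _, _, _, φ, τ', h1, h2⟩ := this Finset.univ
    exact ⟨D, _, _, inferInstance, φ, τ', h1, fun i => h2 i (Finset.mem_univ i)⟩
  intro s
  induction s using Finset.induction_on with
  | empty => exact ⟨C, _, _, inferInstance, AlgHom.id S C, τ, AlgHom.comp_id _, by simp⟩
  | @insert a t _ ih =>
    obtain ⟨D, _, _, _, φ, τ', hτ', ht⟩ := ih
    obtain ⟨E, _, _, _, ψ, τ'', hτ'', hψ⟩ := exists_kill_tmul h D τ' (tmap φ (x a)) (by
      rw [← tmap_comp, hτ']; exact hx a)
    refine ⟨E, _, _, inferInstance, ψ.comp φ, τ'', by rw [← AlgHom.comp_assoc, hτ'', hτ'],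
      fun c hc => ?_⟩
    rw [tmap_comp]
    rcases Finset.mem_insert.1 hc with rfl | hc
    · exact hψ
    · rw [ht c hc, map_zero]

/-- An étale faithfully flat algebra has a point at a separably closed field. -/
theorem exists_algHom_of_faithfullyFlat [IsSepClosed K] (C : Type u) [CommRing C] [Algebra S C]
    [Algebra.Etale S C] [Module.FaithfullyFlat S C] : Nonempty (C →ₐ[S] H) := by
  haveI : Nontrivial (K ⊗[S] C) := inferInstance
  obtain ⟨m, hm⟩ := Ideal.exists_maximal (K ⊗[S] C)
  letI := Ideal.Quotient.field m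
  haveI : Algebra.FormallyUnramified K (K ⊗[S] C) := inferInstance
  obtain ⟨σ₀, -⟩ := Groth.Agent.HenselLib.exists_point_of_isSepClosed (Ideal.Quotient.mkₐ K m)
  obtain ⟨τ, -, -⟩ := h.existsUnique_lift
    ((σ₀.restrictScalars S).comp Algebra.TensorProduct.includeRight)
  exact ⟨τ⟩

end Point

variable (S)

/-- A predicate which holds near every prime and is stable under finite products holds on an
étale faithfully flat algebra. -/
theorem exists_cover (P : ∀ (C : Type u) [CommRing C] [Algebra S C], Prop)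
    (hloc : ∀ p : PrimeSpectrum S, ∃ (C : Type u) (_ : CommRing C) (_ : Algebra S C),
      Algebra.Etale S C ∧ p ∈ Set.range (PrimeSpectrum.comap (algebraMap S C)) ∧ P C)
    (hpi : ∀ (ι : Type u) [Fintype ι] [DecidableEq ι] (C : ι → Type u) [∀ i, CommRing (C i)]
      [∀ i, Algebra S (C i)], (∀ i, P (C i)) → P (∀ i, C i)) :
    ∃ (S' : Type u) (_ : CommRing S') (_ : Algebra S S') (_ : Algebra.Etale S S')
      (_ : Module.FaithfullyFlat S S'), P S' := by
  classical
  choose C i₁ i₂ het hmem hP using hloc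
  obtain ⟨s, hs⟩ := isCompact_univ.elim_finite_subcover
    (fun p : PrimeSpectrum S => Set.range (PrimeSpectrum.comap (algebraMap S (C p))))
    (fun p => by
      haveI := het p
      exact (PrimeSpectrum.isOpenMap_comap_of_hasGoingDown_of_finitePresentation
        (R := S) (S := C p)).isOpen_range)
    (fun q _ => Set.mem_iUnion.2 ⟨q, hmem q⟩)
  let I := {p : PrimeSpectrum S // p ∈ s}
  haveI : ∀ i : I, Algebra.Etale S (C i.1) := fun i => het i.1
  haveI : Module.Flat S ((i : I) → C i.1) := inferInstance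
  have hff : Module.FaithfullyFlat S ((i : I) → C i.1) := by
    refine Module.FaithfullyFlat.of_comap_surjective fun q => ?_
    obtain ⟨p, hp, q₁, hq₁⟩ := Set.mem_iUnion₂.1 (hs (Set.mem_univ q))
    refine ⟨PrimeSpectrum.comap (Pi.evalRingHom (fun i : I => C i.1) ⟨p, hp⟩) q₁, ?_⟩
    rw [← hq₁]
    rfl
  exact ⟨((i : I) → C i.1), inferInstance, inferInstance, inferInstance, hff,
    hpi I (fun i => C i.1) fun i => hP i.1⟩

/-- Finite families in a tensor product with a finite product are determined componentwise. -/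
theorem bijective_proj {ι : Type u} [Fintype ι] [DecidableEq ι] (C : ι → Type u)
    [∀ i, CommRing (C i)] [∀ i, Algebra S (C i)] :
    Function.Bijective fun (x : (∀ i, C i) ⊗[S] M) (i : ι) => tmap (Pi.evalAlgHom S C i) x := by
  let T : (∀ i, C i) ⊗[S] M ≃ₗ[S] ∀ i, C i ⊗[S] M :=
    (TensorProduct.comm S (∀ i, C i) M).trans <| (TensorProduct.piRight S S M C).trans <|
      LinearEquiv.piCongrRight fun i => TensorProduct.comm S M (C i)
  have hT : ∀ x, T x = fun i => tmap (Pi.evalAlgHom S C i) x := fun x => by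
    induction x using TensorProduct.induction_on with
    | zero => simp; rfl
    | tmul c m => funext i; simp [T]
    | add a b ha hb => funext i; simp [map_add, ha, hb]
  convert T.bijective using 1
  exact funext fun x => (hT x).symm

end Groth.Agent.AzInvLib.Spread
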