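import Groth.Agent.AzInvLib.StrictSplit
import Groth.Agent.AzInvLib.Spread
import Groth.Agent.HenselLib.Strict
import Mathlib.RingTheory.Flat.Basic

/-!
# Facts about strictly henselian points
-/

namespace Groth.Agent.AzInvLib.PointFacts

open TensorProduct Polynomial IsLocalRing Groth.Agent.HenselLib

universe u v

variable {S : Type u} [CommRing S] {K : Type u} [Field K] [Algebra S K] [IsSepClosed K]
  {H : Type u} [CommRing H] [Algebra S H] {ρ : H →ₐ[S] K} (h : IsNbhdColim S K H ρ)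
include h

theorem isSepClosed_residue [IsLocalRing H] : IsSepClosed (ResidueField H) := by
  obtain ⟨e, -⟩ := h.exists_residueEquiv
  exact StrictSplit.isSepClosed_of_ringEquiv e.toRingEquiv

/-- Simple roots in the separably closed field lift. -/
theorem exists_root (f : H[X]) (hf : f.Monic) (hdeg : f.natDegree ≠ 0)
    (hsep : (f.map ρ.toRingHom).Separable) : ∃ a : H, f.eval a = 0 := by
  haveI := h.henselian
  obtain ⟨x, hx⟩ := IsSepClosed.exists_root (f.map ρ.toRingHom) (by
    rw [degree_eq_natDegree (hf.map _).ne_zero, hf.natDegree_map]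
    exact_mod_cast hdeg) hsep
  obtain ⟨a₀, rfl⟩ := h.surj x
  have h1 : ρ (f.eval a₀) = 0 := by
    rw [← hx.eq_zero]
    exact (Polynomial.eval_map_apply ρ.toRingHom a₀).symm
  obtain ⟨a, ha, -⟩ := HenselianLocalRing.is_henselian f hf a₀ ((h.mem_maximal_iff _).2 h1)
    (h.isUnit _ fun h0 => hsep.aeval_derivative_ne_zero (x := ρ a₀)
      (by rw [aeval_def, Algebra.algebraMap_self, eval₂_id]; exact hx)
      (by
        rw [aeval_def, Algebra.algebraMap_self, eval₂_id, derivative_map]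
        exact (Polynomial.eval_map_apply ρ.toRingHom a₀).trans h0))
  exact ⟨a, ha⟩

/-- Square roots of units when `2` is invertible. -/
theorem exists_sq_of_two (h2 : IsUnit (2 : H)) (x : H) (hx : IsUnit x) : ∃ y : H, y * y = x := by
  haveI : Nontrivial H := ρ.toRingHom.domain_nontrivial
  have h2K : (2 : K) ≠ 0 := by rw [← map_ofNat ρ 2]; exact (h2.map ρ).ne_zero
  obtain ⟨y, hy⟩ := exists_root h (X ^ 2 - C x) (monic_X_pow_sub_C x two_ne_zero)
    (by simp) (by
      rw [Polynomial.map_sub, Polynomial.map_pow, map_X, map_C]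
      exact Polynomial.separable_X_pow_sub_C _ (by simpa using h2K) (hx.map ρ).ne_zero)
  exact ⟨y, by rw [eval_sub, eval_pow, eval_X, eval_C, sub_eq_zero, pow_two] at hy; exact hy⟩

/-- Square roots of units when units have square roots locally for the étale topology. -/
theorem exists_sq_of_local
    (hsq : ∀ (S₁ : Type u) [CommRing S₁] [Algebra S S₁] [Algebra.Etale S S₁] (x : S₁ˣ),
      ∃ (S₂ : Type u) (_ : CommRing S₂) (_ : Algebra S₁ S₂) (_ : Algebra.Etale S₁ S₂)
        (_ : Module.FaithfullyFlat S₁ S₂) (y : S₂), y * y = algebraMap S₁ S₂ ↑x)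
    (x : H) (hx : IsUnit x) : ∃ y : H, y * y = x := by
  obtain ⟨C, _, _, _, τ, c, rfl⟩ := h.exists_rep x
  let C₁ := Localization.Away c
  let τ₁ : C₁ →ₐ[S] H := IsLocalization.Away.liftAlgHom c (f := τ) hx
  have hτ₁ : τ₁ (algebraMap C C₁ c) = τ c := IsLocalization.lift_eq _ c
  have hu : IsUnit (algebraMap C C₁ c) := IsLocalization.Away.algebraMap_isUnit c
  obtain ⟨C₂, _, _, _, _, y, hy⟩ := hsq C₁ hu.unit
  rw [hu.unit_spec] at hy
  letI : Algebra C₁ K := (ρ.comp τ₁).toRingHom.toAlgebra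
  obtain ⟨m, hm⟩ := Ideal.exists_maximal (K ⊗[C₁] C₂)
  letI := Ideal.Quotient.field m
  obtain ⟨σ₀, -⟩ := exists_point_of_isSepClosed (Ideal.Quotient.mkₐ K m)
  let σ : C₂ →ₐ[C₁] K := (σ₀.restrictScalars C₁).comp Algebra.TensorProduct.includeRight
  letI : Algebra S C₂ := ((algebraMap C₁ C₂).comp (algebraMap S C₁)).toAlgebra
  haveI : IsScalarTower S C₁ C₂ := IsScalarTower.of_algebraMap_eq' rfl
  haveI : Algebra.Etale S C₂ := Algebra.Etale.comp S C₁ C₂
  haveI : IsScalarTower S C₁ K := IsScalarTower.of_algebraMap_eq fun s =>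
    ((ρ.comp τ₁).commutes s).symm
  obtain ⟨τ₂, hτ₂, -⟩ := h.existsUnique_lift (σ.restrictScalars S)
  haveI := h.isLocalRing
  have hcomp : τ₂.comp (IsScalarTower.toAlgHom S C₁ C₂) = τ₁ := by
    refine algHom_ext_of_point ρ h.isUnit (AlgHom.ext fun z => ?_)
    show ρ (τ₂ (algebraMap C₁ C₂ z)) = ρ (τ₁ z)
    rw [← AlgHom.comp_apply, hτ₂]
    exact σ.commutes z
  refine ⟨τ₂ y, ?_⟩
  rw [← map_mul, hy, ← hτ₁, ← hcomp]
  rfl

omit [IsSepClosed K] in
theorem algebraMap_isUnit (s : S) (hs : algebraMap S K s ≠ 0) : IsUnit (algebraMap S H s) :=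
  h.isUnit _ (by rw [ρ.commutes]; exact hs)

end Groth.Agent.AzInvLib.PointFacts
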