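import Groth.Agent.AzInvLib.Std
import Groth.Prelude.Def_W4c2azumayainvolQEt
import Mathlib.RingTheory.Kaehler.Basic
import Mathlib.RingTheory.Unramified.Basic
import Mathlib.RingTheory.Flat.Basic

/-!
# Where some `r - lam r` is invertible the extension is quadratic étale
-/

namespace Groth.Agent.AzInvLib.QuadSplit

open TensorProduct Groth.Agent.AzInvLib.Std

universe u v

variable {S : Type u} {R : Type v} [CommRing S] [CommRing R] [Algebra S R] {lam : R ≃ₐ[S] R}

theorem isQuadEtale (hlam : ∀ r, lam (lam r) = r) (hfix : RInv.IsFixedRing S R lam.toRingEquiv)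
    (C : Type u) [CommRing C] [Algebra S C] [Module.Flat S C] (r : R) (δ : S)
    (hδ : algebraMap S R δ = (r - lam r) * (r - lam r)) (hu : IsUnit (algebraMap S C δ)) :
    RInv.IsQuadEtale C (C ⊗[S] R) := by
  obtain ⟨d, hd⟩ := hu.exists_right_inv
  let L : C →ₐ[C] C ⊗[S] R := Algebra.TensorProduct.includeLeft
  have hLs : ∀ s, L (algebraMap S C s) = (1 : C) ⊗ₜ[S] algebraMap S R s := fun s =>
    ((Algebra.TensorProduct.includeLeft (R := S) (S := S) (A := C) (B := R)).commutes s).trans
      (((Algebra.TensorProduct.includeRight (R := S) (A := C) (B := R)).commutes s).symm)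
  have hinj : Function.Injective L :=
    Algebra.TensorProduct.includeLeft_injective (S := C) hfix.1
  let z : C ⊗[S] R := (1 : C) ⊗ₜ[S] r
  have hlL : ∀ c, lamC C lam (L c) = L c := fun c => by simp [L, lamC_tmul]
  have hlz : lamC C lam z = (1 : C) ⊗ₜ[S] lam r := rfl
  have hsq : (z - lamC C lam z) * (z - lamC C lam z) = L (algebraMap S C δ) := by
    rw [hLs, hδ, hlz, ← TensorProduct.tmul_sub, Algebra.TensorProduct.tmul_mul_tmul, mul_one]
  have hdu : L d * L (algebraMap S C δ) = 1 := by rw [← map_mul, mul_comm, hd, map_one]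
  let φ : C × C →ₗ[C] C ⊗[S] R :=
    (Algebra.linearMap C (C ⊗[S] R)).coprod (LinearMap.toSpanSingleton C (C ⊗[S] R) z)
  have hφ : ∀ p : C × C, φ p = L p.1 + L p.2 * z := fun p => by
    show algebraMap C _ p.1 + p.2 • z = _
    rw [Algebra.smul_def]
    rfl
  have hinjφ : Function.Injective φ := by
    rw [injective_iff_map_eq_zero]
    intro p hp
    rw [hφ] at hp
    have hp' := congrArg (lamC C lam) hp
    rw [map_add, map_mul, hlL, hlL, map_zero] at hp'
    have hb : L p.2 * (z - lamC C lam z) = 0 := by linear_combination hp - hp'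
    have hb' : L p.2 = 0 := by
      calc L p.2 = L p.2 * (L d * L (algebraMap S C δ)) := by rw [hdu, mul_one]
        _ = L d * (z - lamC C lam z) * (L p.2 * (z - lamC C lam z)) := by rw [← hsq]; ring
        _ = 0 := by rw [hb, mul_zero]
    have ha : L p.1 = 0 := by rwa [hb', zero_mul, add_zero] at hp
    exact Prod.ext (hinj (ha.trans (map_zero L).symm)) (hinj (hb'.trans (map_zero L).symm))
  have hsurjφ : Function.Surjective φ := by
    intro x
    induction x using TensorProduct.induction_on with
    | zero => exact ⟨0, map_zero _⟩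
    | add a b ha hb =>
      obtain ⟨p, rfl⟩ := ha
      obtain ⟨q, rfl⟩ := hb
      exact ⟨p + q, map_add _ _ _⟩
    | tmul c x =>
      have hfix' : ∀ y : R, lam y = y → ∃ s, algebraMap S R s = y := fun y hy => (hfix.2 y).1 hy
      obtain ⟨b, hb⟩ := hfix' ((x - lam x) * (r - lam r)) (by
        rw [map_mul, map_sub, map_sub, hlam, hlam]; ring)
      obtain ⟨a, ha⟩ := hfix' (algebraMap S R δ * x - algebraMap S R b * r) (by
        rw [map_sub, map_mul, map_mul, AlgEquiv.commutes, AlgEquiv.commutes, hδ, hb]
        ring)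
      refine ⟨(c * d * algebraMap S C a, c * d * algebraMap S C b), ?_⟩
      have h1 : L (algebraMap S C δ) * ((1 : C) ⊗ₜ[S] x) =
          L (algebraMap S C a) + L (algebraMap S C b) * z := by
        rw [hLs, hLs, hLs, ha]
        simp only [z, Algebra.TensorProduct.tmul_mul_tmul, mul_one, ← TensorProduct.tmul_add,
          sub_add_cancel]
      have h2 : c ⊗ₜ[S] x = L c * ((1 : C) ⊗ₜ[S] x) := by simp [L]
      rw [hφ, h2, map_mul, map_mul, map_mul, map_mul]
      linear_combination (-(L c * L d)) * h1 + (L c * ((1 : C) ⊗ₜ[S] x)) * hdu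
  let e := LinearEquiv.ofBijective φ ⟨hinjφ, hsurjφ⟩
  haveI hF : Module.Free C (C ⊗[S] R) := Module.Free.of_equiv e
  haveI : Module.Finite C (C ⊗[S] R) := Module.Finite.equiv e
  refine ⟨inferInstance, inferInstance, ⟨?_⟩, fun p => ?_⟩
  · refine subsingleton_of_forall_eq 0 fun w => ?_
    have hD : ∀ x, KaehlerDifferential.D C (C ⊗[S] R) x = 0 := by
      obtain ⟨a, ha⟩ := (hfix.2 (r + lam r)).1 (show lam (r + lam r) = _ by
        rw [map_add, hlam, add_comm])
      obtain ⟨N, hN⟩ := (hfix.2 (r * lam r)).1 (show lam (r * lam r) = _ by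
        rw [map_mul, hlam, mul_comm])
      have hrel : z * z = L (algebraMap S C a) * z - L (algebraMap S C N) := by
        rw [hLs, hLs, ha, hN]
        simp only [z, Algebra.TensorProduct.tmul_mul_tmul, mul_one, ← TensorProduct.tmul_sub]
        congr 1; ring
      have hDL : ∀ c, KaehlerDifferential.D C (C ⊗[S] R) (L c) = 0 := fun c =>
        (KaehlerDifferential.D C (C ⊗[S] R)).map_algebraMap c
      have hDz : KaehlerDifferential.D C (C ⊗[S] R) z = 0 := by
        have h := congrArg (KaehlerDifferential.D C (C ⊗[S] R)) hrel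
        rw [map_sub, Derivation.leibniz, Derivation.leibniz, hDL, hDL, smul_zero, add_zero, sub_zero,
          ← add_smul, ← sub_eq_zero, ← sub_smul] at h
        have e1 : z + z - L (algebraMap S C a) = z - lamC C lam z := by
          rw [hLs, ha, hlz]
          simp only [z, ← TensorProduct.tmul_add, ← TensorProduct.tmul_sub]
          congr 1; ring
        rw [e1] at h
        calc KaehlerDifferential.D C (C ⊗[S] R) z
            = (L d * ((z - lamC C lam z) * (z - lamC C lam z))) • KaehlerDifferential.D C (C ⊗[S] R) z := by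
              rw [hsq, hdu, one_smul]
          _ = 0 := by rw [← mul_assoc, mul_smul, h, smul_zero]
      intro x
      obtain ⟨p, rfl⟩ := e.surjective x
      show KaehlerDifferential.D C (C ⊗[S] R) (φ p) = 0
      rw [hφ, map_add, Derivation.leibniz, hDL, hDL, hDz, smul_zero, smul_zero, zero_add, zero_add]
    have hw : w ∈ Submodule.span (C ⊗[S] R) (Set.range (KaehlerDifferential.D C (C ⊗[S] R))) := by
      rw [KaehlerDifferential.span_range_derivation]; trivial
    induction hw using Submodule.span_induction with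
    | mem y hy => obtain ⟨x, rfl⟩ := hy; exact hD x
    | zero => rfl
    | add y y' _ _ hy hy' => rw [hy, hy', add_zero]
    | smul c y _ hy => rw [hy, smul_zero]
  · haveI : Nontrivial C := p.nontrivial
    rw [Module.rankAtStalk_eq_finrank_of_free, ← e.finrank_eq]
    simp

end Groth.Agent.AzInvLib.QuadSplit
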