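import Groth.Agent.AzInvLib.Std
import Groth.Agent.AzInvLib.PointFacts
import Groth.Agent.AzInvLib.Herm
import Groth.Agent.CSA.AzumayaInner
import Groth.Agent.HenselLib.Ops
import Groth.Prelude.Def_W4c2azumayainvolQEt
import Mathlib.RingTheory.Flat.Basic
import Mathlib.RingTheory.IntegralClosure.Algebra.Basic

/-!
# The ramified points
-/

namespace Groth.Agent.AzInvLib.RamPoint

open TensorProduct Polynomial IsLocalRing AzInv Groth.Agent.HenselLib Groth.Agent.AzInvLib.Units
  Groth.Agent.AzInvLib.Std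

universe u v w

variable {S : Type u} {R : Type v} [CommRing S] [CommRing R] [Algebra S R] (lam : R ≃ₐ[S] R)
  {H : Type u} [CommRing H] [Algebra S H] {K : Type u} [Field K] [Algebra S K]

/-- Ramification at a point. -/
def IsRamified (K : Type u) [Field K] [Algebra S K] : Prop :=
  ∀ (r : R) (δ : S), algebraMap S R δ = (r - lam r) * (r - lam r) → algebraMap S K δ = 0

variable {lam} (hlam : ∀ r, lam (lam r) = r) (hfix : RInv.IsFixedRing S R lam.toRingEquiv)

include hlam hfix in
theorem isIntegral : Algebra.IsIntegral S R := by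
  refine ⟨fun x => ?_⟩
  obtain ⟨a, ha⟩ := (hfix.2 (x + lam x)).1 (show lam (x + lam x) = _ by rw [map_add, hlam, add_comm])
  obtain ⟨N, hN⟩ := (hfix.2 (x * lam x)).1 (show lam (x * lam x) = _ by rw [map_mul, hlam, mul_comm])
  refine ⟨X ^ 2 - C a * X + C N, by monicity!, ?_⟩
  simp only [eval₂_add, eval₂_sub, eval₂_mul, eval₂_X_pow, eval₂_C, eval₂_X]
  rw [ha, hN]
  ring

variable [IsSepClosed K] {ρ : H →ₐ[S] K} (h : IsNbhdColim S K H ρ)

omit [IsSepClosed K] in
include hfix h in
theorem exists_of_fixed (z : H ⊗[S] R) (hz : lamC H lam z = z) : ∃ c : H, c ⊗ₜ[S] (1 : R) = z := by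
  haveI : Module.Flat S H := h.flat
  let d : R →ₗ[S] R := lam.toLinearMap - LinearMap.id
  have hex : Function.Exact (Algebra.linearMap S R) d := fun r => by
    show lam r - r = 0 ↔ r ∈ Set.range (algebraMap S R)
    rw [sub_eq_zero]
    exact hfix.2 r
  have hd : ∀ y, d.lTensor H y = lamC H lam y - y := fun y => by
    induction y using TensorProduct.induction_on with
    | zero => simp
    | add a b ha hb => simp only [map_add, ha, hb]; abel
    | tmul c r => simp [d, lamC_tmul, TensorProduct.tmul_sub]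
  obtain ⟨y, rfl⟩ := (Module.Flat.lTensor_exact H hex z).1 (by rw [hd, hz, sub_self])
  obtain ⟨c, rfl⟩ := (TensorProduct.rid S H).symm.surjective y
  exact ⟨c, by simp⟩

omit [IsSepClosed K] in
include hfix h in
theorem includeLeft_injective {c : H} (hc : c ⊗ₜ[S] (1 : R) = 0) : c = 0 := by
  haveI : Module.Flat S H := h.flat
  exact Algebra.TensorProduct.includeLeft_injective (S := H) hfix.1
    (hc.trans (map_zero (Algebra.TensorProduct.includeLeft (R := S) (S := H) (A := H) (B := R))).symm)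

variable (hram : IsRamified lam K)

include hlam hfix h hram in
theorem exists_local : ∃ (_ : HenselianLocalRing (H ⊗[S] R)),
    IsSepClosed (ResidueField (H ⊗[S] R)) ∧
      ∀ z, lamC H lam z - z ∈ maximalIdeal (H ⊗[S] R) := by
  haveI := h.henselian
  haveI := isIntegral hlam hfix
  haveI : Nontrivial (H ⊗[S] R) := nontrivial_of_ne 1 0 fun e =>
    one_ne_zero (α := H) (includeLeft_injective hfix h (Algebra.TensorProduct.one_def.symm.trans e))
  have hcomap : ∀ Q : Ideal (H ⊗[S] R), Q.IsMaximal →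
      Q.comap (algebraMap H (H ⊗[S] R)) = maximalIdeal H := fun Q hQ =>
    haveI := hQ
    IsLocalRing.eq_maximalIdeal (Ideal.isMaximal_comap_of_isIntegral_of_isMaximal Q)
  have hlamQ : ∀ Q : Ideal (H ⊗[S] R), Q.IsMaximal → ∀ z, lamC H lam z - z ∈ Q := by
    intro Q hQ z
    induction z using TensorProduct.induction_on with
    | zero => simp
    | add a b ha hb => rw [map_add, add_sub_add_comm]; exact add_mem ha hb
    | tmul c r =>
      obtain ⟨δ, hδ⟩ := (hfix.2 ((r - lam r) * (r - lam r))).1 (show lam _ = _ by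
        rw [map_mul, map_sub, hlam]; ring)
      refine hQ.isPrime.mem_of_pow_mem 2 ?_
      have e : (lamC H lam (c ⊗ₜ[S] r) - c ⊗ₜ[S] r) ^ 2 =
          algebraMap H (H ⊗[S] R) (c * c * algebraMap S H δ) := by
        rw [lamC_tmul, ← TensorProduct.tmul_sub, pow_two, Algebra.TensorProduct.tmul_mul_tmul,
          show (lam r - r) * (lam r - r) = algebraMap S R δ by rw [hδ]; ring,
          Algebra.algebraMap_eq_smul_one δ, ← TensorProduct.smul_tmul, Algebra.smul_def, mul_comm]
        rfl
      rw [e, ← Ideal.mem_comap, hcomap Q hQ]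
      refine Ideal.mul_mem_left _ _ ((h.mem_maximal_iff _).2 ?_)
      rw [ρ.commutes]
      exact hram r δ hδ
  have huniq : ∀ Q Q' : Ideal (H ⊗[S] R), Q.IsMaximal → Q'.IsMaximal → Q' ≤ Q := by
    intro Q Q' hQ hQ' x hx
    obtain ⟨c, hc⟩ := exists_of_fixed hfix h (x * lamC H lam x) (by
      rw [map_mul, Std.lamC_lamC H hlam, mul_comm])
    have hcQ' : c ∈ Q'.comap (algebraMap H (H ⊗[S] R)) := by
      show c ⊗ₜ[S] (1 : R) ∈ Q'
      rw [hc]
      exact Q'.mul_mem_right _ hx
    rw [hcomap Q' hQ', ← hcomap Q hQ] at hcQ'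
    have hxQ : x * lamC H lam x ∈ Q := hc ▸ hcQ'
    rcases hQ.isPrime.mem_or_mem hxQ with h1 | h1
    · exact h1
    · simpa using Q.sub_mem h1 (hlamQ Q hQ x)
  haveI : IsLocalRing (H ⊗[S] R) := by
    obtain ⟨Q, hQ⟩ := Ideal.exists_maximal (H ⊗[S] R)
    exact IsLocalRing.of_unique_max_ideal ⟨Q, hQ, fun Q' hQ' =>
      le_antisymm (huniq Q Q' hQ hQ') (huniq Q' Q hQ' hQ)⟩
  haveI : HenselianRing H (maximalIdeal H) := inferInstance
  haveI : Algebra.IsIntegral H (H ⊗[S] R) := inferInstance
  haveI := henselianRing_of_isIntegral (maximalIdeal H) (H ⊗[S] R)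
  have hle : maximalIdeal H ≤ (maximalIdeal (H ⊗[S] R)).comap (algebraMap H (H ⊗[S] R)) :=
    (hcomap _ (maximalIdeal.isMaximal _)).ge
  haveI : HenselianLocalRing (H ⊗[S] R) := by
    refine ⟨fun f hf a₀ h₁ h₂ => ?_⟩
    -- the pair with respect to the maximal ideal
    have hrad : maximalIdeal (H ⊗[S] R) =
        ((maximalIdeal H).map (algebraMap H (H ⊗[S] R))).radical := by
      refine le_antisymm ?_ ?_
      · rw [Ideal.radical_eq_sInf]
        refine le_sInf fun P hP => ?_
        haveI := hP.2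
        have hPm : P.comap (algebraMap H (H ⊗[S] R)) = maximalIdeal H :=
          le_antisymm (IsLocalRing.le_maximalIdeal (Ideal.comap_ne_top _ hP.2.ne_top))
            (Ideal.map_le_iff_le_comap.1 hP.1)
        haveI : P.IsMaximal := Ideal.isMaximal_of_isIntegral_of_isMaximal_comap P
          (hPm ▸ maximalIdeal.isMaximal H)
        rw [IsLocalRing.eq_maximalIdeal (inferInstance : P.IsMaximal)]
      · exact (maximalIdeal.isMaximal _).isPrime.radical_le_iff.2 (Ideal.map_le_iff_le_comap.2 hle)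
    haveI := henselianRing_radical ((maximalIdeal H).map (algebraMap H (H ⊗[S] R)))
    rw [← hrad] at this
    exact this.is_henselian f hf a₀ h₁ (h₂.map _)
  refine ⟨inferInstance, ?_, fun z => hlamQ _ (maximalIdeal.isMaximal _) z⟩
  haveI : IsLocalHom (algebraMap H (H ⊗[S] R)) := ⟨fun c hc => by
    by_contra hnu
    exact hle hnu hc⟩
  haveI := PointFacts.isSepClosed_residue h
  have key : ∀ x : H ⊗[S] R, ∃ c : H, c ⊗ₜ[S] (1 : R) = x + lamC H lam x ∧
      ∃ c' : H, c' ⊗ₜ[S] (1 : R) = x * lamC H lam x := fun x => by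
    obtain ⟨c, hc⟩ := exists_of_fixed hfix h (x + lamC H lam x) (by
      rw [map_add, Std.lamC_lamC H hlam, add_comm])
    exact ⟨c, hc, exists_of_fixed hfix h (x * lamC H lam x) (by
      rw [map_mul, Std.lamC_lamC H hlam, mul_comm])⟩
  have hres : ∀ x, residue (H ⊗[S] R) (lamC H lam x) = residue _ x := fun x => by
    rw [← sub_eq_zero, ← map_sub, residue_eq_zero_iff]
    exact hlamQ _ (maximalIdeal.isMaximal _) x
  refine StrictSplit.isSepClosed_of_sq (k := ResidueField H) (fun y => ?_) (fun y => ?_)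
  · obtain ⟨x, rfl⟩ := residue_surjective y
    obtain ⟨c, hc, -⟩ := key x
    refine ⟨residue H c, ?_⟩
    rw [show algebraMap (ResidueField H) (ResidueField (H ⊗[S] R)) (residue H c) =
      residue _ (c ⊗ₜ[S] (1 : R)) from rfl, hc, map_add, hres, two_mul]
  · obtain ⟨x, rfl⟩ := residue_surjective y
    obtain ⟨-, -, c, hc⟩ := key x
    refine ⟨residue H c, ?_⟩
    rw [show algebraMap (ResidueField H) (ResidueField (H ⊗[S] R)) (residue H c) =
      residue _ (c ⊗ₜ[S] (1 : R)) from rfl, hc, map_mul, hres]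

end Groth.Agent.AzInvLib.RamPoint
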