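import Groth.Agent.AzInvLib.Std
import Groth.Agent.AzInvLib.PointFacts
import Groth.Agent.CSA.AzumayaInner
import Groth.Prelude.Def_W4c2azumayainvolQEt

/-!
# The split points
-/

namespace Groth.Agent.AzInvLib.SplitPoint

open TensorProduct Polynomial Groth.Agent.HenselLib Groth.Agent.AzInvLib.Units
  Groth.Agent.AzInvLib.Std

universe u v w

variable {S : Type u} {R : Type v} [CommRing S] [CommRing R] [Algebra S R] {lam : R ≃ₐ[S] R}
  {H : Type u} [CommRing H] [Algebra S H]

/-- A ring map to `H` cut out by an idempotent of `H ⊗ R`. -/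
structure Corner (H : Type u) [CommRing H] [Algebra S H] (φ : R →ₐ[S] H) (ε : H ⊗[S] R) : Prop where
  idem : ε * ε = ε
  eq : ∀ x : R, ((1 : H) ⊗ₜ[S] x) * ε = (φ x ⊗ₜ[S] (1 : R)) * ε

/-- A pair of complementary corners exchanged by the involution. -/
structure IsSplit (lam : R ≃ₐ[S] R) (φ : R →ₐ[S] H) (ε : H ⊗[S] R) : Prop where
  corner : Corner H φ ε
  add : ε + lamC H lam ε = 1
  corner' : Corner H (φ.comp lam.toAlgHom) (lamC H lam ε)

theorem exists_isSplit {K : Type u} [Field K] [Algebra S K] [IsSepClosed K] {ρ : H →ₐ[S] K}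
    (h : IsNbhdColim S K H ρ) (hlam : ∀ r, lam (lam r) = r)
    (hfix : RInv.IsFixedRing S R lam.toRingEquiv) (r : R) (δ : S)
    (hδ : algebraMap S R δ = (r - lam r) * (r - lam r)) (hδK : algebraMap S K δ ≠ 0) :
    ∃ φ ε, IsSplit (H := H) lam φ ε := by
  have hfix' : ∀ y : R, lam y = y → ∃ s, algebraMap S R s = y := fun y hy => (hfix.2 y).1 hy
  obtain ⟨a, ha⟩ := hfix' (r + lam r) (by rw [map_add, hlam, add_comm])
  obtain ⟨N, hN⟩ := hfix' (r * lam r) (by rw [map_mul, hlam, mul_comm])
  have hd : a ^ 2 - 4 * N = δ := hfix.1 (by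
    rw [map_sub, map_pow, map_mul, ha, hN, hδ, map_ofNat]; ring)
  obtain ⟨dh, hdh⟩ := (PointFacts.algebraMap_isUnit h δ hδK).exists_right_inv
  let F : H[X] := X ^ 2 - C (algebraMap S H a) * X + C (algebraMap S H N)
  haveI : Nontrivial H := ρ.toRingHom.domain_nontrivial
  have hF : F.Monic := by
    simp only [F]
    monicity!
  obtain ⟨h₁, hh₁⟩ := PointFacts.exists_root h F hF
    (by
      have : F.natDegree = 2 := by simp only [F]; compute_degree!
      omega)
    (by
      have hFK : F.map ρ.toRingHom =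
          X ^ 2 - C (algebraMap S K a) * X + C (algebraMap S K N) := by
        simp [F]
      rw [hFK, Polynomial.separable_def]
      refine ⟨C (-4 * (algebraMap S K δ)⁻¹),
        C ((algebraMap S K δ)⁻¹) * (C 2 * X - C (algebraMap S K a)), ?_⟩
      have h1 : C ((algebraMap S K δ)⁻¹) * (C (algebraMap S K a) ^ 2 - 4 * C (algebraMap S K N)) = 1 := by
        rw [show (4 : K[X]) = C 4 from (map_ofNat C 4).symm, ← map_pow, ← map_mul C (4 : K), ← map_sub, ← map_mul,
          ← map_one C]
        congr 1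
        rw [← map_pow, ← map_ofNat (algebraMap S K) 4, ← map_mul, ← map_sub, hd, inv_mul_cancel₀ hδK]
      simp only [derivative_add, derivative_sub, derivative_mul, derivative_C, derivative_X,
        derivative_X_pow, Nat.cast_ofNat, map_ofNat, map_mul, map_neg]
      linear_combination h1)
  have hq : h₁ * h₁ - algebraMap S H a * h₁ + algebraMap S H N = 0 := by
    simpa [F, pow_two] using hh₁
  let h₂ := algebraMap S H a - h₁
  have hdiff : (h₁ - h₂) * ((h₁ - h₂) * dh) = 1 := by
    rw [← hdh, ← mul_assoc, ← hd, map_sub, map_pow, map_mul, map_ofNat]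
    simp only [h₂]
    linear_combination 4 * dh * hq
  let q : H := (h₁ - h₂) * dh
  let L : H →ₐ[H] H ⊗[S] R := Algebra.TensorProduct.includeLeft
  let z₀ : H ⊗[S] R := (1 : H) ⊗ₜ[S] r
  have hLs : ∀ s, L (algebraMap S H s) = (1 : H) ⊗ₜ[S] algebraMap S R s := fun s =>
    ((Algebra.TensorProduct.includeLeft (R := S) (S := S) (A := H) (B := R)).commutes s).trans
      (((Algebra.TensorProduct.includeRight (R := S) (A := H) (B := R)).commutes s).symm)
  have hlz : lamC H lam z₀ = L (algebraMap S H a) - z₀ := by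
    rw [hLs, ha, eq_sub_iff_add_eq, lamC_tmul, ← TensorProduct.tmul_add, add_comm]
  have hz₀ : z₀ * z₀ - L (algebraMap S H a) * z₀ + L (algebraMap S H N) = 0 := by
    rw [hLs, hLs, ha, hN]
    simp only [z₀, Algebra.TensorProduct.tmul_mul_tmul, mul_one, ← TensorProduct.tmul_sub,
      ← TensorProduct.tmul_add]
    rw [show r * r - (r + lam r) * r + r * lam r = 0 by ring, TensorProduct.tmul_zero]
  let ε : H ⊗[S] R := (z₀ - L h₂) * L q
  have hlL : ∀ c, lamC H lam (L c) = L c := fun c => by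
    simp [L, lamC_tmul]
  have hq1 : L h₁ * L q - L h₂ * L q = 1 := by
    rw [← sub_mul, ← map_sub, ← map_mul, hdiff, map_one]
  have hLa : L (algebraMap S H a) = L h₁ + L h₂ := by rw [← map_add, add_sub_cancel]
  have hLq : L h₁ * L h₁ - L (algebraMap S H a) * L h₁ + L (algebraMap S H N) = 0 := by
    rw [← map_mul, ← map_mul, ← map_sub, ← map_add, hq, map_zero]
  have hzε : z₀ * ε = L h₁ * ε := by
    simp only [ε]
    linear_combination L q * hz₀ - L q * hLq + (L q * z₀ - L q * L h₁) * hLa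
  have hidem : ε * ε = ε := by
    have e1 : ε * ε = (z₀ * ε - L h₂ * ε) * L q := by simp only [ε]; ring
    rw [e1, hzε]
    linear_combination ε * hq1
  have hadd : ε + lamC H lam ε = 1 := by
    simp only [ε, map_mul, map_sub, hlL, hlz, h₂]
    linear_combination hq1 - L q * hLa
  have hinj : ∀ c, L c * ε = 0 → c = 0 := by
    intro c hc
    have hc' := congrArg (lamC H lam) hc
    rw [map_mul, hlL, map_zero] at hc'
    have hc0 : L c = 0 := by linear_combination hc + hc' - L c * hadd
    haveI : Module.Flat S H := h.flat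
    exact Algebra.TensorProduct.includeLeft_injective (S := H) hfix.1 (hc0.trans (map_zero L).symm)
  have hex : ∀ x : R, ∃ c : H, ((1 : H) ⊗ₜ[S] x) * ε = L c * ε := by
    intro x
    obtain ⟨b, hb⟩ := hfix' ((x - lam x) * (r - lam r)) (by
      rw [map_mul, map_sub, map_sub, hlam, hlam]; ring)
    obtain ⟨c, hc⟩ := hfix' (algebraMap S R δ * x - algebraMap S R b * r) (by
      rw [map_sub, map_mul, map_mul, AlgEquiv.commutes, AlgEquiv.commutes, hδ, hb]
      ring)
    refine ⟨dh * (algebraMap S H c + algebraMap S H b * h₁), ?_⟩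
    have h1 : L (algebraMap S H δ) * (((1 : H) ⊗ₜ[S] x)) =
        L (algebraMap S H c) + L (algebraMap S H b) * z₀ := by
      rw [hLs, hLs, hLs, hc]
      simp only [z₀, Algebra.TensorProduct.tmul_mul_tmul, mul_one, ← TensorProduct.tmul_add,
        sub_add_cancel]
    have h2 : L dh * L (algebraMap S H δ) = 1 := by rw [← map_mul, mul_comm, hdh, map_one]
    simp only [map_mul, map_add]
    linear_combination L dh * ε * h1 + L dh * L (algebraMap S H b) * hzε -
      ((1 : H) ⊗ₜ[S] x) * ε * h2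
  choose f hf using hex
  have huniq : ∀ (x : R) (c : H), ((1 : H) ⊗ₜ[S] x) * ε = L c * ε → f x = c := fun x c hc => by
    apply sub_eq_zero.1 (hinj _ ?_)
    rw [map_sub, sub_mul, ← hf, hc, sub_self]
  let φ : R →ₐ[S] H :=
    { toFun := f
      map_one' := huniq 1 1 (by rw [map_one, ← Algebra.TensorProduct.one_def])
      map_mul' := fun x y => huniq _ _ (by
        rw [map_mul, show ((1 : H) ⊗ₜ[S] (x * y)) = ((1 : H) ⊗ₜ[S] x) * ((1 : H) ⊗ₜ[S] y) by simp,
          mul_assoc, hf y, mul_left_comm, hf x]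
        ring)
      map_zero' := huniq 0 0 (by simp)
      map_add' := fun x y => huniq _ _ (by rw [TensorProduct.tmul_add, add_mul, hf, hf, map_add, add_mul])
      commutes' := fun s => huniq _ _ (by rw [hLs]) }
  refine ⟨φ, ε, ⟨hidem, fun x => hf x⟩, hadd, ⟨by rw [← map_mul, hidem], fun x => ?_⟩⟩
  have := congrArg (lamC H lam) (hf (lam x))
  rw [map_mul (lamC H lam) _ ε, map_mul (lamC H lam) _ ε, lamC_tmul, hlam, hlL] at this
  exact this

section Corners

variable {A : Type w} [Ring A] [Algebra S A] [Algebra R A] [IsScalarTower S R A]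
  {φ : R →ₐ[S] H} {ε : H ⊗[S] R}

/-- The corner map into `H ⊗ A`. -/
theorem exists_corner_map (hc : Corner H φ ε) :
    letI : Algebra R H := φ.toRingHom.toAlgebra
    ∃ (G : H ⊗[R] A →+ H ⊗[S] A) (π : H ⊗[S] A →+ H ⊗[R] A),
      (∀ x y, G (x * y) = G x * G y) ∧ G 1 = jC H A ε ∧
      (∀ c a, G (c ⊗ₜ a) = (c ⊗ₜ[S] a) * jC H A ε) ∧ (∀ c a, π (c ⊗ₜ a) = c ⊗ₜ[R] a) ∧
      ∀ x, G (π x) = x * jC H A ε := by
  letI : Algebra R H := φ.toRingHom.toAlgebra
  haveI : IsScalarTower S R H := IsScalarTower.of_algebraMap_eq fun s => (φ.commutes s).symm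
  let f : H →+ A →+ H ⊗[S] A := AddMonoidHom.mk'
    (fun c => AddMonoidHom.mk' (fun a => (c ⊗ₜ a) * jC H A ε) fun a b => by
      simp [TensorProduct.tmul_add, add_mul])
    (fun c d => by ext a; simp [TensorProduct.add_tmul, add_mul])
  let G : H ⊗[R] A →+ H ⊗[S] A := TensorProduct.liftAddHom f fun r c a => by
    show ((r • c) ⊗ₜ[S] a) * jC H A ε = (c ⊗ₜ[S] (r • a)) * jC H A ε
    have h1 := congrArg (fun z => (c ⊗ₜ[S] a) * jC H A z) (hc.eq r)
    simp only [map_mul, jC_tmul, map_one, ← mul_assoc, Algebra.TensorProduct.tmul_mul_tmul, mul_one] at h1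
    rw [Algebra.smul_def, Algebra.smul_def, Algebra.commutes r a, h1, mul_comm]
    rfl
  let g : H →+ A →+ H ⊗[R] A := AddMonoidHom.mk'
    (fun c => AddMonoidHom.mk' (fun a => c ⊗ₜ[R] a) fun a b => by simp [TensorProduct.tmul_add])
    (fun c d => by ext a; simp [TensorProduct.add_tmul])
  let π : H ⊗[S] A →+ H ⊗[R] A := TensorProduct.liftAddHom g fun s c a => by
    show (s • c) ⊗ₜ[R] a = c ⊗ₜ[R] (s • a)
    rw [← algebraMap_smul R s c, ← algebraMap_smul R s a, TensorProduct.smul_tmul]
  refine ⟨G, π, fun x y => ?_, ?_, fun _ _ => rfl, fun _ _ => rfl, fun x => ?_⟩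
  · induction x using TensorProduct.induction_on with
    | zero => simp
    | add a b ha hb => rw [add_mul, map_add, ha, hb, map_add, add_mul]
    | tmul c a =>
      induction y using TensorProduct.induction_on with
      | zero => simp
      | add a b ha hb => rw [mul_add, map_add, ha, hb, map_add, mul_add]
      | tmul d b =>
        rw [Algebra.TensorProduct.tmul_mul_tmul]
        show ((c * d) ⊗ₜ[S] (a * b)) * jC H A ε = (c ⊗ₜ a) * jC H A ε * ((d ⊗ₜ b) * jC H A ε)
        rw [mul_assoc (c ⊗ₜ[S] a), ← mul_assoc (jC H A ε), jC_comm ε (d ⊗ₜ[S] b), mul_assoc (d ⊗ₜ[S] b),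
          ← map_mul, hc.idem, ← mul_assoc, Algebra.TensorProduct.tmul_mul_tmul]
  · show ((1 : H) ⊗ₜ[S] (1 : A)) * jC H A ε = jC H A ε
    rw [← Algebra.TensorProduct.one_def, one_mul]
  · induction x using TensorProduct.induction_on with
    | zero => simp
    | add a b ha hb => rw [map_add, map_add, ha, hb, add_mul]
    | tmul c a => rfl

variable [HenselianLocalRing H] [IsSepClosed (IsLocalRing.ResidueField H)] {n : ℕ}

/-- Matrix units in a corner. -/
theorem exists_corner_units (hc : Corner H φ ε) (hA : AzInv.IsAzumayaDeg R A n) :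
    ∃ e : Fin n → Fin n → H ⊗[S] A,
      (∀ i j k l, e i j * e k l = if j = k then e i l else 0) ∧ (∑ i, e i i = jC H A ε) ∧
      ∀ i j, e i j * jC H A ε = e i j := by
  letI : Algebra R H := φ.toRingHom.toAlgebra
  obtain ⟨G, π, hmul, hone, -, -, -⟩ := exists_corner_map (A := A) hc
  haveI := hA.1
  haveI := Groth.Agent.CSA.Azu.isAzumaya_baseChange (R := R) H A
  obtain ⟨ψ⟩ := StrictSplit.exists_split H (H ⊗[R] A) n fun P => by
    rw [Module.rankAtStalk_baseChange, hA.2]
  refine ⟨fun i j => G (ψ.symm (Matrix.single i j 1)), fun i j k l => ?_, ?_, fun i j => ?_⟩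
  · rw [← hmul, ← map_mul, (isUnits_single (ι := Fin n) H).mul]
    split_ifs <;> simp
  · rw [← map_sum, ← map_sum, (isUnits_single (ι := Fin n) H).sum, map_one, hone]
  · rw [← hone, ← hmul, mul_one]

/-- An automorphism is inner on a corner. -/
theorem exists_corner_inner (hc : Corner H φ ε) (hA : AzInv.IsAzumayaDeg R A n) (ψ : A ≃ₐ[R] A) :
    ∃ u v : H ⊗[S] A, u * v = jC H A ε ∧ v * u = jC H A ε ∧
      u * jC H A ε = u ∧ v * jC H A ε = v ∧
      ∀ x : H ⊗[S] A,
        Algebra.TensorProduct.congr (AlgEquiv.refl : H ≃ₐ[H] H) (ψ.restrictScalars S) x * jC H A ε =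
          u * x * v := by
  letI : Algebra R H := φ.toRingHom.toAlgebra
  obtain ⟨G, π, hmul, hone, hG, hπ, hGπ⟩ := exists_corner_map (A := A) hc
  haveI := hA.1
  haveI := Groth.Agent.CSA.Azu.isAzumaya_baseChange (R := R) H A
  obtain ⟨w, hw⟩ := Groth.Agent.CSA.Azu.exists_conj_of_isLocalRing H (H ⊗[R] A)
    (Algebra.TensorProduct.congr (AlgEquiv.refl : H ≃ₐ[H] H) ψ)
  have hE : ∀ y : H ⊗[R] A, G y * jC H A ε = G y := fun y => by rw [← hone, ← hmul, mul_one]
  refine ⟨G w, G ↑w⁻¹, by rw [← hmul, Units.mul_inv, hone], by rw [← hmul, Units.inv_mul, hone],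
    hE _, hE _, fun x => ?_⟩
  have h1 : Algebra.TensorProduct.congr (AlgEquiv.refl : H ≃ₐ[H] H) (ψ.restrictScalars S) x * jC H A ε =
      G (Algebra.TensorProduct.congr (AlgEquiv.refl : H ≃ₐ[H] H) ψ (π x)) := by
    induction x using TensorProduct.induction_on with
    | zero => simp
    | add a b ha hb => simp only [map_add, add_mul, ha, hb]
    | tmul c a =>
      rw [hπ, Algebra.TensorProduct.congr_apply, Algebra.TensorProduct.map_tmul,
        Algebra.TensorProduct.congr_apply, Algebra.TensorProduct.map_tmul, hG]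
      rfl
  rw [h1, hw, hmul, hmul, hGπ, mul_assoc (G ↑w) x, mul_assoc (G ↑w), mul_assoc x, jC_comm ε,
    hE]

variable (hlam : ∀ r, lam (lam r) = r)

omit [HenselianLocalRing H] [IsSepClosed (IsLocalRing.ResidueField H)] in
theorem orth (hs : IsSplit lam φ ε) : jC H A ε * jC H A (lamC H lam ε) = 0 := by
  rw [← map_mul]
  have : ε * lamC H lam ε = 0 := by linear_combination ε * hs.add - hs.corner.idem
  rw [this, map_zero]

/-- Matrix units at a split point. -/
theorem hasUnits (hs : IsSplit lam φ ε) (hA : AzInv.IsAzumayaDeg R A n) :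
    HasUnits S A (Fin n) H := by
  obtain ⟨e, he, hes, hee⟩ := exists_corner_units hs.corner hA
  obtain ⟨e', he', hes', hee'⟩ := exists_corner_units hs.corner' hA
  have horth := orth (A := A) hs
  have h0 : ∀ i j k l, e i j * e' k l = 0 ∧ e' k l * e i j = 0 := by
    intro i j k l
    constructor
    · rw [← hee i j, ← hee' k l, mul_assoc, ← mul_assoc (jC H A ε), jC_comm ε (e' k l),
        mul_assoc (e' k l), horth, mul_zero, mul_zero]
    · rw [← hee i j, ← hee' k l, mul_assoc, ← mul_assoc (jC H A (lamC H lam ε)),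
        jC_comm (lamC H lam ε) (e i j), mul_assoc (e i j), jC_comm (lamC H lam ε), horth, mul_zero,
        mul_zero]
  refine ⟨fun i j => e i j + e' i j, fun i j k l => ?_, ?_⟩
  · rw [add_mul, mul_add, mul_add, he, he', (h0 i j k l).1, (h0 k l i j).2]
    split_ifs <;> simp
  · rw [Finset.sum_add_distrib, hes, hes', ← map_add, hs.add, map_one]

/-- At a split point every involution is of the exchange type. -/
theorem hasStd (hs : IsSplit lam φ ε) (hA : AzInv.IsAzumayaDeg R A n) (t : AzInv.LamInv R A lam) :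
    HasStd H t (1 : Matrix (Fin n) (Fin n) ℤ) 1 := by
  obtain ⟨e, he, hes, hee⟩ := exists_corner_units hs.corner hA
  have horth := orth (A := A) hs
  have hte : ∀ i j, t.bc S lam H (e i j) * jC H A (lamC H lam ε) = t.bc S lam H (e i j) := fun i j => by
    conv_rhs => rw [← hee i j, bc_mul, bc_jC, jC_comm]
  have h0 : ∀ i j k l, e i j * t.bc S lam H (e k l) = 0 ∧ t.bc S lam H (e k l) * e i j = 0 := by
    intro i j k l
    constructor
    · rw [← hee i j, ← hte k l, mul_assoc, ← mul_assoc (jC H A ε), jC_comm ε (t.bc S lam H (e k l)),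
        mul_assoc (t.bc S lam H (e k l)), horth, mul_zero, mul_zero]
    · rw [← hee i j, ← hte k l, mul_assoc, ← mul_assoc (jC H A (lamC H lam ε)),
        jC_comm (lamC H lam ε) (e i j), mul_assoc (e i j), jC_comm (lamC H lam ε), horth, mul_zero,
        mul_zero]
  refine ⟨fun i j => e i j + t.bc S lam H (e j i), ⟨fun i j k l => ?_, ?_⟩, fun i j => ?_⟩
  · rw [add_mul, mul_add, mul_add, he, (h0 i j l k).1, (h0 k l j i).2, ← bc_mul, he]
    by_cases hjk : j = k
    · simp [hjk]
    · simp [hjk, Ne.symm hjk]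
  · rw [Finset.sum_add_distrib, ← map_sum, hes, bc_jC, ← map_add, hs.add, map_one]
  · rw [map_add, bc_bc, add_comm, Fintype.sum_eq_single j, Fintype.sum_eq_single i]
    · simp
    · intro l hl; simp [Matrix.one_apply_ne (Ne.symm hl)]
    · intro k hk; simp [Matrix.one_apply_ne hk]

/-- At a split point automorphisms are inner. -/
theorem exists_inner (hs : IsSplit lam φ ε) (hA : AzInv.IsAzumayaDeg R A n) (ψ : A ≃ₐ[R] A) :
    ∃ u : (H ⊗[S] A)ˣ, ∀ x : H ⊗[S] A,
      Algebra.TensorProduct.congr (AlgEquiv.refl : H ≃ₐ[H] H) (ψ.restrictScalars S) x =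
        ↑u * x * ↑u⁻¹ := by
  obtain ⟨u, v, huv, hvu, hu, hv, hx⟩ := exists_corner_inner hs.corner hA ψ
  obtain ⟨u', v', huv', hvu', hu', hv', hx'⟩ := exists_corner_inner hs.corner' hA ψ
  have horth := orth (A := A) hs
  have h0 : ∀ y z : H ⊗[S] A, y * jC H A ε = y → z * jC H A (lamC H lam ε) = z →
      y * z = 0 ∧ z * y = 0 := by
    intro y z hy hz
    constructor
    · rw [← hy, ← hz, mul_assoc, ← mul_assoc (jC H A ε), jC_comm ε z, mul_assoc z, horth, mul_zero,
        mul_zero]
    · rw [← hy, ← hz, mul_assoc, ← mul_assoc (jC H A (lamC H lam ε)),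
        jC_comm (lamC H lam ε) y, mul_assoc y, jC_comm (lamC H lam ε), horth, mul_zero, mul_zero]
  have h1 : (u + u') * (v + v') = 1 := by
    rw [add_mul, mul_add, mul_add, (h0 u v' hu hv').1, (h0 v u' hv hu').2, huv, huv', add_zero,
      zero_add, ← map_add, hs.add, map_one]
  have h2 : (v + v') * (u + u') = 1 := by
    rw [add_mul, mul_add, mul_add, (h0 v u' hv hu').1, (h0 u v' hu hv').2, hvu, hvu', add_zero,
      zero_add, ← map_add, hs.add, map_one]
  refine ⟨⟨u + u', v + v', h1, h2⟩, fun x => ?_⟩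
  show _ = (u + u') * x * (v + v')
  have h3 : u * x * v' = 0 :=
    (h0 (u * x) v' (by rw [mul_assoc, ← jC_comm ε x, ← mul_assoc, hu]) hv').1
  have h4 : u' * x * v = 0 :=
    (h0 v (u' * x) hv (by rw [mul_assoc, ← jC_comm _ x, ← mul_assoc, hu'])).2
  rw [add_mul, add_mul, mul_add, mul_add, h3, h4, ← hx, ← hx', add_zero, zero_add, ← mul_add,
    ← map_add, hs.add, map_one, mul_one]

end Corners

end Groth.Agent.AzInvLib.SplitPoint
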