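import Groth.Agent.AzInvLib.Units
import Groth.Agent.AzInvLib.Spread

/-!
# Standard systems of matrix units and local isomorphisms of algebras with involution
-/

namespace Groth.Agent.AzInvLib.Std

open TensorProduct AzInv Groth.Agent.AzInvLib.Units Groth.Agent.AzInvLib.Spread
  Groth.Agent.HenselLib

universe u v w w'

variable {S : Type u} {R : Type v} [CommRing S] [CommRing R] [Algebra S R] {lam : R ≃ₐ[S] R}
  {A : Type w} [Ring A] [Algebra S A] [Algebra R A] [IsScalarTower S R A]

section Basic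

variable (C : Type u) [CommRing C] [Algebra S C]

/-- The involution of `C ⊗ R`. -/
noncomputable def lamC (lam : R ≃ₐ[S] R) : C ⊗[S] R →ₐ[C] C ⊗[S] R :=
  Algebra.TensorProduct.map (AlgHom.id C C) lam.toAlgHom

theorem lamC_tmul (c : C) (r : R) : lamC C lam (c ⊗ₜ[S] r) = c ⊗ₜ lam r := rfl

theorem lamC_lamC (hlam : ∀ r, lam (lam r) = r) (z : C ⊗[S] R) :
    lamC C lam (lamC C lam z) = z := by
  induction z using TensorProduct.induction_on with
  | zero => simp
  | add a b ha hb => simp only [map_add, ha, hb]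
  | tmul c r => simp [lamC_tmul, hlam]

theorem bc_mul (t : LamInv R A lam) (x y : C ⊗[S] A) :
    t.bc S lam C (x * y) = t.bc S lam C y * t.bc S lam C x := by
  induction x using TensorProduct.induction_on with
  | zero => simp
  | add a b ha hb => rw [add_mul, map_add, ha, hb, map_add, mul_add]
  | tmul c a =>
    induction y using TensorProduct.induction_on with
    | zero => simp
    | add a b ha hb => rw [mul_add, map_add, ha, hb, map_add, add_mul]
    | tmul d b => simp [mul_comm c d, t.map_mul]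

theorem bc_one (t : LamInv R A lam) : t.bc S lam C 1 = 1 := by
  simp [Algebra.TensorProduct.one_def]

theorem bc_bc (t : LamInv R A lam) (x : C ⊗[S] A) : t.bc S lam C (t.bc S lam C x) = x := by
  induction x using TensorProduct.induction_on with
  | zero => simp
  | add a b ha hb => rw [map_add, map_add, ha, hb]
  | tmul c a => simp

theorem bc_jC (t : LamInv R A lam) (z : C ⊗[S] R) :
    t.bc S lam C (jC C A z) = jC C A (lamC C lam z) := by
  induction z using TensorProduct.induction_on with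
  | zero => simp
  | add a b ha hb => simp only [map_add, ha, hb]
  | tmul c r => simp [lamC_tmul, LamInv.map_algebraMap]

theorem tmap_eq {D : Type u} [CommRing D] [Algebra S D] (φ : C →ₐ[S] D) (x : C ⊗[S] A) :
    tmap φ x = Algebra.TensorProduct.map φ (AlgHom.id S A) x := by
  induction x using TensorProduct.induction_on with
  | zero => simp
  | add a b ha hb => simp only [map_add, ha, hb]
  | tmul c a => rfl

theorem tmap_bc {D : Type u} [CommRing D] [Algebra S D] (φ : C →ₐ[S] D) (t : LamInv R A lam)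
    (x : C ⊗[S] A) : tmap φ (t.bc S lam C x) = t.bc S lam D (tmap φ x) := by
  induction x using TensorProduct.induction_on with
  | zero => simp
  | add a b ha hb => simp only [map_add, ha, hb]
  | tmul c a => simp

theorem tmap_mul {D : Type u} [CommRing D] [Algebra S D] (φ : C →ₐ[S] D) (x y : C ⊗[S] A) :
    tmap φ (x * y) = tmap φ x * tmap φ y := by
  simp only [tmap_eq, map_mul]

theorem tmap_one {D : Type u} [CommRing D] [Algebra S D] (φ : C →ₐ[S] D) :
    tmap φ (1 : C ⊗[S] A) = 1 := by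
  simp only [tmap_eq, map_one]

end Basic

variable {ι : Type} [Fintype ι] [DecidableEq ι]

/-- Matrix units on which the involution is given by an integral congruence matrix. -/
structure IsStd (C : Type u) [CommRing C] [Algebra S C] (t : LamInv R A lam) (W W' : Matrix ι ι ℤ)
    (e : ι → ι → C ⊗[S] A) : Prop where
  units : IsUnits e
  inv : ∀ i j, t.bc S lam C (e i j) = ∑ k, ∑ l, (W k j * W' i l) • e k l

/-- Existence of standard matrix units. -/
def HasStd (C : Type u) [CommRing C] [Algebra S C] (t : LamInv R A lam) (W W' : Matrix ι ι ℤ) : Prop :=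
  ∃ e : ι → ι → C ⊗[S] A, IsStd C t W W' e

/-- Existence of matrix units. -/
def HasUnits (S : Type u) [CommRing S] (A : Type w) [Ring A] [Algebra S A] (ι : Type) [Fintype ι]
    [DecidableEq ι] (C : Type u) [CommRing C] [Algebra S C] : Prop :=
  ∃ e : ι → ι → C ⊗[S] A, IsUnits e

theorem IsUnits.tmap {C D : Type u} [CommRing C] [Algebra S C] [CommRing D] [Algebra S D]
    (φ : C →ₐ[S] D) {e : ι → ι → C ⊗[S] A} (he : IsUnits e) :
    IsUnits fun i j => Spread.tmap φ (e i j) :=
  ⟨fun i j k l => by rw [← tmap_mul, he.mul]; split_ifs <;> simp,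
   by rw [← map_sum, he.sum, tmap_one]⟩

theorem HasStd.map {C D : Type u} [CommRing C] [Algebra S C] [CommRing D] [Algebra S D]
    (φ : C →ₐ[S] D) {t : LamInv R A lam} {W W' : Matrix ι ι ℤ} (h : HasStd C t W W') :
    HasStd D t W W' := by
  obtain ⟨e, he⟩ := h
  refine ⟨fun i j => tmap φ (e i j), IsUnits.tmap φ he.units, fun i j => ?_⟩
  rw [← tmap_bc, he.inv]
  simp only [map_sum, map_zsmul]

section Point

variable {K : Type u} [Field K] [Algebra S K] {H : Type u} [CommRing H] [Algebra S H]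
  {ρ : H →ₐ[S] K} (h : IsNbhdColim S K H ρ)
include h

theorem hasUnits_nbhd (he : HasUnits S A ι H) :
    ∃ (C : Type u) (_ : CommRing C) (_ : Algebra S C) (_ : Algebra.Etale S C) (_ : C →ₐ[S] H),
      HasUnits S A ι C := by
  obtain ⟨e, he⟩ := he
  obtain ⟨C, _, _, _, τ, y, hy⟩ := exists_rep_family h fun p : ι × ι => e p.1 p.2
  let y' : ι → ι → C ⊗[S] A := fun i j => y (i, j)
  have hy' : ∀ i j, tmap τ (y' i j) = e i j := fun i j => hy (i, j)
  obtain ⟨D, _, _, _, φ, τ', hτ', hk⟩ := exists_kill_family h C τ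
    (Sum.elim (fun q : ι × ι × ι × ι => y' q.1 q.2.1 * y' q.2.2.1 q.2.2.2 -
        (if q.2.1 = q.2.2.1 then y' q.1 q.2.2.2 else 0))
      (fun _ : Unit => ∑ i, y' i i - 1)) (by
    rintro (⟨i, j, k, l⟩ | u)
    · simp only [Sum.elim_inl, map_sub, tmap_mul, hy', he.mul]
      split_ifs <;> simp [hy']
    · simp only [Sum.elim_inr, map_sub, map_sum, tmap_one, hy', he.sum, sub_self])
  refine ⟨D, _, _, inferInstance, τ', fun i j => tmap φ (y' i j), fun i j k l => ?_, ?_⟩
  · have := hk (.inl (i, j, k, l))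
    simp only [Sum.elim_inl, map_sub, tmap_mul, sub_eq_zero] at this
    rw [this]
    split_ifs <;> simp
  · have := hk (.inr ())
    simpa only [Sum.elim_inr, map_sub, map_sum, tmap_one, sub_eq_zero] using this

theorem hasStd_nbhd {t : LamInv R A lam} {W W' : Matrix ι ι ℤ} (he : HasStd H t W W') :
    ∃ (C : Type u) (_ : CommRing C) (_ : Algebra S C) (_ : Algebra.Etale S C) (_ : C →ₐ[S] H),
      HasStd C t W W' := by
  obtain ⟨e, he⟩ := he
  obtain ⟨C, _, _, _, τ, y, hy⟩ := exists_rep_family h fun p : ι × ι => e p.1 p.2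
  let y' : ι → ι → C ⊗[S] A := fun i j => y (i, j)
  have hy' : ∀ i j, tmap τ (y' i j) = e i j := fun i j => hy (i, j)
  obtain ⟨D, _, _, _, φ, τ', hτ', hk⟩ := exists_kill_family h C τ
    (Sum.elim (fun q : ι × ι × ι × ι => y' q.1 q.2.1 * y' q.2.2.1 q.2.2.2 -
        (if q.2.1 = q.2.2.1 then y' q.1 q.2.2.2 else 0))
      (Sum.elim (fun _ : Unit => ∑ i, y' i i - 1)
        (fun q : ι × ι => t.bc S lam C (y' q.1 q.2) -
          ∑ k, ∑ l, (W k q.2 * W' q.1 l) • y' k l))) (by
    rintro (⟨i, j, k, l⟩ | u | ⟨i, j⟩)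
    · simp only [Sum.elim_inl, map_sub, tmap_mul, hy', he.units.mul]
      split_ifs <;> simp [hy']
    · simp only [Sum.elim_inr, Sum.elim_inl, map_sub, map_sum, tmap_one, hy', he.units.sum, sub_self]
    · simp only [Sum.elim_inr, map_sub, map_sum, map_zsmul, tmap_bc, hy', he.inv, sub_self])
  refine ⟨D, _, _, inferInstance, τ', fun i j => tmap φ (y' i j), ⟨fun i j k l => ?_, ?_⟩,
    fun i j => ?_⟩
  · have := hk (.inl (i, j, k, l))
    simp only [Sum.elim_inl, map_sub, tmap_mul, sub_eq_zero] at this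
    rw [this]
    split_ifs <;> simp
  · have := hk (.inr (.inl ()))
    simpa only [Sum.elim_inr, Sum.elim_inl, map_sub, map_sum, tmap_one, sub_eq_zero] using this
  · have := hk (.inr (.inr (i, j)))
    simpa only [Sum.elim_inr, map_sub, map_sum, map_zsmul, tmap_bc, sub_eq_zero] using this

theorem mem_range (p : PrimeSpectrum S) (hker : RingHom.ker (algebraMap S K) = p.asIdeal)
    {C : Type u} [CommRing C] [Algebra S C] (τ : C →ₐ[S] H) :
    p ∈ Set.range (PrimeSpectrum.comap (algebraMap S C)) := by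
  refine ⟨⟨RingHom.ker (ρ.comp τ).toRingHom, RingHom.ker_isPrime _⟩, PrimeSpectrum.ext ?_⟩
  show (RingHom.ker (ρ.comp τ).toRingHom).comap (algebraMap S C) = _
  rw [RingHom.comap_ker, ← hker]
  congr 1
  exact RingHom.ext fun s => (ρ.comp τ).commutes s

end Point

section Iso

variable {A' : Type w'} [Ring A'] [Algebra S A'] [Algebra R A'] [IsScalarTower S R A']

/-- An isomorphism of algebras with involution over `C`. -/
def IsoAt (t : LamInv R A lam) (t' : LamInv R A' lam) (C : Type u) [CommRing C] [Algebra S C] :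
    Prop :=
  ∃ f : C ⊗[S] A ≃ₐ[C] C ⊗[S] A',
    (∀ (r : R) (x : C ⊗[S] A),
        f (((1 : C) ⊗ₜ[S] algebraMap R A r) * x) = ((1 : C) ⊗ₜ[S] algebraMap R A' r) * f x) ∧
      ∀ x : C ⊗[S] A, f (t.bc S lam C x) = t'.bc S lam C (f x)

theorem exists_bc_formula {C : Type u} [CommRing C] [Algebra S C] {t : LamInv R A lam}
    {W W' : Matrix ι ι ℤ} {e : ι → ι → C ⊗[S] A} (he : IsStd C t W W' e)
    (X : Matrix ι ι (C ⊗[S] R)) :
    t.bc S lam C (∑ i, ∑ j, jC C A (X i j) * e i j) =
      ∑ k, ∑ l, jC C A (∑ i, ∑ j, (W k j * W' i l) • lamC C lam (X i j)) * e k l := by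
  have h1 : ∀ i j, t.bc S lam C (jC C A (X i j) * e i j) =
      ∑ k, ∑ l, jC C A ((W k j * W' i l) • lamC C lam (X i j)) * e k l := by
    intro i j
    rw [bc_mul, bc_jC, ← jC_comm, he.inv, Finset.mul_sum]
    refine Finset.sum_congr rfl fun k _ => ?_
    rw [Finset.mul_sum]
    refine Finset.sum_congr rfl fun l _ => ?_
    rw [map_zsmul, mul_smul_comm, smul_mul_assoc]
  simp only [map_sum, h1, Finset.sum_mul]
  calc _ = ∑ i, ∑ k, ∑ l, ∑ j, jC C A ((W k j * W' i l) • lamC C lam (X i j)) * e k l :=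
        Finset.sum_congr rfl fun i _ => by
          rw [Finset.sum_comm]
          exact Finset.sum_congr rfl fun k _ => Finset.sum_comm
    _ = _ := by
        rw [Finset.sum_comm]
        exact Finset.sum_congr rfl fun k _ => Finset.sum_comm

theorem isoAt_of_hasStd [Nonempty ι] (hA : IsAzumayaDeg R A (Fintype.card ι))
    (hA' : IsAzumayaDeg R A' (Fintype.card ι)) {C : Type u} [CommRing C] [Algebra S C]
    {t : LamInv R A lam} {t' : LamInv R A' lam} {W W' : Matrix ι ι ℤ}
    (h : HasStd C t W W') (h' : HasStd C t' W W') : IsoAt t t' C := by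
  obtain ⟨e, he⟩ := h
  obtain ⟨e', he'⟩ := h'
  obtain ⟨G, hG⟩ := exists_equiv (C := C) hA e he.units
  obtain ⟨G', hG'⟩ := exists_equiv (C := C) hA' e' he'.units
  have hscal : ∀ z, G (Matrix.scalar ι z) = jC C A z ∧ G' (Matrix.scalar ι z) = jC C A' z := by
    intro z
    refine ⟨?_, ?_⟩
    · rw [hG]
      simp [Matrix.scalar_apply, Matrix.diagonal, apply_ite, ite_mul, ← Finset.mul_sum, he.units.sum]
    · rw [hG']
      simp [Matrix.scalar_apply, Matrix.diagonal, apply_ite, ite_mul, ← Finset.mul_sum, he'.units.sum]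
  refine ⟨G.symm.trans G', fun r x => ?_, fun x => ?_⟩
  · obtain ⟨X, rfl⟩ := G.surjective x
    have hx : ((1 : C) ⊗ₜ[S] algebraMap R A r) * G X =
        G (Matrix.scalar ι ((1 : C) ⊗ₜ[S] r) * X) := by
      rw [map_mul, (hscal _).1, jC_tmul]
    rw [hx, AlgEquiv.trans_apply, AlgEquiv.trans_apply, G.symm_apply_apply, G.symm_apply_apply,
      map_mul, (hscal _).2, jC_tmul]
  · obtain ⟨X, rfl⟩ := G.surjective x
    have h1 := exists_bc_formula he X
    have h2 := exists_bc_formula he' X
    let Y : Matrix ι ι (C ⊗[S] R) :=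
      Matrix.of fun k l => ∑ i, ∑ j, (W k j * W' i l) • lamC C lam (X i j)
    have hY : t.bc S lam C (G X) = G Y := by rw [hG, hG]; exact h1
    rw [hY, AlgEquiv.trans_apply, AlgEquiv.trans_apply, G.symm_apply_apply, G.symm_apply_apply,
      hG', hG']
    exact h2.symm

theorem isoAt_pi {t : LamInv R A lam} {t' : LamInv R A' lam} (κ : Type u) [Fintype κ]
    [DecidableEq κ] (C : κ → Type u) [∀ i, CommRing (C i)] [∀ i, Algebra S (C i)]
    (h : ∀ i, IsoAt t t' (C i)) : IsoAt t t' (∀ i, C i) := by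
  choose f hf₁ hf₂ using h
  let bA := Equiv.ofBijective _ (bijective_proj (M := A) S C)
  let bA' := Equiv.ofBijective _ (bijective_proj (M := A') S C)
  let F : (∀ i, C i) ⊗[S] A ≃ (∀ i, C i) ⊗[S] A' :=
    bA.trans ((Equiv.piCongrRight fun i => (f i).toEquiv).trans bA'.symm)
  have hF : ∀ x i, tmap (Pi.evalAlgHom S C i) (F x) = f i (tmap (Pi.evalAlgHom S C i) x) :=
    fun x i => congrFun (bA'.apply_symm_apply fun i => f i (bA x i)) i
  have hinj := (bijective_proj (M := A') S C).1
  let F' : (∀ i, C i) ⊗[S] A ≃+* (∀ i, C i) ⊗[S] A' :=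
    { F with
      map_mul' := fun x y => hinj (funext fun i => by
        show tmap _ (F (x * y)) = tmap _ (F x * F y)
        rw [hF, tmap_mul, tmap_mul, map_mul, hF, hF])
      map_add' := fun x y => hinj (funext fun i => by
        show tmap _ (F (x + y)) = tmap _ (F x + F y)
        rw [hF, map_add, map_add, map_add, hF, hF]) }
  refine ⟨AlgEquiv.ofRingEquiv (f := F') fun c => hinj (funext fun i => ?_),
    fun r x => hinj (funext fun i => ?_), fun x => hinj (funext fun i => ?_)⟩
  · show tmap _ (F (c ⊗ₜ[S] 1)) = tmap _ (c ⊗ₜ[S] 1)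
    rw [hF, tmap_tmul, tmap_tmul]
    exact (f i).commutes (c i)
  · show tmap _ (F _) = tmap _ (_ * F x)
    rw [hF, tmap_mul, tmap_mul, hF, tmap_tmul, tmap_tmul, map_one, hf₁]
  · show tmap _ (F _) = tmap _ (t'.bc S lam _ (F x))
    rw [hF, tmap_bc, tmap_bc, hF, hf₂]

theorem locIsoEt_of_local {t : LamInv R A lam} {t' : LamInv R A' lam}
    (h : ∀ p : PrimeSpectrum S, ∃ (C : Type u) (_ : CommRing C) (_ : Algebra S C),
      Algebra.Etale S C ∧ p ∈ Set.range (PrimeSpectrum.comap (algebraMap S C)) ∧ IsoAt t t' C) :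
    LocIsoEt S lam t t' := by
  obtain ⟨S', i₁, i₂, i₃, i₄, f, h₁, h₂⟩ :=
    exists_cover S (fun C _ _ => IsoAt t t' C) h fun κ _ _ C _ _ hC => isoAt_pi κ C hC
  exact ⟨S', i₁, i₂, i₃, i₄, f, h₁, h₂⟩

/-- Two algebras which at a point have standard units of the same shape are isomorphic nearby. -/
theorem isoAt_nbhd [Nonempty ι] {K : Type u} [Field K] [Algebra S K] {H : Type u} [CommRing H]
    [Algebra S H] {ρ : H →ₐ[S] K} (h : IsNbhdColim S K H ρ) (p : PrimeSpectrum S)
    (hker : RingHom.ker (algebraMap S K) = p.asIdeal)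
    (hA : IsAzumayaDeg R A (Fintype.card ι)) (hA' : IsAzumayaDeg R A' (Fintype.card ι))
    {t : LamInv R A lam} {t' : LamInv R A' lam} {W W' : Matrix ι ι ℤ}
    (he : HasStd H t W W') (he' : HasStd H t' W W') :
    ∃ (C : Type u) (_ : CommRing C) (_ : Algebra S C),
      Algebra.Etale S C ∧ p ∈ Set.range (PrimeSpectrum.comap (algebraMap S C)) ∧ IsoAt t t' C := by
  obtain ⟨C₁, _, _, _, τ₁, h₁⟩ := hasStd_nbhd h he
  obtain ⟨C₂, _, _, _, τ₂, h₂⟩ := hasStd_nbhd h he'
  haveI : Algebra.Etale S (C₁ ⊗[S] C₂) := Algebra.Etale.comp S C₁ (C₁ ⊗[S] C₂)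
  exact ⟨C₁ ⊗[S] C₂, inferInstance, inferInstance, inferInstance,
    mem_range h p hker (Algebra.TensorProduct.productMap τ₁ τ₂),
    isoAt_of_hasStd hA hA' (h₁.map Algebra.TensorProduct.includeLeft)
      (h₂.map Algebra.TensorProduct.includeRight)⟩

end Iso

end Groth.Agent.AzInvLib.Std
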