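import Groth.Agent.CSA.AzumayaSpread
import Groth.Agent.CSA.AzumayaCharpoly
import Groth.Agent.HenselLib.HenselizationProps
import Mathlib.RingTheory.Henselian
import Mathlib.FieldTheory.IsSepClosed
import Mathlib.FieldTheory.PurelyInseparable.Basic

/-!
# Azumaya algebras over strictly henselian local rings
-/

namespace Groth.Agent.AzInvLib.StrictSplit

open TensorProduct Polynomial IsLocalRing

universe u v

/-- Separable closedness transfers along ring isomorphisms. -/
theorem isSepClosed_of_ringEquiv {k K : Type*} [Field k] [Field K] (e : k ≃+* K) [IsSepClosed K] :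
    IsSepClosed k := by
  refine IsSepClosed.of_exists_root k fun p hp hirr hsep => ?_
  obtain ⟨x, hx⟩ := IsSepClosed.exists_root (p.map e.toRingHom)
    (by rw [degree_map]; exact hirr.degree_pos.ne') (hsep.map)
  refine ⟨e.symm x, e.injective ?_⟩
  rw [map_zero, ← hx.eq_zero]
  conv_rhs => rw [← e.apply_symm_apply x]
  exact (Polynomial.eval_map_apply e.toRingHom _).symm

/-- Over a henselian local ring with separably closed residue field Azumaya algebras are split. -/
theorem exists_split (R : Type u) [CommRing R] [HenselianLocalRing R] [IsSepClosed (ResidueField R)]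
    (A : Type v) [Ring A] [Algebra R A] [IsAzumaya R A] (n : ℕ)
    (hrk : ∀ p : PrimeSpectrum R, Module.rankAtStalk (R := R) A p = n ^ 2) :
    Nonempty (A ≃ₐ[R] Matrix (Fin n) (Fin n) R) := by
  obtain ⟨f, hf, F, r, hr, hF, hdeg, hcop, ⟨e⟩⟩ :=
    Groth.Agent.CSA.Azu.exists_split_near R A (maximalIdeal R)
  have hfu : IsUnit f := IsLocalRing.notMem_maximalIdeal.1 hf
  let g₀ : Localization.Away f →+* R := IsLocalization.Away.lift f (g := RingHom.id R) hfu
  have hg₀ : ∀ x, g₀ (algebraMap R _ x) = x := fun x => IsLocalization.Away.lift_eq f hfu x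
  let F₀ : R[X] := F.map g₀
  have hF₀ : F₀.Monic := hF.map g₀
  let k := ResidueField R
  have hsep : (F₀.map (residue R)).Separable := by
    rw [Polynomial.separable_def, derivative_map, derivative_map]
    exact (hcop.map (mapRingHom g₀)).map (mapRingHom (residue R))
  obtain ⟨x, hx⟩ := IsSepClosed.exists_root (F₀.map (residue R)) (by
    rw [degree_eq_natDegree (hF₀.map _).ne_zero, hF₀.natDegree_map, hF.natDegree_map, hdeg]
    exact_mod_cast (by omega : r ≠ 0)) hsep
  obtain ⟨a₀, rfl⟩ := residue_surjective x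
  obtain ⟨a, ha, -⟩ := HenselianLocalRing.is_henselian F₀ hF₀ a₀
    ((residue_eq_zero_iff _).1 (by rw [← Polynomial.eval_map_apply]; exact hx))
    (by
      by_contra hnu
      have h0 : residue R (F₀.derivative.eval a₀) = 0 := (residue_eq_zero_iff _).2 hnu
      rw [← Polynomial.eval_map_apply, ← derivative_map] at h0
      exact hsep.aeval_derivative_ne_zero (x := residue R a₀)
        (by rw [aeval_def, Algebra.algebraMap_self, eval₂_id]; exact hx)
        (by rw [aeval_def, Algebra.algebraMap_self, eval₂_id]; exact h0))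
  have hFa : F.eval₂ g₀ a = 0 := by rw [← eval_map]; exact ha
  let g : AdjoinRoot F →ₐ[R] R :=
    { AdjoinRoot.lift g₀ a hFa with
      commutes' := fun x => by
        rw [IsScalarTower.algebraMap_apply R (Localization.Away f) (AdjoinRoot F)]
        exact (AdjoinRoot.lift_of (h := hFa)).trans (hg₀ x) }
  let φ₀ : AdjoinRoot F ⊗[R] A ≃ₐ[AdjoinRoot F] Matrix (Fin r) (Fin r) (AdjoinRoot F) :=
    (AlgEquiv.ofLinearEquiv
      (TensorProduct.AlgebraTensorModule.cancelBaseChange R (Localization.Away f) (AdjoinRoot F)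
        (AdjoinRoot F) A).symm (by simp [Algebra.TensorProduct.one_def])
      (LinearMap.map_mul_of_map_mul_tmul (fun _ _ _ _ ↦ by simp))).trans e
  obtain ⟨φ, -⟩ := Groth.Agent.CSA.Azu.exists_splitting_baseChange R A (AdjoinRoot F) φ₀ R g
  let ψ := (Algebra.TensorProduct.lid R A).symm.trans φ
  obtain rfl : r = n := by
    have h := congr_fun (Module.rankAtStalk_eq_of_equiv ψ.toLinearEquiv) (closedPoint R)
    rw [hrk, Module.rankAtStalk_eq_finrank_of_free] at h
    simp [Module.finrank_matrix, sq] at h
    exact (Nat.mul_self_inj.1 h).symm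
  exact ⟨ψ⟩

/-- A field extension of a separably closed field in which squares and doubles come from the base
is separably closed. -/
theorem isSepClosed_of_sq {k κ : Type*} [Field k] [Field κ] [Algebra k κ] [IsSepClosed k]
    (h2 : ∀ x : κ, 2 * x ∈ (algebraMap k κ).range) (hsq : ∀ x : κ, x * x ∈ (algebraMap k κ).range) :
    IsSepClosed κ := by
  by_cases hk : (2 : k) = 0
  · haveI : CharP k 2 := CharTwo.of_one_ne_zero_of_two_eq_zero one_ne_zero hk
    haveI : Fact (Nat.Prime 2) := ⟨Nat.prime_two⟩
    haveI : ExpChar k 2 := ExpChar.prime Nat.prime_two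
    haveI : IsPurelyInseparable k κ := (isPurelyInseparable_iff_pow_mem k 2).2 fun x =>
      ⟨1, by rw [pow_one, pow_two]; exact hsq x⟩
    refine IsSepClosed.of_exists_root κ fun p hp hirr hsep => ?_
    haveI := Fact.mk hirr
    haveI : Algebra.IsAlgebraic k κ := inferInstance
    haveI : Module.Finite κ (AdjoinRoot p) := (AdjoinRoot.powerBasis hirr.ne_zero).finite
    haveI : Algebra.IsAlgebraic k (AdjoinRoot p) := Algebra.IsAlgebraic.trans k κ (AdjoinRoot p)
    haveI : IsPurelyInseparable k (AdjoinRoot p) := inferInstance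
    haveI : IsPurelyInseparable κ (AdjoinRoot p) := IsPurelyInseparable.tower_top k κ (AdjoinRoot p)
    have hs : IsSeparable κ (AdjoinRoot.root p) :=
      hsep.of_dvd (minpoly.dvd κ _ (by rw [AdjoinRoot.aeval_eq, AdjoinRoot.mk_self]))
    obtain ⟨y, hy⟩ := IsPurelyInseparable.inseparable κ (AdjoinRoot.root p) hs
    refine ⟨y, (algebraMap κ (AdjoinRoot p)).injective ?_⟩
    have := AdjoinRoot.eval₂_root p
    rw [← hy, ← AdjoinRoot.algebraMap_eq, Polynomial.eval₂_at_apply] at this
    rw [this, map_zero]
  · have hsurj : Function.Surjective (algebraMap k κ) := fun x => by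
      obtain ⟨y, hy⟩ := h2 x
      refine ⟨(2 : k)⁻¹ * y, ?_⟩
      rw [map_mul, hy, map_inv₀, map_ofNat, inv_mul_cancel_left₀]
      intro h
      apply hk
      apply (algebraMap k κ).injective
      rw [map_ofNat, h, map_zero]
    exact isSepClosed_of_ringEquiv (RingEquiv.ofBijective (algebraMap k κ)
      ⟨(algebraMap k κ).injective, hsurj⟩).symm

end Groth.Agent.AzInvLib.StrictSplit
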