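import Groth.Agent.AzInvLib.Types
import Mathlib.Data.Sym.Card
import Mathlib.LinearAlgebra.Dimension.Constructions
import Mathlib.LinearAlgebra.FiniteDimensional.Basic

/-!
# Dimensions of spaces of symmetric elements
-/

namespace Groth.Agent.AzInvLib.SymDim

open Module TensorProduct

universe u v w

section Field

variable {k : Type u} [Field k]

/-- Symmetrisation of matrices. -/
noncomputable def symm (k : Type u) [Field k] (n : ℕ) :
    Matrix (Fin n) (Fin n) k →ₗ[k] Matrix (Fin n) (Fin n) k :=
  LinearMap.id + (Matrix.transposeLinearEquiv (Fin n) (Fin n) k k).toLinearMap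

/-- Antisymmetrisation of matrices. -/
noncomputable def alt (k : Type u) [Field k] (n : ℕ) :
    Matrix (Fin n) (Fin n) k →ₗ[k] Matrix (Fin n) (Fin n) k :=
  LinearMap.id - (Matrix.transposeLinearEquiv (Fin n) (Fin n) k k).toLinearMap

theorem symm_apply {n : ℕ} (X : Matrix (Fin n) (Fin n) k) : symm k n X = X + X.transpose := rfl

theorem alt_apply {n : ℕ} (X : Matrix (Fin n) (Fin n) k) : alt k n X = X - X.transpose := rfl

theorem finrank_symm (h2 : (2 : k) ≠ 0) (n : ℕ) :
    finrank k (LinearMap.range (symm k n)) = (n + 1).choose 2 := by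
  let g : (Sym2 (Fin n) → k) →ₗ[k] Matrix (Fin n) (Fin n) k :=
    { toFun := fun f => Matrix.of fun i j => f s(i, j)
      map_add' := fun _ _ => rfl
      map_smul' := fun _ _ => rfl }
  have hg : Function.Injective g := fun f f' h => funext fun z => by
    induction z using Sym2.ind with
    | _ i j => exact congrFun (congrFun h i) j
  have hr : LinearMap.range (symm k n) = LinearMap.range g := by
    apply le_antisymm
    · rintro _ ⟨X, rfl⟩
      refine ⟨Sym2.lift ⟨fun i j => X i j + X j i, fun i j => add_comm _ _⟩, ?_⟩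
      ext i j
      rfl
    · rintro _ ⟨f, rfl⟩
      refine ⟨(2 : k)⁻¹ • g f, ?_⟩
      ext i j
      simp only [symm_apply, Matrix.add_apply, Matrix.transpose_apply, Matrix.smul_apply, smul_eq_mul]
      show (2 : k)⁻¹ * f s(i, j) + (2 : k)⁻¹ * f s(j, i) = f s(i, j)
      rw [Sym2.eq_swap (a := j), ← two_mul, ← mul_assoc, mul_inv_cancel₀ h2, one_mul]
  rw [hr, LinearMap.finrank_range_of_inj hg, Module.finrank_fintype_fun_eq_card, Sym2.card,
    Fintype.card_fin]

theorem finrank_alt (h2 : (2 : k) ≠ 0) (n : ℕ) (hn : 0 < n) :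
    finrank k (LinearMap.range (alt k n)) ≠ (n + 1).choose 2 := by
  have hr : LinearMap.range (alt k n) = LinearMap.ker (symm k n) := by
    apply le_antisymm
    · rintro _ ⟨X, rfl⟩
      simp only [LinearMap.mem_ker, symm_apply, alt_apply, Matrix.transpose_sub,
        Matrix.transpose_transpose]
      abel
    · intro X hX
      rw [LinearMap.mem_ker, symm_apply] at hX
      refine ⟨(2 : k)⁻¹ • X, ?_⟩
      rw [alt_apply, Matrix.transpose_smul, ← smul_sub, eq_neg_of_add_eq_zero_right hX, sub_neg_eq_add,
        ← two_smul k X, smul_smul, inv_mul_cancel₀ h2, one_smul]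
  intro hc
  have h := LinearMap.finrank_range_add_finrank_ker (symm k n)
  rw [finrank_symm h2, ← hr, hc, Module.finrank_matrix, Fintype.card_fin, Module.finrank_self,
    mul_one, ← two_mul, Nat.choose_two_right, Nat.mul_div_cancel'
      (Nat.two_dvd_mul_sub_one (n + 1)), Nat.add_sub_cancel, Nat.add_mul, one_mul] at h
  omega

/-- The range of a base change. -/
theorem finrank_range_baseChange {L : Type v} [Field L] [Algebra k L] {V W : Type w} [AddCommGroup V]
    [Module k V] [AddCommGroup W] [Module k W] (f : V →ₗ[k] W) :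
    finrank L (LinearMap.range (f.baseChange L)) = finrank k (LinearMap.range f) := by
  have hcomp : f.baseChange L = ((LinearMap.range f).subtype.baseChange L).comp
      (f.rangeRestrict.baseChange L) := by
    rw [← LinearMap.baseChange_comp]; rfl
  have hinj : Function.Injective ((LinearMap.range f).subtype.baseChange L) :=
    Module.Flat.lTensor_preserves_injective_linearMap _ (Submodule.injective_subtype _)
  have hsurj : Function.Surjective (f.rangeRestrict.baseChange L) :=
    LinearMap.lTensor_surjective L f.surjective_rangeRestrict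
  rw [hcomp, LinearMap.range_comp_of_range_eq_top _ (LinearMap.range_eq_top.2 hsurj),
    LinearMap.finrank_range_of_inj hinj, Module.finrank_baseChange]

end Field

section Tau

variable {R : Type u} [CommRing R] {σ : R → R} {A : Type w} [Ring A] [Algebra R A]
  (k : Type v) [Field k] [Algebra R k] (t : AzInv.LamInv R A σ)
  (hk : ∀ r, algebraMap R k (σ r) = algebraMap R k r)

/-- The involution of the fibre. -/
noncomputable def tau : k ⊗[R] A →ₗ[k] k ⊗[R] A :=
  let f : k →+ A →+ k ⊗[R] A := AddMonoidHom.mk'
    (fun c => AddMonoidHom.mk' (fun a => c ⊗ₜ[R] t a) fun a b => by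
      simp [t.map_add, TensorProduct.tmul_add])
    (fun c d => by ext a; simp [TensorProduct.add_tmul])
  let g : k ⊗[R] A →+ k ⊗[R] A := TensorProduct.liftAddHom f fun r c a => by
    show (r • c) ⊗ₜ[R] t a = c ⊗ₜ[R] t (r • a)
    rw [t.map_smul, ← TensorProduct.smul_tmul, Algebra.smul_def, Algebra.smul_def, hk]
  { g with
    map_smul' := fun c x => by
      induction x using TensorProduct.induction_on with
      | zero => simp
      | tmul d a => rfl
      | add a b ha hb =>
        simp only [AddMonoidHom.toFun_eq_coe, RingHom.id_apply] at ha hb ⊢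
        rw [smul_add, map_add, ha, hb, map_add, smul_add] }

@[simp] theorem tau_tmul (c : k) (a : A) : tau k t hk (c ⊗ₜ[R] a) = c ⊗ₜ[R] t a := rfl

theorem span_sym_eq (h2 : (2 : k) ≠ 0) (h2R : IsUnit (2 : R)) :
    Submodule.span k (Set.range fun a : {a : A // t a = a} => (1 : k) ⊗ₜ[R] (a : A)) =
      LinearMap.range (LinearMap.id + tau k t hk) := by
  apply le_antisymm
  · refine Submodule.span_le.2 ?_
    rintro _ ⟨⟨a, ha⟩, rfl⟩
    refine ⟨(2 : k)⁻¹ ⊗ₜ[R] a, ?_⟩
    simp only [LinearMap.add_apply, LinearMap.id_coe, id_eq, tau_tmul, ha]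
    rw [← TensorProduct.add_tmul, ← two_mul, mul_inv_cancel₀ h2]
  · rintro _ ⟨x, rfl⟩
    induction x using TensorProduct.induction_on with
    | zero => simp
    | add a b ha hb => rw [map_add]; exact add_mem ha hb
    | tmul c a =>
      have e : ((LinearMap.id : k ⊗[R] A →ₗ[k] k ⊗[R] A) + tau k t hk) (c ⊗ₜ[R] a) = c • ((1 : k) ⊗ₜ[R] (a + t a)) := by
        rw [TensorProduct.smul_tmul', smul_eq_mul, mul_one, TensorProduct.tmul_add]
        rfl
      rw [e]
      exact Submodule.smul_mem _ _ (Submodule.subset_span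
        ⟨⟨a + t a, by rw [t.map_add, t.invol, add_comm]⟩, rfl⟩)

end Tau

end Groth.Agent.AzInvLib.SymDim
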