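import Groth.Agent.AzInvLib.Models
import Mathlib.RingTheory.Spectrum.Prime.Topology

/-!
# Types of involutions
-/

namespace Groth.Agent.AzInvLib.Types

open TensorProduct AzInv Groth.Agent.HenselLib Groth.Agent.AzInvLib.Units Groth.Agent.AzInvLib.Std
  Groth.Agent.AzInvLib.Spread Groth.Agent.AzInvLib.Models

universe u v w w'

variable {S : Type u} {R : Type v} [CommRing S] [CommRing R] [Algebra S R] {lam : R ≃ₐ[S] R}
  {A : Type w} [Ring A] [Algebra S A] [Algebra R A] [IsScalarTower S R A]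
  {A' : Type w'} [Ring A'] [Algebra S A'] [Algebra R A'] [IsScalarTower S R A']

theorem hasStd_cast_one {C : Type u} [CommRing C] [Algebra S C] {t : LamInv R A lam} {a b : ℕ}
    (hab : a = b) (h : HasStd C t (1 : Matrix (Fin a) (Fin a) ℤ) 1) :
    HasStd C t (1 : Matrix (Fin b) (Fin b) ℤ) 1 := by
  subst hab; exact h

theorem hasStd_cast_stdJ {C : Type u} [CommRing C] [Algebra S C] {t : LamInv R A lam} {a b : ℕ}
    (hab : a = b) (h : HasStd C t (Herm.stdJ ℤ a) (-Herm.stdJ ℤ a)) :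
    HasStd C t (Herm.stdJ ℤ b) (-Herm.stdJ ℤ b) := by
  subst hab; exact h

/-- Algebras with the same normal form at every strictly henselian point are locally isomorphic. -/
theorem locIsoEt_of_points {N : ℕ} (hN : 0 < N) (hA : IsAzumayaDeg R A N) (hA' : IsAzumayaDeg R A' N)
    (t : LamInv R A lam) (t' : LamInv R A' lam)
    (hpt : ∀ (p : PrimeSpectrum S) (K : Type u) [Field K] [Algebra S K] [IsSepClosed K] (H : Type u)
      [CommRing H] [Algebra S H] (ρ : H →ₐ[S] K), RingHom.ker (algebraMap S K) = p.asIdeal →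
      IsNbhdColim S K H ρ →
      ∃ W W' : Matrix (Fin N) (Fin N) ℤ, HasStd H t W W' ∧ HasStd H t' W W') :
    LocIsoEt S lam t t' := by
  haveI : Nonempty (Fin N) := ⟨⟨0, hN⟩⟩
  refine locIsoEt_of_local fun p => ?_
  obtain ⟨K, _, _, H, _, _, ρ, hK, hker, h⟩ := Point.exists_point S p.asIdeal
  haveI := hK
  obtain ⟨W, W', h1, h2⟩ := hpt p K H ρ hker h
  exact isoAt_nbhd h p hker (by rwa [Fintype.card_fin]) (by rwa [Fintype.card_fin]) h1 h2

variable {K : Type u} [Field K] [Algebra S K] [IsSepClosed K] {H : Type u} [CommRing H] [Algebra S H]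
  {ρ : H →ₐ[S] K}

theorem isUnit_two (h2 : IsUnit (2 : S)) : IsUnit (2 : H) := by
  rw [← map_ofNat (algebraMap S H) 2]; exact h2.map _

theorem exists_sq_of_two (h : IsNbhdColim S K H ρ) (h2 : IsUnit (2 : S)) :
    ∀ x : H, IsUnit x → ∃ y, y * y = x :=
  PointFacts.exists_sq_of_two h (isUnit_two h2)

theorem nontrivial_tensor (h : IsNbhdColim S K H ρ) (hfix : RInv.IsFixedRing S R lam.toRingEquiv) :
    Nontrivial (H ⊗[S] R) := by
  haveI : Nontrivial H := ρ.toRingHom.domain_nontrivial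
  exact nontrivial_of_ne 1 0 fun e =>
    one_ne_zero (α := H) (RamPoint.includeLeft_injective hfix h (Algebra.TensorProduct.one_def.symm.trans e))

/-- Orthogonal and symplectic involutions do not have the same type. -/
theorem not_mixed (h : IsNbhdColim S K H ρ) (hlam : ∀ r, lam (lam r) = r)
    (hfix : RInv.IsFixedRing S R lam.toRingEquiv) (hr : RamPoint.IsRamified lam K)
    (h2 : IsUnit (2 : H)) {n n' m m' : ℕ} (hn : 0 < n) (hn' : 0 < n') (hm : 0 < m) (hm' : 0 < m')
    (he : Even n') (hA : IsAzumayaDeg R A n) (hA' : IsAzumayaDeg R A' n')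
    (t : LamInv R A lam) (t' : LamInv R A' lam)
    (hiso : IsoAt (t.matrix (Fin m)) (t'.matrix (Fin m')) H)
    (h₁ : HasStd H t (1 : Matrix (Fin n) (Fin n) ℤ) 1)
    (h₂ : HasStd H t' (Herm.stdJ ℤ n') (-Herm.stdJ ℤ n')) : False := by
  haveI := nontrivial_tensor h hfix
  have hM := isAzumayaDeg_matrix m hm hA
  have hM' := isAzumayaDeg_matrix m' hm' hA'
  haveI : Nonempty (Fin (m * n)) := ⟨⟨0, Nat.mul_pos hm hn⟩⟩
  haveI : Nonempty (Fin (m' * n')) := ⟨⟨0, Nat.mul_pos hm' hn'⟩⟩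
  have hu₁ := hasStd_matrix_one m h₁
  have hu₂ := hasStd_matrix_stdJ m' he h₂
  have hN : m * n = m' * n' := by
    have := card_eq_of_isoAt hiso (ι := Fin (m * n)) (ι' := Fin (m' * n'))
      (by rwa [Fintype.card_fin]) (by rwa [Fintype.card_fin])
      (by obtain ⟨e, he⟩ := hu₁; exact ⟨e, he.units⟩) (by obtain ⟨e, he⟩ := hu₂; exact ⟨e, he.units⟩)
    simpa using this
  exact Main.not_both h hlam hfix hr h2 (Nat.mul_pos hm hn) (hN ▸ he.mul_left m') hM (t.matrix (Fin m))
    hu₁ (hasStd_cast_stdJ hN.symm (HasStd.transfer (IsoAt.symm hiso) hu₂))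

theorem jC_expand {C : Type u} [CommRing C] [Algebra S C] {ι : Type} [Fintype ι] [DecidableEq ι]
    (M : Matrix ι ι R) :
    (1 : C) ⊗ₜ[S] M =
      ∑ k, ∑ l, jC C (Matrix ι ι R) ((1 : C) ⊗ₜ[S] M k l) * ((1 : C) ⊗ₜ[S] Matrix.single k l (1 : R)) := by
  conv_lhs => rw [Matrix.matrix_eq_sum_single M, TensorProduct.tmul_sum]
  refine Finset.sum_congr rfl fun k _ => ?_
  rw [TensorProduct.tmul_sum]
  refine Finset.sum_congr rfl fun l _ => ?_
  rw [jC_tmul, Algebra.TensorProduct.tmul_mul_tmul, mul_one, ← Algebra.smul_def, Matrix.smul_single,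
    smul_eq_mul, mul_one]

/-- Models given by congruence matrices with integral images. -/
theorem hasStd_model {C : Type u} [CommRing C] [Algebra S C] {ι : Type} [Fintype ι] [DecidableEq ι]
    (t : LamInv R (Matrix ι ι R) lam) (W W' : Matrix ι ι ℤ)
    (h : ∀ i j k l, (1 : C) ⊗ₜ[S] (t (Matrix.single i j (1 : R))) k l =
      ((W k j * W' i l : ℤ) : C ⊗[S] R)) :
    HasStd C t W W' := by
  refine hasStd_of_formula t W W' fun i j => ?_
  rw [LamInv.bc_tmul, jC_expand]
  refine Finset.sum_congr rfl fun k _ => Finset.sum_congr rfl fun l _ => ?_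
  rw [h, map_intCast, ← zsmul_eq_mul]

/-- The primes near which the normal form `W` occurs. -/
def nearSet {ι : Type} [Fintype ι] [DecidableEq ι] (t : LamInv R A lam) (W W' : Matrix ι ι ℤ) :
    Set (PrimeSpectrum S) :=
  {p | ∃ (C : Type u) (_ : CommRing C) (_ : Algebra S C), Algebra.Etale S C ∧
    p ∈ Set.range (PrimeSpectrum.comap (algebraMap S C)) ∧ HasStd C t W W'}

omit [IsSepClosed K] in
theorem isOpen_nearSet {ι : Type} [Fintype ι] [DecidableEq ι] (t : LamInv R A lam)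
    (W W' : Matrix ι ι ℤ) : IsOpen (nearSet t W W') := by
  refine isOpen_iff_forall_mem_open.2 fun p hp => ?_
  obtain ⟨C, i₁, i₂, hC, hp, hW⟩ := hp
  exact ⟨_, fun q hq => ⟨C, i₁, i₂, hC, hq, hW⟩,
    (PrimeSpectrum.isOpenMap_comap_of_hasGoingDown_of_finitePresentation
      (R := S) (S := C)).isOpen_range, hp⟩

theorem hasStd_of_mem_nearSet (h : IsNbhdColim S K H ρ) (p : PrimeSpectrum S)
    (hker : RingHom.ker (algebraMap S K) = p.asIdeal) {ι : Type} [Fintype ι] [DecidableEq ι]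
    {t : LamInv R A lam} {W W' : Matrix ι ι ℤ} (hp : p ∈ nearSet t W W') : HasStd H t W W' := by
  obtain ⟨C, _, _, _, hp, hW⟩ := hp
  obtain ⟨τ⟩ := Main.exists_hom_of_mem_range h p hker hp
  exact hW.map τ

theorem mem_nearSet_of_hasStd (h : IsNbhdColim S K H ρ) (p : PrimeSpectrum S)
    (hker : RingHom.ker (algebraMap S K) = p.asIdeal) {ι : Type} [Fintype ι] [DecidableEq ι]
    {t : LamInv R A lam} {W W' : Matrix ι ι ℤ} (hs : HasStd H t W W') : p ∈ nearSet t W W' := by
  obtain ⟨C, _, _, hC, τ, hP⟩ := hasStd_nbhd h hs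
  exact ⟨C, _, _, hC, mem_range h p hker τ, hP⟩

/-- The sign of an involution is cut out by an idempotent when everything is ramified. -/
theorem exists_sign_idem (hlam : ∀ r, lam (lam r) = r) (hfix : RInv.IsFixedRing S R lam.toRingEquiv)
    (h2 : IsUnit (2 : S))
    (hram : ∀ (K : Type u) [Field K] [Algebra S K] [IsSepClosed K] (H : Type u) [CommRing H]
      [Algebra S H] (ρ : H →ₐ[S] K), IsNbhdColim S K H ρ → RamPoint.IsRamified lam K)
    {n : ℕ} (hn : 0 < n) (hA : IsAzumayaDeg R A n) (t : LamInv R A lam) :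
    ∃ ε : S, IsIdempotentElem ε ∧
      ∀ (p : PrimeSpectrum S) (K : Type u) [Field K] [Algebra S K] [IsSepClosed K] (H : Type u)
        [CommRing H] [Algebra S H] (ρ : H →ₐ[S] K), RingHom.ker (algebraMap S K) = p.asIdeal →
        IsNbhdColim S K H ρ →
        (ε ∉ p.asIdeal → HasStd H t (1 : Matrix (Fin n) (Fin n) ℤ) 1) ∧
        (ε ∈ p.asIdeal → Even n ∧ HasStd H t (Herm.stdJ ℤ n) (-Herm.stdJ ℤ n)) := by
  let U := nearSet t (1 : Matrix (Fin n) (Fin n) ℤ) 1
  have key : ∀ (p : PrimeSpectrum S) (K : Type u) [Field K] [Algebra S K] [IsSepClosed K] (H : Type u)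
      [CommRing H] [Algebra S H] (ρ : H →ₐ[S] K), RingHom.ker (algebraMap S K) = p.asIdeal →
      IsNbhdColim S K H ρ → p ∈ U ∨ (Even n ∧ p ∈ nearSet t (Herm.stdJ ℤ n) (-Herm.stdJ ℤ n)) := by
    intro p K _ _ _ H _ _ ρ hker h
    rcases Main.hasStd h hlam hfix (exists_sq_of_two h h2) hn hA t (Or.inl (isUnit_two h2)) with
      hs | ⟨he, -, -, hs⟩
    · exact Or.inl (mem_nearSet_of_hasStd h p hker hs)
    · exact Or.inr ⟨he, mem_nearSet_of_hasStd h p hker hs⟩
  have hclopen : IsClopen U := by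
    refine ⟨⟨?_⟩, isOpen_nearSet t _ _⟩
    refine isOpen_iff_forall_mem_open.2 fun p hp => ?_
    obtain ⟨K, _, _, H, _, _, ρ, hK, hker, h⟩ := Point.exists_point S p.asIdeal
    haveI := hK
    obtain ⟨he, hpJ⟩ := (key p K H ρ hker h).resolve_left hp
    refine ⟨_, fun q hqJ hqU => ?_, isOpen_nearSet t (Herm.stdJ ℤ n) (-Herm.stdJ ℤ n), hpJ⟩
    obtain ⟨K', _, _, H', _, _, ρ', hK', hker', h'⟩ := Point.exists_point S q.asIdeal
    haveI := hK'
    exact Main.not_both h' hlam hfix (hram K' H' ρ' h') (isUnit_two h2) hn he hA t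
      (hasStd_of_mem_nearSet h' q hker' hqU) (hasStd_of_mem_nearSet h' q hker' hqJ)
  obtain ⟨ε, hε, hU⟩ := PrimeSpectrum.exists_idempotent_basicOpen_eq_of_isClopen hclopen
  refine ⟨ε, hε, fun p K _ _ _ H _ _ ρ hker h => ⟨fun hp => ?_, fun hp => ?_⟩⟩
  · exact hasStd_of_mem_nearSet h p hker (show p ∈ U by rw [hU]; exact hp)
  · have hp' : p ∉ U := by rw [hU]; exact fun hc => hc hp
    obtain ⟨he, hJ⟩ := (key p K H ρ hker h).resolve_left hp'
    exact ⟨he, hasStd_of_mem_nearSet h p hker hJ⟩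

end Groth.Agent.AzInvLib.Types
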