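import Groth.Prelude.Def_AzInv
import Groth.Agent.CSA.AzumayaEtale
import Mathlib.RingTheory.TensorProduct.Maps
import Mathlib.LinearAlgebra.FreeModule.Finite.Matrix
import Mathlib.Algebra.Azumaya.Matrix

/-!
# Systems of matrix units in base changes of Azumaya algebras with involution
-/

namespace Groth.Agent.AzInvLib.Units

open TensorProduct Module

universe u v w

/-- A system of matrix units. -/
structure IsUnits {ι : Type*} [Fintype ι] [DecidableEq ι] {B : Type*} [Ring B] (e : ι → ι → B) :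
    Prop where
  mul : ∀ i j k l, e i j * e k l = if j = k then e i l else 0
  sum : ∑ i, e i i = 1

theorem IsUnits.map {ι : Type*} [Fintype ι] [DecidableEq ι] {B B' : Type*} [Ring B] [Ring B']
    {e : ι → ι → B} (he : IsUnits e) {F : Type*} [FunLike F B B'] [RingHomClass F B B'] (f : F) :
    IsUnits fun i j => f (e i j) :=
  ⟨fun i j k l => by rw [← map_mul, he.mul]; split_ifs <;> simp,
   by rw [← map_sum, he.sum, map_one]⟩

theorem isUnits_single {ι : Type*} [Fintype ι] [DecidableEq ι] (B : Type*) [Ring B] :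
    IsUnits fun i j : ι => Matrix.single i j (1 : B) := by
  refine ⟨fun i j k l => ?_, ?_⟩
  · split_ifs with h
    · subst h; simp
    · simp [Matrix.single_mul_single_of_ne, h]
  · ext a b
    simp [Matrix.sum_apply, Matrix.single, Matrix.one_apply, Finset.sum_ite, Finset.filter_and,
      Finset.filter_eq']
    split_ifs <;> simp_all

/-- The homomorphism attached to matrix units. -/
noncomputable def hom {ι : Type*} [Fintype ι] [DecidableEq ι] {Z : Type*} [CommRing Z] {B : Type*}
    [Ring B] [Algebra Z B] (e : ι → ι → B) (he : IsUnits e) : Matrix ι ι Z →ₐ[Z] B where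
  toFun X := ∑ i, ∑ j, X i j • e i j
  map_one' := by simp [Matrix.one_apply, ite_smul, he.sum]
  map_mul' X Y := by
    simp only [Matrix.mul_apply, Finset.sum_mul, Finset.mul_sum, smul_mul_smul_comm, he.mul,
      smul_ite, smul_zero, Finset.sum_smul]
    rw [Finset.sum_comm]
    refine Eq.symm ?_
    rw [Finset.sum_comm]
    refine Finset.sum_congr rfl fun i _ => ?_
    rw [Finset.sum_comm]
    refine Finset.sum_congr rfl fun l _ => ?_
    simp
  map_zero' := by simp
  map_add' X Y := by simp [add_smul, Finset.sum_add_distrib]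
  commutes' z := by
    simp [Matrix.algebraMap_matrix_apply, ite_smul, ← Finset.smul_sum, he.sum,
      Algebra.algebraMap_eq_smul_one]

theorem hom_apply {ι : Type*} [Fintype ι] [DecidableEq ι] {Z : Type*} [CommRing Z] {B : Type*}
    [Ring B] [Algebra Z B] (e : ι → ι → B) (he : IsUnits e) (X : Matrix ι ι Z) :
    hom e he X = ∑ i, ∑ j, X i j • e i j := rfl

theorem bijective_hom {ι : Type*} [Fintype ι] [DecidableEq ι] [Nonempty ι] {Z : Type u} [CommRing Z]
    {B : Type v} [Ring B] [Algebra Z B] [IsAzumaya Z B]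
    (hrk : ∀ P : PrimeSpectrum Z, Module.rankAtStalk (R := Z) B P = Fintype.card ι ^ 2)
    (e : ι → ι → B) (he : IsUnits e) : Function.Bijective (hom (Z := Z) e he) := by
  haveI : IsAzumaya Z (Matrix ι ι Z) := IsAzumaya.matrix Z ι
  refine Groth.Agent.CSA.Azu.bijective_algHom Z (hom e he) fun m hm => ?_
  haveI := hm
  letI : Field (Z ⧸ m) := Ideal.Quotient.field m
  haveI : Nontrivial Z := Ideal.Quotient.mk_surjective.nontrivial (f := Ideal.Quotient.mk m)
  let P : PrimeSpectrum (Z ⧸ m) := ⟨⊥, Ideal.isPrime_bot⟩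
  have h1 := congr_fun (Module.rankAtStalk_eq_finrank_of_free (R := Z ⧸ m) (M := (Z ⧸ m) ⊗[Z] B)) P
  rw [Module.rankAtStalk_baseChange, hrk] at h1
  simp only [Pi.natCast_apply, Nat.cast_id, id_eq] at h1
  rw [← h1]
  simp [Module.finrank_baseChange, Module.finrank_matrix, sq]

section Kappa

variable {S : Type u} {R : Type v} [CommRing S] [CommRing R] [Algebra S R]
  (C : Type u) [CommRing C] [Algebra S C]
  (A : Type w) [Ring A] [Algebra S A] [Algebra R A] [IsScalarTower S R A]

attribute [local instance] Algebra.TensorProduct.rightAlgebra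

/-- The central map `C ⊗ R → C ⊗ A`. -/
noncomputable def jC : C ⊗[S] R →ₐ[C] C ⊗[S] A :=
  Algebra.TensorProduct.map (AlgHom.id C C) (IsScalarTower.toAlgHom S R A)

variable {C A}

@[simp] theorem jC_tmul (c : C) (r : R) :
    jC (S := S) (R := R) C A (c ⊗ₜ[S] r) = c ⊗ₜ algebraMap R A r := rfl

theorem jC_comm (z : C ⊗[S] R) (x : C ⊗[S] A) : jC C A z * x = x * jC C A z := by
  induction z using TensorProduct.induction_on with
  | zero => simp
  | add a b ha hb => simp [map_add, add_mul, mul_add, ha, hb]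
  | tmul c r =>
    induction x using TensorProduct.induction_on with
    | zero => simp
    | add a b ha hb => rw [mul_add, add_mul, ha, hb]
    | tmul d a => simp [mul_comm c d, Algebra.commutes r a]

theorem smul_eq_mul_right (r : R) (z : C ⊗[S] R) : r • z = ((1 : C) ⊗ₜ[S] r) * z :=
  Algebra.smul_def r z

variable (C A)

/-- Comparison of the two base changes. -/
theorem exists_kappa : ∃ κ : (C ⊗[S] R) ⊗[R] A ≃+* C ⊗[S] A,
    (∀ z a, κ (z ⊗ₜ a) = jC C A z * ((1 : C) ⊗ₜ[S] a)) ∧
      ∀ z, κ (algebraMap (C ⊗[S] R) _ z) = jC C A z := by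
  let f : C ⊗[S] R →+ A →+ C ⊗[S] A := AddMonoidHom.mk'
    (fun z => AddMonoidHom.mk' (fun a => jC C A z * ((1 : C) ⊗ₜ[S] a)) fun a b => by
      simp [TensorProduct.tmul_add, mul_add])
    (fun z z' => by ext a; simp [map_add, add_mul])
  let F : (C ⊗[S] R) ⊗[R] A →+ C ⊗[S] A := TensorProduct.liftAddHom f fun r z a => by
    show jC C A (r • z) * _ = jC C A z * ((1 : C) ⊗ₜ[S] (r • a))
    rw [smul_eq_mul_right, mul_comm, map_mul, jC_tmul, mul_assoc,
      Algebra.TensorProduct.tmul_mul_tmul, one_mul, ← Algebra.smul_def]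
  let g : C →+ A →+ (C ⊗[S] R) ⊗[R] A := AddMonoidHom.mk'
    (fun c => AddMonoidHom.mk' (fun a => (c ⊗ₜ[S] (1 : R)) ⊗ₜ[R] a) fun a b => by
      simp [TensorProduct.tmul_add])
    (fun c c' => by ext a; simp [TensorProduct.add_tmul])
  let G : C ⊗[S] A →+ (C ⊗[S] R) ⊗[R] A := TensorProduct.liftAddHom g fun s c a => by
    show ((s • c) ⊗ₜ[S] (1 : R)) ⊗ₜ[R] a = (c ⊗ₜ[S] (1 : R)) ⊗ₜ[R] (s • a)
    rw [← algebraMap_smul R s a, ← TensorProduct.smul_tmul, smul_eq_mul_right,
      Algebra.TensorProduct.tmul_mul_tmul, one_mul, mul_one, TensorProduct.smul_tmul,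
      Algebra.algebraMap_eq_smul_one]
  have hF : ∀ z a, F (z ⊗ₜ a) = jC C A z * ((1 : C) ⊗ₜ[S] a) := fun _ _ => rfl
  have hG : ∀ c a, G (c ⊗ₜ a) = (c ⊗ₜ[S] (1 : R)) ⊗ₜ[R] a := fun _ _ => rfl
  have hGF : ∀ x, G (F x) = x := by
    intro x
    induction x using TensorProduct.induction_on with
    | zero => simp
    | add a b ha hb => simp [map_add, ha, hb]
    | tmul z a =>
      induction z using TensorProduct.induction_on with
      | zero => simp
      | add z z' hz hz' => rw [TensorProduct.add_tmul, map_add, map_add, hz, hz']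
      | tmul c r =>
        rw [hF, jC_tmul, Algebra.TensorProduct.tmul_mul_tmul, mul_one, hG, ← Algebra.smul_def,
          ← TensorProduct.smul_tmul, smul_eq_mul_right, Algebra.TensorProduct.tmul_mul_tmul,
          one_mul, mul_one]
  have hFG : ∀ y, F (G y) = y := by
    intro y
    induction y using TensorProduct.induction_on with
    | zero => simp
    | add a b ha hb => simp [map_add, ha, hb]
    | tmul c a => rw [hG, hF]; simp
  have hmul : ∀ x y, F (x * y) = F x * F y := by
    intro x y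
    induction x using TensorProduct.induction_on with
    | zero => simp
    | add a b ha hb => simp [add_mul, map_add, ha, hb]
    | tmul z a =>
      induction y using TensorProduct.induction_on with
      | zero => simp
      | add a b ha hb => simp [mul_add, map_add, ha, hb]
      | tmul z' a' =>
        rw [Algebra.TensorProduct.tmul_mul_tmul, hF, hF, hF, map_mul]
        rw [mul_assoc (jC C A z) (1 ⊗ₜ[S] a), ← mul_assoc (1 ⊗ₜ[S] a) (jC C A z') (1 ⊗ₜ[S] a'),
          ← jC_comm z' (1 ⊗ₜ[S] a), mul_assoc (jC C A z') (1 ⊗ₜ[S] a) (1 ⊗ₜ[S] a'),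
          Algebra.TensorProduct.tmul_mul_tmul, mul_one, ← mul_assoc]
  refine ⟨{ toFun := F, invFun := G, left_inv := hGF, right_inv := hFG, map_mul' := hmul,
            map_add' := map_add F }, hF, fun z => ?_⟩
  show F (z ⊗ₜ[R] (1 : A)) = _
  rw [hF, ← Algebra.TensorProduct.one_def, mul_one]

variable {C A}

/-- Matrix units trivialise. -/
theorem exists_equiv {ι : Type*} [Fintype ι] [DecidableEq ι] [Nonempty ι]
    (hA : AzInv.IsAzumayaDeg R A (Fintype.card ι)) (e : ι → ι → C ⊗[S] A) (he : IsUnits e) :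
    ∃ G : Matrix ι ι (C ⊗[S] R) ≃ₐ[C] C ⊗[S] A,
      ∀ X, G X = ∑ i, ∑ j, jC C A (X i j) * e i j := by
  obtain ⟨κ, hκ, hκ'⟩ := exists_kappa (S := S) (R := R) C A
  haveI := hA.1
  haveI := Groth.Agent.CSA.Azu.isAzumaya_baseChange (R := R) (C ⊗[S] R) A
  let e' : ι → ι → (C ⊗[S] R) ⊗[R] A := fun i j => κ.symm (e i j)
  have hb := bijective_hom (Z := C ⊗[S] R) (fun P => by rw [Module.rankAtStalk_baseChange, hA.2])
    e' (he.map κ.symm)
  let E := (RingEquiv.ofBijective (hom (Z := C ⊗[S] R) e' (he.map κ.symm)).toRingHom hb).trans κ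
  have hE : ∀ X, E X = ∑ i, ∑ j, jC C A (X i j) * e i j := fun X => by
    show κ (hom (Z := C ⊗[S] R) e' (he.map κ.symm) X) = _
    rw [hom_apply, map_sum]
    refine Finset.sum_congr rfl fun i _ => ?_
    rw [map_sum]
    refine Finset.sum_congr rfl fun j _ => ?_
    rw [Algebra.smul_def, map_mul, hκ']
    simp [e']
  refine ⟨AlgEquiv.ofRingEquiv (f := E) fun c => ?_, hE⟩
  rw [hE]
  simp [Matrix.algebraMap_matrix_apply, apply_ite, ite_mul, ← Finset.mul_sum, he.sum, jC]

end Kappa

end Groth.Agent.AzInvLib.Units
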